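import Groth.Agent.H18Et.FEtRestrictApps
import Groth.Agent.H9Hens.ProperPairApps

/-!
# Restriction of finite étale covers to the closed fibre of a henselian couple is fully faithful
-/

set_option autoImplicit false
set_option linter.style.haveILetI false
set_option backward.isDefEq.respectTransparency false

universe u

open CategoryTheory CategoryTheory.Limits AlgebraicGeometry

namespace Groth.Agent.H18PBC.PairFF

open H18Et.FEtRestrict

variable {X X₀ : Scheme.{u}} (i : X₀ ⟶ X)
  (hX : ∀ (Y : Scheme.{u}) (g : Y ⟶ X), IsFinite g → ∀ V : Set ↥(pullback g i), IsClopen V →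
    ∃! U : Set ↥Y, IsClopen U ∧ (pullback.fst g i).base ⁻¹' U = V)

include hX in
theorem fullyFaithful_of_couple : (FEt.restrict i).Full ∧ (FEt.restrict i).Faithful := by
  have h1 : MeetsClopens i := fun V hV hne => by
    by_contra hcon
    obtain ⟨U, -, hu⟩ := hX X (𝟙 X) inferInstance ∅ isClopen_empty
    have h0 : (pullback.fst (𝟙 X) i).base ⁻¹' V = ∅ := Set.eq_empty_of_forall_notMem fun x hx =>
      hcon ⟨_, hx, pullback.snd (𝟙 X) i x, by
        rw [← Scheme.Hom.comp_apply, ← pullback.condition, Category.comp_id]⟩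
    have := (hu V ⟨hV, h0⟩).trans (hu ∅ ⟨isClopen_empty, Set.preimage_empty⟩).symm
    exact hne.ne_empty this
  have h2 : ClopensDescend i := fun P W hW => by
    obtain ⟨U, hU, -⟩ := hX P.left P.hom P.prop.1 W hW
    exact ⟨U, hU.1, hU.2⟩
  exact ⟨full i h1 h2, faithful i h1⟩

theorem fullyFaithful_pair {A : Type u} [CommRing A] (I : Ideal A) [HenselianRing A I] {X : Scheme.{u}}
    (f : X ⟶ Spec (CommRingCat.of A)) [IsProper f] :
    (FEt.restrict (pullback.fst f (Spec.map (CommRingCat.ofHom (Ideal.Quotient.mk I))))).Full ∧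
      (FEt.restrict (pullback.fst f (Spec.map (CommRingCat.ofHom (Ideal.Quotient.mk I))))).Faithful :=
  fullyFaithful_of_couple _ (H9Hens.ProperPairApps.henselian_couple_fibre I f)

end Groth.Agent.H18PBC.PairFF
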