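import Groth.Agent.H18PBC.Approx
import Groth.Agent.H18PBC.PairFF
import Groth.Agent.H02CA.HensApprox.Main
import Groth.Agent.H7Lim.Proper.Descend
import Groth.Agent.H7Lim.Approx.Consequences
import Groth.Agent.S2079

/-!
# Finite étale covers of a proper scheme over a henselian pair and of its closed fibre
-/

set_option autoImplicit false
set_option linter.style.haveILetI false
set_option backward.isDefEq.respectTransparency false

universe u

open CategoryTheory CategoryTheory.Limits AlgebraicGeometry Opposite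

namespace Groth.Agent.H18PBC.PairEquiv

open H18Et.FEtLimit

theorem isGRing_of_finiteType_int {R : Type u} [CommRing R] [Algebra.FiniteType ℤ R] : CAlg.IsGRing R := by
  letI : Algebra (ULift.{u} ℤ) R := ((algebraMap ℤ R).comp (ULift.ringEquiv (R := ℤ)).toRingHom).toAlgebra
  haveI : Algebra.FiniteType (ULift.{u} ℤ) R := RingHom.finiteType_algebraMap.mp
    (RingHom.FiniteType.of_comp_finiteType (f := (ULift.ringEquiv (R := ℤ)).symm.toRingHom) (by
      rw [RingHom.eq_intCast' ((algebraMap (ULift.{u} ℤ) R).comp _), ← RingHom.eq_intCast' (algebraMap ℤ R)]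
      exact RingHom.finiteType_algebraMap.mpr ‹_›))
  exact H05EGA4.isGRing_of_finiteType (R := ULift.{u} ℤ) H02CA.HensApprox.isGRing_int

open SubalgSystem in
set_option maxHeartbeats 1000000 in
/-- The finitely presented case. -/
theorem exists_cover_lfp {A : Type u} [CommRing A] (I : Ideal A) [HenselianRing A I] {X X₀ : Scheme.{u}}
    (f : X ⟶ Spec (CommRingCat.of A)) [IsProper f] [LocallyOfFinitePresentation f]
    (i : X₀ ⟶ X) (s : X₀ ⟶ Spec (CommRingCat.of (A ⧸ I)))
    (h : IsPullback i s f (Spec.map (CommRingCat.ofHom (Ideal.Quotient.mk I)))) (V : FEt.Cat X₀) :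
    ∃ W : FEt.Cat X, Nonempty ((FEt.restrict i).obj W ≅ V) := by
  haveI : Nonempty (Finset A) := ⟨∅⟩
  let D := specSystem ℤ A
  let c := specCone ℤ A
  have hc : IsLimit c := isLimitSpecCone ℤ A
  obtain ⟨i₁, ⟨M⟩⟩ := H7Lim.FPDescent.exists_model hc (show X ⟶ c.pt from f)
  have hp : IsProper (pullback.snd M.p (c.π.app i₁)) :=
    (H7Lim.prop_iff_of_isPullback (P := @IsProper) M.hpb).mp ‹IsProper f›
  haveI : CompactSpace M.P := QuasiCompact.compactSpace_of_compactSpace M.p
  haveI : QuasiSeparatedSpace M.P := quasiSeparatedSpace_of_quasiSeparated M.p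
  obtain ⟨j, φ, hj⟩ := H7Lim.descends_isProper (Finset A)ᵒᵖ D c hc i₁ M.p inferInstance hp
  let fj := pullback.snd M.p (D.map φ)
  haveI : IsProper fj := hj
  let gj : X ⟶ pullback M.p (D.map φ) :=
    pullback.lift M.g (f ≫ c.π.app j) (by rw [M.hpb.w, Category.assoc, c.w])
  have h₁ : IsPullback gj f fj (c.π.app j) := by
    refine IsPullback.of_right (h₁₂ := pullback.fst M.p (D.map φ)) (h₂₂ := D.map φ) (v₁₃ := M.p) ?_
      (pullback.lift_snd _ _ _) (IsPullback.of_hasPullback _ _)
    rw [pullback.lift_fst, c.w]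
    exact M.hpb
  -- descend the cover
  let E := quotSystem ℤ A I
  let cE := quotCone ℤ A I
  let mk : ∀ k : (Finset A)ᵒᵖ, E.obj k ⟶ D.obj k := fun k =>
    Spec.map (CommRingCat.ofHom (Ideal.Quotient.mk (trace ℤ A I k.unop)))
  have hmk : ∀ {k l : (Finset A)ᵒᵖ} (ψ : k ⟶ l), E.map ψ ≫ mk l = mk k ≫ D.map ψ := fun {k l} ψ =>
    (Spec.map_comp _ _).symm.trans ((congrArg Spec.map
      (show CommRingCat.ofHom (Ideal.Quotient.mk (trace ℤ A I l.unop)) ≫ (quotFunctor ℤ A I).map ψ.unop =
          (subalgFunctor ℤ A).map ψ.unop ≫ CommRingCat.ofHom (Ideal.Quotient.mk (trace ℤ A I k.unop)) from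
        (quotProj ℤ A I).naturality ψ.unop |>.symm)).trans (Spec.map_comp _ _))
  have hmkπ : ∀ k, cE.π.app k ≫ mk k = Spec.map (CommRingCat.ofHom (Ideal.Quotient.mk I)) ≫ c.π.app k :=
    fun k => (Spec.map_comp _ _).symm.trans ((congrArg Spec.map
      (show CommRingCat.ofHom (Ideal.Quotient.mk (trace ℤ A I k.unop)) ≫ (quotCocone ℤ A I).ι.app k.unop =
          (subalgCocone ℤ A).ι.app k.unop ≫ CommRingCat.ofHom (Ideal.Quotient.mk I) from rfl)).trans
      (Spec.map_comp _ _))
  let aT : pullback fj (mk j) ⟶ E.obj j := pullback.snd fj (mk j)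
  haveI : IsProper aT := MorphismProperty.pullback_snd _ _ inferInstance
  haveI : CompactSpace ↥(pullback fj (mk j)) := QuasiCompact.compactSpace_of_compactSpace aT
  haveI : QuasiSeparatedSpace ↥(pullback fj (mk j)) := quasiSeparatedSpace_of_quasiSeparated aT
  have hP := (IsPullback.of_hasPullback aT (cE.π.app j)).paste_horiz (IsPullback.of_hasPullback fj (mk j))
  have hX := h.paste_horiz h₁
  rw [← hmkπ j] at hX
  let κ : X₀ ≅ pullback aT (cE.π.app j) := hX.isoPullback ≪≫ hP.isoPullback.symm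
  have κfst : κ.hom ≫ pullback.fst aT (cE.π.app j) ≫ pullback.fst fj (mk j) = i ≫ gj := by
    simp only [κ, Iso.trans_hom, Iso.symm_hom, Category.assoc]
    rw [hP.isoPullback_inv_fst, hX.isoPullback_hom_fst]
  have κsnd : κ.hom ≫ pullback.snd aT (cE.π.app j) = s := by
    simp only [κ, Iso.trans_hom, Iso.symm_hom, Category.assoc]
    rw [hP.isoPullback_inv_snd, hX.isoPullback_hom_snd]
  obtain ⟨k, Vk, ⟨ek⟩⟩ := exists_stage_obj (H7Lim.isLimitPbCone E j aT (isLimitQuotCone ℤ A I))
    ((FEt.restrict κ.inv).obj V)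
  -- the data over the finitely generated subring
  let R := ↥(Algebra.adjoin ℤ ((k.left.unop : Finset A) : Set A))
  haveI : Algebra.FiniteType ℤ R :=
    (Algebra.adjoin ℤ ((k.left.unop : Finset A) : Set A)).fg_iff_finiteType.1 ⟨k.left.unop, rfl⟩
  letI : Algebra R A := (Algebra.adjoin ℤ ((k.left.unop : Finset A) : Set A)).val.toRingHom.toAlgebra
  let fR := pullback.snd fj (D.map k.hom)
  haveI : IsProper fR := MorphismProperty.pullback_snd _ _ inferInstance
  let g : X ⟶ pullback fj (D.map k.hom) := pullback.lift gj (f ≫ c.π.app k.left)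
    (by rw [h₁.w, Category.assoc, c.w])
  let T := pullback aT (E.map k.hom)
  let iT : T ⟶ pullback fj (D.map k.hom) := pullback.lift
    (pullback.fst aT (E.map k.hom) ≫ pullback.fst fj (mk j)) (pullback.snd aT (E.map k.hom) ≫ mk k.left)
    (by rw [Category.assoc, pullback.condition, ← Category.assoc, pullback.condition, Category.assoc,
      hmk, Category.assoc])
  have hT : IsPullback iT (pullback.snd aT (E.map k.hom)) fR (mk k.left) := by
    refine IsPullback.of_right (h₁₂ := pullback.fst fj (D.map k.hom)) (h₂₂ := D.map k.hom) (v₁₃ := fj) ?_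
      (pullback.lift_snd _ _ _) (IsPullback.of_hasPullback _ _)
    rw [pullback.lift_fst, ← hmk]
    exact (IsPullback.of_hasPullback aT (E.map k.hom)).paste_horiz (IsPullback.of_hasPullback fj (mk j))
  let b : X₀ ⟶ T := κ.hom ≫ (H7Lim.pbCone E cE j aT).π.app k
  have hb2 : b ≫ pullback.snd aT (E.map k.hom) = s ≫ cE.π.app k.left := by
    simp only [b, H7Lim.pbCone_π_app, pullback.map, Category.assoc, pullback.lift_snd]
    rw [← Category.assoc, κsnd]
  have hb1 : b ≫ iT = i ≫ g := by
    refine pullback.hom_ext ?_ ?_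
    · simp only [g, iT, Category.assoc, pullback.lift_fst]
      simp only [b, H7Lim.pbCone_π_app, pullback.map, Category.assoc, pullback.lift_fst_assoc,
        Category.id_comp]
      exact κfst
    · simp only [g, iT, Category.assoc, pullback.lift_snd]
      rw [← Category.assoc, hb2, Category.assoc, hmkπ, ← Category.assoc, ← h.w, Category.assoc]
  obtain ⟨W, ⟨eW⟩⟩ := Approx.exists_cover_approx (R := R) isGRing_of_finiteType_int
    (trace ℤ A I k.left.unop) I le_rfl fR iT (pullback.snd aT (E.map k.hom)) hT f g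
    (pullback.lift_snd _ _ _) i s h.w b hb1 hb2 Vk
  exact ⟨W, ⟨eW ≪≫ (restrictCompIso κ.hom _ b rfl Vk).symm ≪≫ (FEt.restrict κ.hom).mapIso ek ≪≫
    Approx.restrictInvIso κ.hom_inv_id V⟩⟩

set_option maxHeartbeats 1000000 in
/-- **Essential surjectivity.** -/
theorem exists_cover {A : Type u} [CommRing A] (I : Ideal A) [HenselianRing A I] {X X₀ : Scheme.{u}}
    (f : X ⟶ Spec (CommRingCat.of A)) [IsProper f]
    (i : X₀ ⟶ X) (s : X₀ ⟶ Spec (CommRingCat.of (A ⧸ I)))
    (h : IsPullback i s f (Spec.map (CommRingCat.ofHom (Ideal.Quotient.mk I)))) (V : FEt.Cat X₀) :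
    ∃ W : FEt.Cat X, Nonempty ((FEt.restrict i).obj W ≅ V) := by
  obtain ⟨J, _, _, D, c, hc, e, hcl, hD⟩ := Groth.Agent.S2079.result f
  obtain ⟨hc'⟩ := H7Lim.Approx.nonempty_isLimit_forget hc
  let E := D ⋙ Over.forget (Spec (CommRingCat.of A))
  let cE := (Over.forget (Spec (CommRingCat.of A))).mapCone c
  haveI : ∀ (a b : J) (φ : a ⟶ b), IsAffineHom (E.map φ) := fun a b φ => by
    haveI := hcl a b φ
    exact inferInstanceAs (IsAffineHom (D.map φ).left)
  haveI : ∀ a, CompactSpace (E.obj a) := fun a => by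
    haveI := (hD a).2.1
    exact QuasiCompact.compactSpace_of_compactSpace (D.obj a).hom
  haveI : ∀ a, QuasiSeparatedSpace (E.obj a) := fun a => by
    haveI := (hD a).2.1
    exact quasiSeparatedSpace_of_quasiSeparated (D.obj a).hom
  obtain ⟨j₀⟩ := IsCofiltered.nonempty (C := J)
  let m := Spec.map (CommRingCat.ofHom (Ideal.Quotient.mk I))
  haveI : IsClosedImmersion m := IsClosedImmersion.spec_of_surjective _ Ideal.Quotient.mk_surjective
  let aT : pullback (D.obj j₀).hom m ⟶ E.obj j₀ := pullback.fst (D.obj j₀).hom m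
  haveI : IsClosedImmersion aT := MorphismProperty.pullback_fst _ _ inferInstance
  haveI : CompactSpace ↥(pullback (D.obj j₀).hom m) := QuasiCompact.compactSpace_of_compactSpace aT
  haveI : QuasiSeparatedSpace ↥(pullback (D.obj j₀).hom m) := quasiSeparatedSpace_of_quasiSeparated aT
  have hP : IsPullback (pullback.snd aT (cE.π.app j₀))
      (pullback.fst aT (cE.π.app j₀) ≫ pullback.snd (D.obj j₀).hom m) c.pt.hom m := by
    rw [show c.pt.hom = (c.π.app j₀).left ≫ (D.obj j₀).hom from (Over.w (c.π.app j₀)).symm]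
    exact (IsPullback.of_hasPullback aT (cE.π.app j₀)).flip.paste_vert
      (IsPullback.of_hasPullback (D.obj j₀).hom m)
  let e' : c.pt.left ≅ X := (Over.forget _).mapIso e
  have hX : IsPullback (i ≫ e'.inv) s c.pt.hom m :=
    h.of_iso (Iso.refl _) e'.symm (Iso.refl _) (Iso.refl _) (by simp) (by simp)
      (by
        simp only [Iso.refl_hom, Category.comp_id, Iso.symm_hom]
        exact (Over.w e.inv).symm) (by simp [m])
  let κ : X₀ ≅ pullback aT (cE.π.app j₀) := hX.isoPullback ≪≫ hP.isoPullback.symm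
  have κsnd : κ.hom ≫ pullback.snd aT (cE.π.app j₀) = i ≫ e'.inv := by
    simp only [κ, Iso.trans_hom, Iso.symm_hom, Category.assoc]
    rw [hP.isoPullback_inv_fst, hX.isoPullback_hom_fst]
  obtain ⟨k, Vk, ⟨ek⟩⟩ := exists_stage_obj (H7Lim.isLimitPbCone E j₀ aT hc') ((FEt.restrict κ.inv).obj V)
  haveI := (hD k.left).2.1
  haveI := (hD k.left).2.2
  have hk : IsPullback (pullback.snd aT (E.map k.hom))
      (pullback.fst aT (E.map k.hom) ≫ pullback.snd (D.obj j₀).hom m) (D.obj k.left).hom m := by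
    rw [show (D.obj k.left).hom = (D.map k.hom).left ≫ (D.obj j₀).hom from (Over.w (D.map k.hom)).symm]
    exact (IsPullback.of_hasPullback aT (E.map k.hom)).flip.paste_vert
      (IsPullback.of_hasPullback (D.obj j₀).hom m)
  obtain ⟨Wk, ⟨eWk⟩⟩ := exists_cover_lfp I (D.obj k.left).hom _ _ hk Vk
  refine ⟨(FEt.restrict (e'.inv ≫ cE.π.app k.left)).obj Wk, ⟨?_⟩⟩
  exact Approx.restrictEqIso (f' := κ.hom ≫ (H7Lim.pbCone E cE j₀ aT).π.app k) (g' := pullback.snd aT (E.map k.hom))
      (by
        simp only [H7Lim.pbCone_π_app, pullback.map, Category.assoc, pullback.lift_snd]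
        rw [reassoc_of% κsnd]) Wk ≪≫
    (restrictCompIso κ.hom _ _ rfl _).symm ≪≫
    (FEt.restrict κ.hom).mapIso ((FEt.restrict _).mapIso eWk ≪≫ ek) ≪≫
    Approx.restrictInvIso κ.hom_inv_id V

/-- **Restriction to the closed fibre is an equivalence.** -/
theorem isEquivalence {A : Type u} [CommRing A] (I : Ideal A) [HenselianRing A I] {X : Scheme.{u}}
    (f : X ⟶ Spec (CommRingCat.of A)) [IsProper f] :
    (FEt.restrict (pullback.fst f (Spec.map (CommRingCat.ofHom (Ideal.Quotient.mk I))))).IsEquivalence := by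
  obtain ⟨h1, h2⟩ := PairFF.fullyFaithful_pair I f
  haveI : (FEt.restrict (pullback.fst f (Spec.map (CommRingCat.ofHom (Ideal.Quotient.mk I))))).EssSurj :=
    ⟨fun V => exists_cover I f _ _ (IsPullback.of_hasPullback _ _) V⟩
  exact { }

end Groth.Agent.H18PBC.PairEquiv
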