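import Groth.Prelude.Def_CohB1
import Groth.Agent.H7Flat.LocalCriterion
import Groth.Agent.H9Hens.StalkUnramified
import Mathlib.AlgebraicGeometry.Morphisms.Proper

/-!
# A finite morphism with étale truncations is étale

For `X` proper over `Spec A` (`A` Noetherian, `I` in the Jacobson radical) and `c : W ⟶ X` finite,
étaleness of all base changes of `c` to `X ×_A Spec (A/I^(n+1))` gives étaleness of `c`.
-/

set_option autoImplicit false
set_option linter.style.haveILetI false
set_option backward.isDefEq.respectTransparency false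

universe u

open CategoryTheory CategoryTheory.Limits AlgebraicGeometry TensorProduct

namespace Groth.Agent.H18PBC.FormalEtale

/-- Flatness of the stalk maps along `V(J)` from flatness of all truncations. -/
theorem flat_stalkMap_Spec {R C : Type u} [CommRing R] [IsNoetherianRing R] [CommRing C] [Algebra R C]
    [Module.Finite R C] (J : Ideal R)
    (h : ∀ n : ℕ, Flat (pullback.snd (Spec.map (CommRingCat.ofHom (algebraMap R C)))
      (Spec.map (CommRingCat.ofHom (Ideal.Quotient.mk (J ^ (n + 1)))))))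
    (q : PrimeSpectrum C) (hq : J.map (algebraMap R C) ≤ q.asIdeal) :
    ((Spec.map (CommRingCat.ofHom (algebraMap R C))).stalkMap q).hom.Flat := by
  haveI : IsNoetherianRing C := IsNoetherianRing.of_finite R C
  have h1 : ∀ n : ℕ, Module.Flat (R ⧸ J ^ n) ((R ⧸ J ^ n) ⊗[R] C) := by
    rintro (_ | n)
    · haveI : Subsingleton (R ⧸ J ^ 0) := Ideal.Quotient.subsingleton_iff.2 (by rw [pow_zero, Ideal.one_eq_top])
      haveI : Subsingleton ((R ⧸ J ^ 0) ⊗[R] C) := Module.subsingleton (R ⧸ J ^ 0) _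
      infer_instance
    · rw [← RingHom.flat_algebraMap_iff]
      show (CommRingCat.ofHom (algebraMap (R ⧸ J ^ (n + 1)) ((R ⧸ J ^ (n + 1)) ⊗[R] C))).hom.Flat
      rw [← HasRingHomProperty.Spec_iff (P := @Flat)]
      have hp := (IsPullback.of_hasPullback (Spec.map (CommRingCat.ofHom (algebraMap R (R ⧸ J ^ (n + 1)))))
        (Spec.map (CommRingCat.ofHom (algebraMap R C))))
      rw [show Spec.map (CommRingCat.ofHom (algebraMap (R ⧸ J ^ (n + 1)) ((R ⧸ J ^ (n + 1)) ⊗[R] C))) =
        (pullbackSpecIso R (R ⧸ J ^ (n + 1)) C).inv ≫ pullback.fst _ _ from (pullbackSpecIso_inv_fst ..).symm]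
      rw [MorphismProperty.cancel_left_of_respectsIso @Flat]
      exact (MorphismProperty.cancel_left_of_respectsIso @Flat (pullbackSymmetry _ _).hom _).mp
        (by rw [pullbackSymmetry_hom_comp_fst]; exact h n)
  have h2 : Module.Flat R (LocalizedModule q.asIdeal.primeCompl C) :=
    H7Flat.flat_localizedModule_of_flat_quotients J h1 q.asIdeal hq
  let p := (q.comap (algebraMap R C)).asIdeal
  have : q.asIdeal.LiesOver p := ⟨rfl⟩
  letI := Localization.AtPrime.algebraOfLiesOver p q.asIdeal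
  have := RingHom.toMorphismProperty_respectsIso_iff.mp RingHom.Flat.respectsIso
  refine ((RingHom.toMorphismProperty @RingHom.Flat).arrow_mk_iso_iff
    (Scheme.arrowStalkMapSpecIso (CommRingCat.ofHom (algebraMap R C)) q)).mpr ?_
  refine RingHom.flat_algebraMap_iff.mpr ?_
  haveI : Module.Flat R (Localization.AtPrime q.asIdeal) := h2
  exact (Module.flat_iff_of_isLocalization (Localization.AtPrime p) p.primeCompl _).2 ‹_›

/-- A finite morphism with étale truncations is étale. -/
theorem etale_of_truncations {A : Type u} [CommRing A] [IsNoetherianRing A] (I : Ideal A)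
    (hI : I ≤ Ideal.jacobson ⊥) {X W : Scheme.{u}} (f : X ⟶ Spec (CommRingCat.of A)) [IsProper f]
    (c : W ⟶ X) [IsFinite c] (h : ∀ n, Etale (pullback.snd c (CohB1.thickι f I n))) : Etale c := by
  haveI : IsLocallyNoetherian X := LocallyOfFiniteType.isLocallyNoetherian f
  let Z : Set (Spec (CommRingCat.of A)) := PrimeSpectrum.zeroLocus (I : Set A)
  have hrange : Z ⊆ Set.range (CohB1.specQuot I 0) := by
    intro s hs
    refine (range_comap_of_surjective _ _ Ideal.Quotient.mk_surjective).ge ?_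
    rw [Ideal.mk_ker, pow_one]
    exact hs
  -- unramified along the closed fibre
  have hu : ∀ w : W, f (c w) ∈ Z → w ∈ H06EGA9.unramSet c := fun w hw => by
    refine (H06EGA9.formallyUnramified_iff_of_isPullback c
      (IsPullback.of_hasPullback c (CohB1.thickι f I 0))).1 (by haveI := h 0; infer_instance) ?_
    show c w ∈ Set.range (pullback.fst f (CohB1.specQuot I 0))
    rw [Scheme.Pullback.range_fst]
    exact hrange hw
  -- flat along the closed fibre
  have hfl : ∀ w : W, f (c w) ∈ Z → (c.stalkMap w).hom.Flat := fun w hw => by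
    obtain ⟨_, ⟨U, (hU : IsAffineOpen U), rfl⟩, hwU, -⟩ :=
      X.isBasis_affineOpens.exists_subset_of_mem_open (Set.mem_univ (c w)) isOpen_univ
    haveI : IsNoetherianRing Γ(X, U) := IsLocallyNoetherian.component_noetherian ⟨U, hU⟩
    have hW : IsAffineOpen (c ⁻¹ᵁ U) := hU.preimage c
    letI := (c.appLE U (c ⁻¹ᵁ U) le_rfl).hom.toAlgebra
    have hsq : Spec.map (CommRingCat.ofHom (algebraMap Γ(X, U) Γ(W, c ⁻¹ᵁ U))) ≫ hU.fromSpec = hW.fromSpec ≫ c :=
      IsAffineOpen.SpecMap_appLE_fromSpec c hU hW le_rfl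
    haveI : IsOpenImmersion hU.fromSpec := hU.isOpenImmersion_fromSpec
    haveI : IsOpenImmersion hW.fromSpec := hW.isOpenImmersion_fromSpec
    have hpb : IsPullback hW.fromSpec (Spec.map (CommRingCat.ofHom (algebraMap Γ(X, U) Γ(W, c ⁻¹ᵁ U)))) c hU.fromSpec :=
      (IsOpenImmersion.isPullback _ hW.fromSpec hU.fromSpec c hsq.symm (by rw [hW.opensRange_fromSpec, hU.opensRange_fromSpec])).flip
    haveI : Module.Finite Γ(X, U) Γ(W, c ⁻¹ᵁ U) := by
      rw [← RingHom.finite_algebraMap]
      show (CommRingCat.ofHom (algebraMap Γ(X, U) Γ(W, c ⁻¹ᵁ U))).hom.Finite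
      rw [← IsFinite.SpecMap_iff]
      exact MorphismProperty.of_isPullback hpb inferInstance
    let φ : A →+* Γ(X, U) := ((Scheme.ΓSpecIso _).inv ≫ f.appLE ⊤ U le_top).hom
    have hφ : hU.fromSpec ≫ f = Spec.map (CommRingCat.ofHom φ) := by
      rw [← IsAffineOpen.SpecMap_appLE_fromSpec f (isAffineOpen_top _) hU le_top,
        IsAffineOpen.fromSpec_top, Scheme.isoSpec_Spec_inv, ← Spec.map_comp]
      rfl
    obtain ⟨q, hq⟩ := hW.range_fromSpec.ge (show w ∈ ((c ⁻¹ᵁ U : W.Opens) : Set W) from hwU)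
    subst hq
    rw [← H17.LocusBC.flat_stalkMap_comp_iff hW.fromSpec c hU.fromSpec _ hsq q]
    refine flat_stalkMap_Spec (I.map φ) (fun n => ?_) q ?_
    · let a := Spec.map (CommRingCat.ofHom (Ideal.Quotient.mk ((I.map φ) ^ (n + 1)))) ≫ hU.fromSpec
      have hle : I ^ (n + 1) ≤ ((I.map φ) ^ (n + 1)).comap φ := by
        rw [← Ideal.map_le_iff_le_comap, Ideal.map_pow]
      let b := Spec.map (CommRingCat.ofHom (Ideal.quotientMap ((I.map φ) ^ (n + 1)) φ hle))
      have hab : a ≫ f = b ≫ CohB1.specQuot I n := by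
        rw [Category.assoc, hφ, CohB1.specQuot, ← Spec.map_comp, ← Spec.map_comp]
        rfl
      let ℓ : _ ⟶ CohB1.thick f I n := pullback.lift a b hab
      have hℓ : ℓ ≫ CohB1.thickι f I n = a := pullback.lift_fst _ _ _
      haveI := h n
      have hbc : Flat (pullback.snd c a) := by
        have hP := MorphismProperty.pullback_snd (P := @Flat) (pullback.snd c (CohB1.thickι f I n)) ℓ inferInstance
        have hQ := (IsPullback.of_hasPullback (pullback.snd c (CohB1.thickι f I n)) ℓ).paste_horiz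
          (IsPullback.of_hasPullback c (CohB1.thickι f I n))
        rw [hℓ] at hQ
        rw [← hQ.isoPullback_inv_snd]
        infer_instance
      have hQ' := (IsPullback.of_hasPullback (Spec.map (CommRingCat.ofHom (algebraMap Γ(X, U) Γ(W, c ⁻¹ᵁ U))))
        (Spec.map (CommRingCat.ofHom (Ideal.Quotient.mk ((I.map φ) ^ (n + 1)))))).paste_horiz hpb
      rw [← hQ'.isoPullback_hom_snd]
      infer_instance
    · have hz : f (c (hW.fromSpec q)) =
          (Spec.map (CommRingCat.ofHom φ)) (Spec.map (CommRingCat.ofHom (algebraMap Γ(X, U) Γ(W, c ⁻¹ᵁ U))) q) := by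
        rw [← hφ, ← Scheme.Hom.comp_apply, ← Scheme.Hom.comp_apply, ← Scheme.Hom.comp_apply]
        rw [reassoc_of% hsq]; rfl
      rw [hz] at hw
      rw [Ideal.map_le_iff_le_comap, Ideal.map_le_iff_le_comap]
      exact hw
  -- the étale locus is everything
  let S : Set W := {w | ∃ V : W.Opens, w ∈ V ∧ Etale (V.ι ≫ c)}
  have hSo : IsOpen S := isOpen_iff_forall_mem_open.2 fun w ⟨V, hV, hE⟩ =>
    ⟨V, fun v hv => ⟨V, hv, hE⟩, V.2, hV⟩
  have hsub : ∀ w, f (c w) ∈ Z → w ∈ S := fun w hw =>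
    (H9Hens.etale_nhd_iff c w).2 ⟨hfl w hw, hu w hw⟩
  have hS : S = Set.univ := by
    by_contra hne
    obtain ⟨w, hw⟩ := Set.nonempty_compl.2 hne
    obtain ⟨m, ⟨w', hw', hm⟩, hmax⟩ : ∃ m ∈ (c ≫ f) '' Sᶜ, m.asIdeal.IsMaximal := by
      have hcl : IsClosed ((c ≫ f) '' Sᶜ) := (c ≫ f).isClosedMap _ hSo.isClosed_compl
      obtain ⟨M, hM, hle⟩ := Ideal.exists_le_maximal _ ((c ≫ f) w).2.ne_top
      refine ⟨⟨M, hM.isPrime⟩, ?_, hM⟩
      exact ((PrimeSpectrum.le_iff_specializes _ _).1 hle).mem_closed hcl ⟨w, hw, rfl⟩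
    refine hw' (hsub w' ?_)
    have e : f (c w') = m := hm
    rw [e]
    exact (PrimeSpectrum.mem_zeroLocus _ _).2 (hI.trans (sInf_le ⟨bot_le, hmax⟩))
  choose V hV hE using fun w : W => (hS.ge (Set.mem_univ w) : w ∈ S)
  exact IsZariskiLocalAtSource.of_iSup_eq_top (P := @Etale) V
    (top_le_iff.1 fun w _ => TopologicalSpace.Opens.mem_iSup.2 ⟨w, hV w⟩) hE

end Groth.Agent.H18PBC.FormalEtale
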