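import Groth.Agent.H18PBC.FormalEtale
import Groth.Agent.S0041
import Groth.Agent.S0238
import Groth.Agent.H18Et.FEtLimit

/-!
# Finite étale covers of the closed fibre extend, complete Noetherian base
-/

set_option autoImplicit false
set_option linter.style.haveILetI false
set_option backward.isDefEq.respectTransparency false

universe u

open CategoryTheory CategoryTheory.Limits AlgebraicGeometry

namespace Groth.Agent.H18PBC.CompleteLift

variable {A : Type u} [CommRing A] (I : Ideal A) {X : Scheme.{u}} (f : X ⟶ Spec (CommRingCat.of A))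

/-- `Spec (A/I) ⟶ Spec (A/I^(n+1))`. -/
noncomputable abbrev specInto (n : ℕ) :
    Spec (CommRingCat.of (A ⧸ I)) ⟶ Spec (CommRingCat.of (A ⧸ I ^ (n + 1))) :=
  Spec.map (CommRingCat.ofHom (Ideal.Quotient.factor (Ideal.pow_le_self n.succ_ne_zero)))

theorem specInto_specQuot (n : ℕ) :
    specInto I n ≫ CohB1.specQuot I n = Spec.map (CommRingCat.ofHom (Ideal.Quotient.mk I)) := by
  rw [CohB1.specQuot, ← Spec.map_comp, ← CommRingCat.ofHom_comp, Ideal.Quotient.factor_comp_mk]

/-- `X_0 ⟶ X_n`. -/
noncomputable def intoThick (n : ℕ) :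
    pullback f (Spec.map (CommRingCat.ofHom (Ideal.Quotient.mk I))) ⟶ CohB1.thick f I n :=
  pullback.lift (pullback.fst _ _) (pullback.snd _ _ ≫ specInto I n)
    (by rw [Category.assoc, specInto_specQuot, pullback.condition])

theorem intoThick_ι (n : ℕ) : intoThick I f n ≫ CohB1.thickι f I n = pullback.fst _ _ :=
  pullback.lift_fst _ _ _

theorem intoThick_toBase (n : ℕ) :
    intoThick I f n ≫ CohB1.thickToBase f I n = pullback.snd _ _ ≫ specInto I n :=
  pullback.lift_snd _ _ _

theorem thickTrans_ι (n : ℕ) :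
    CohB1.thickTrans f I n ≫ CohB1.thickι f I (n + 1) = CohB1.thickι f I n :=
  pullback.lift_fst _ _ _

theorem intoThick_trans (n : ℕ) : intoThick I f n ≫ CohB1.thickTrans f I n = intoThick I f (n + 1) := by
  refine pullback.hom_ext ?_ ?_
  · exact (Category.assoc _ _ _).trans ((congrArg (intoThick I f n ≫ ·) (thickTrans_ι I f n)).trans
      ((intoThick_ι I f n).trans (intoThick_ι I f (n + 1)).symm))
  · refine (Category.assoc _ _ _).trans ((congrArg (intoThick I f n ≫ ·)
      (pullback.lift_snd _ _ _)).trans ((Category.assoc _ _ _).symm.trans ?_))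
    refine ((congrArg (· ≫ CohB1.specQuotTrans I n) (intoThick_toBase I f n)).trans ?_).trans
      (intoThick_toBase I f (n + 1)).symm
    rw [Category.assoc]
    congr 1
    rw [CohB1.specQuotTrans, ← Spec.map_comp, ← CommRingCat.ofHom_comp, Ideal.Quotient.factor_comp]

theorem isPullback_intoThick (n : ℕ) :
    IsPullback (intoThick I f n) (pullback.snd _ _) (CohB1.thickToBase f I n) (specInto I n) := by
  refine IsPullback.of_right (h₁₂ := CohB1.thickι f I n) (h₂₂ := CohB1.specQuot I n) (v₁₃ := f) ?_
    (intoThick_toBase I f n) (IsPullback.of_hasPullback _ _)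
  rw [intoThick_ι, specInto_specQuot]
  exact IsPullback.of_hasPullback _ _

instance isClosedImmersion_intoThick (n : ℕ) : IsClosedImmersion (intoThick I f n) :=
  MorphismProperty.of_isPullback (isPullback_intoThick I f n).flip
    (IsClosedImmersion.spec_of_surjective _ (Ideal.Quotient.factor_surjective (Ideal.pow_le_self n.succ_ne_zero)))

instance surjective_intoThick (n : ℕ) : Surjective (intoThick I f n) := by
  refine MorphismProperty.of_isPullback (isPullback_intoThick I f n).flip ⟨fun P => ?_⟩
  refine (range_comap_of_surjective _ _ (Ideal.Quotient.factor_surjective (Ideal.pow_le_self n.succ_ne_zero))).ge ?_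
  intro x hx
  obtain ⟨a, rfl⟩ := Ideal.Quotient.mk_surjective x
  rw [SetLike.mem_coe, RingHom.mem_ker, CommRingCat.hom_ofHom, Ideal.Quotient.factor_mk, Ideal.Quotient.eq_zero_iff_mem] at hx
  refine P.2.mem_of_pow_mem (n + 1) ?_
  rw [← map_pow, Ideal.Quotient.eq_zero_iff_mem.2 (Ideal.pow_mem_pow hx _)]
  exact zero_mem _

/-- Essential surjectivity for a complete Noetherian pair. -/
theorem exists_cover [IsNoetherianRing A] [IsAdicComplete I A] [IsProper f]
    (V : FEt.Cat (pullback f (Spec.map (CommRingCat.ofHom (Ideal.Quotient.mk I))))) :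
    ∃ W : FEt.Cat X, Nonempty ((FEt.restrict (pullback.fst f (Spec.map (CommRingCat.ofHom (Ideal.Quotient.mk I))))).obj W ≅ V) := by
  haveI : ∀ n, (FEt.restrict (intoThick I f n)).IsEquivalence := fun n => S0238.result (intoThick I f n)
  let Vn : ∀ n, FEt.Cat (CohB1.thick f I n) := fun n => (FEt.restrict (intoThick I f n)).objPreimage V
  let eV : ∀ n, (FEt.restrict (intoThick I f n)).obj (Vn n) ≅ V := fun n =>
    (FEt.restrict (intoThick I f n)).objObjPreimageIso V
  let eT : ∀ n, Vn n ≅ (FEt.restrict (CohB1.thickTrans f I n)).obj (Vn (n + 1)) := fun n =>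
    (FEt.restrict (intoThick I f n)).preimageIso (eV n ≪≫ (eV (n + 1)).symm ≪≫
      (H18Et.FEtLimit.restrictCompIso _ _ _ (intoThick_trans I f n) (Vn (n + 1))).symm)
  let Y : ℕ → Scheme.{u} := fun n => (Vn n).left
  let y : ∀ n, Y n ⟶ CohB1.thick f I n := fun n => (Vn n).hom
  let t : ∀ n, Y n ⟶ Y (n + 1) := fun n =>
    (eT n).hom.left ≫ pullback.fst (Vn (n + 1)).hom (CohB1.thickTrans f I n)
  have ht : ∀ n, IsPullback (t n) (y n) (y (n + 1)) (CohB1.thickTrans f I n) := fun n => by
    let e : (Vn n).left ≅ pullback (Vn (n + 1)).hom (CohB1.thickTrans f I n) :=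
      (MorphismProperty.Over.forget FEt.prop ⊤ (CohB1.thick f I n) ⋙ Over.forget _).mapIso (eT n)
    refine (IsPullback.of_hasPullback (Vn (n + 1)).hom (CohB1.thickTrans f I n)).of_iso e.symm (Iso.refl _)
      (Iso.refl _) (Iso.refl _) ?_ ?_ (by simp [y]) (by simp)
    · simp only [t, e, Iso.symm_hom, Functor.mapIso_inv, Iso.refl_hom, Category.comp_id]
      exact ((Category.assoc _ _ _).symm.trans ((congrArg (· ≫ pullback.fst _ _)
        (show (eT n).inv.left ≫ (eT n).hom.left = 𝟙 _ from e.inv_hom_id)).trans (Category.id_comp _))).symm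
    · simp only [Iso.symm_hom, Iso.refl_hom, Category.comp_id]
      exact (MorphismProperty.Over.w (eT n).inv).symm
  have hp : IsProper (y 0 ≫ CohB1.thickToBase f I 0) := by
    haveI : IsFinite (y 0) := (Vn 0).prop.1
    haveI : IsProper (CohB1.thickToBase f I 0) := MorphismProperty.pullback_snd _ _ inferInstance
    infer_instance
  obtain ⟨W, c, w, hc, -, -, hpb⟩ := S0041.result A I f Y y t (fun n => (Vn n).prop.1) ht hp
  haveI := hc
  haveI : Etale c := FormalEtale.etale_of_truncations I (IsAdicComplete.le_jacobson_bot I) f c fun n => by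
    have : Etale (y n) := (Vn n).prop.2
    rw [← (hpb n).isoPullback_inv_snd]
    infer_instance
  let W' : FEt.Cat X := MorphismProperty.Over.mk ⊤ c ⟨inferInstance, inferInstance⟩
  refine ⟨W', ⟨?_⟩⟩
  exact (H18Et.FEtLimit.restrictCompIso _ _ _ (intoThick_ι I f 0) W').symm ≪≫
    (FEt.restrict (intoThick I f 0)).mapIso
      (MorphismProperty.Over.isoMk (hpb 0).isoPullback.symm (hpb 0).isoPullback_inv_snd) ≪≫ eV 0

end Groth.Agent.H18PBC.CompleteLift
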