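import Groth.Agent.H18PBC.LimStage
import Groth.Agent.H18Et.EtaleLocalRing
import Mathlib.AlgebraicGeometry.Sites.AffineEtale
import Mathlib.CategoryTheory.Filtered.Final

/-!
# A small category of affine étale neighbourhoods, with limit the strictly henselian local scheme
-/

set_option autoImplicit false
set_option linter.style.haveILetI false
set_option linter.unusedSectionVars false
set_option backward.isDefEq.respectTransparency false
set_option backward.isDefEq.respectTransparency.types false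

universe u

open CategoryTheory CategoryTheory.Limits AlgebraicGeometry Opposite TopologicalSpace
open scoped Groth.Agent.H18Et

namespace Groth.Agent.H18PBC.Nbhd

open H18Et

variable {Y : Scheme.{u}} {Ω : Type u} [Field Ω] [IsSepClosed Ω] (ξ : Spec (CommRingCat.of Ω) ⟶ Y)

/-- Affine pointed étale neighbourhoods. -/
abbrev AffE : Type (u + 1) := (Scheme.AffineEtale.Spec Y ⋙ (Scheme.pointSmallEtale ξ).fiber).Elements

/-- Forgetting affineness. -/
noncomputable abbrev incA : AffE ξ ⥤ (Scheme.pointSmallEtale ξ).fiber.Elements :=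
  Functor.Elements.precomp _ _

instance : (incA ξ).Faithful :=
  ⟨fun {_ _} f g h => Subtype.ext ((Scheme.AffineEtale.Spec Y).map_injective (congrArg Subtype.val h))⟩

instance : (incA ξ).Full :=
  ⟨fun {a b} f => by
    obtain ⟨g, hg⟩ := (Scheme.AffineEtale.Spec Y).map_surjective f.1
    refine ⟨⟨g, ?_⟩, Subtype.ext hg⟩
    show (Scheme.pointSmallEtale ξ).fiber.map ((Scheme.AffineEtale.Spec Y).map g) a.2 = b.2
    rw [hg]
    exact f.2⟩

theorem exists_affine (d : (Scheme.pointSmallEtale ξ).fiber.Elements) :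
    ∃ c : AffE ξ, Nonempty ((incA ξ).obj c ⟶ d) := by
  obtain ⟨U, z⟩ := d
  obtain ⟨O, hO, hzO, -⟩ := TopologicalSpace.Opens.isBasis_iff_nbhd.mp U.left.isBasis_affineOpens
    (TopologicalSpace.Opens.mem_top (ptOf z))
  replace hO : IsAffineOpen O := hO
  haveI : Etale U.hom := U.prop
  let A : Y.AffineEtale := Scheme.AffineEtale.mk (hO.fromSpec ≫ U.hom)
  let g : (Scheme.AffineEtale.Spec Y).obj A ⟶ U := MorphismProperty.Over.homMk hO.fromSpec rfl trivial
  obtain ⟨v, hv⟩ : ptOf z ∈ Set.range hO.fromSpec := by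
    rw [hO.range_fromSpec]; exact hzO
  obtain ⟨y, hy⟩ := exists_fiber_lift g z v hv
  exact ⟨⟨A, y⟩, ⟨⟨g, hy⟩⟩⟩

instance : IsCofiltered (AffE ξ) := by
  haveI : IsCofilteredOrEmpty (AffE ξ) :=
    IsCofilteredOrEmpty.of_exists_of_isCofiltered_of_fullyFaithful (incA ξ) (exists_affine ξ)
  haveI : Nonempty (AffE ξ) := by
    obtain ⟨c, -⟩ := exists_affine ξ (IsCofiltered.nonempty.some)
    exact ⟨c⟩
  exact { }

/-- A small category of affine étale neighbourhoods. -/
abbrev NI : Type u := SmallModel.{u} (AffE ξ)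

instance : IsCofiltered (NI ξ) := IsCofiltered.of_equivalence (equivSmallModel.{u} (AffE ξ))

/-- The neighbourhood of an index. -/
noncomputable def toEl : NI ξ ⥤ (Scheme.pointSmallEtale ξ).fiber.Elements :=
  (equivSmallModel.{u} (AffE ξ)).inverse ⋙ incA ξ

theorem exists_index (d : (Scheme.pointSmallEtale ξ).fiber.Elements) :
    ∃ i : NI ξ, Nonempty ((toEl ξ).obj i ⟶ d) := by
  obtain ⟨c, ⟨g⟩⟩ := exists_affine ξ d
  exact ⟨(equivSmallModel.{u} (AffE ξ)).functor.obj c,
    ⟨(incA ξ).map ((equivSmallModel.{u} (AffE ξ)).unitIso.inv.app c) ≫ g⟩⟩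

instance : (toEl ξ).Full := by unfold toEl; infer_instance

instance : (toEl ξ).Faithful := by unfold toEl; infer_instance

instance : (toEl ξ).Initial :=
  Functor.initial_of_exists_of_isCofiltered_of_fullyFaithful _ (exists_index ξ)

/-- The étale `Y`-scheme of an index. -/
noncomputable def nb : NI ξ ⥤ Y.Etale := toEl ξ ⋙ CategoryOfElements.π _

/-- The base point of an index. -/
noncomputable def zb (i : NI ξ) : (Scheme.pointSmallEtale ξ).fiber.obj ((nb ξ).obj i) := ((toEl ξ).obj i).2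

theorem zb_map {i k : NI ξ} (a : k ⟶ i) : (Scheme.pointSmallEtale ξ).fiber.map ((nb ξ).map a) (zb ξ k) = zb ξ i :=
  ((toEl ξ).map a).2

instance isAffine_nb (i : NI ξ) : IsAffine ((nb ξ).obj i).left :=
  inferInstanceAs (IsAffine (Spec _))

/-- The limit cone. -/
noncomputable def cone : Cone (LimSec.sch (nb ξ)) where
  pt := Spec (EtBase.etaleLocalRing ξ)
  π :=
  { app := fun i => Spec.map (funGerm ξ ((nb ξ).obj i) (zb ξ i)) ≫ ((nb ξ).obj i).left.isoSpec.inv
    naturality := fun k i a => by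
      refine (Category.id_comp _).trans ?_
      show _ = (_ ≫ _) ≫ ((nb ξ).map a).left
      haveI : IsAffine ((nb ξ).obj k).left := inferInstance
      rw [Category.assoc, ← Scheme.isoSpec_inv_naturality, ← Category.assoc, ← Spec.map_comp]
      congr 2
      ext r
      exact ((funGerm_map ξ ((nb ξ).map a) (zb ξ k) r).trans (by rw [zb_map ξ a])).symm }

theorem cone_appTop (i : NI ξ) :
    ((cone ξ).π.app i).appTop ≫ (Scheme.ΓSpecIso (EtBase.etaleLocalRing ξ)).hom =
      funGerm ξ ((nb ξ).obj i) (zb ξ i) := by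
  show (Spec.map (funGerm ξ ((nb ξ).obj i) (zb ξ i)) ≫ ((nb ξ).obj i).left.isoSpec.inv).appTop ≫ _ = _
  rw [Scheme.Hom.comp_appTop, isoSpec_inv_appTop, ← Scheme.ΓSpecIso_inv_naturality]
  simp

/-- The strictly henselian local scheme is the limit of the affine neighbourhoods. -/
noncomputable def isLimitCone : IsLimit (cone ξ) := by
  let Φ := (Scheme.pointSmallEtale ξ)
  let hcol := (Functor.Final.isColimitWhiskerEquiv (toEl ξ).op _).symm
    (colimit.isColimit ((CategoryOfElements.π Φ.fiber).op ⋙ EtBase.OO Y))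
  let coc : ∀ s : Cone (LimSec.sch (nb ξ)), Cocone ((toEl ξ).op ⋙ (CategoryOfElements.π Φ.fiber).op ⋙ EtBase.OO Y) :=
    fun s =>
    { pt := Γ(s.pt, ⊤)
      ι :=
      { app := fun i => (s.π.app i.unop).appTop
        naturality := fun i k a => by
          refine Eq.trans ?_ (Category.comp_id _).symm
          show ((nb ξ).map a.unop).left.appTop ≫ (s.π.app k.unop).appTop = (s.π.app i.unop).appTop
          rw [← Scheme.Hom.comp_appTop]
          exact congrArg Scheme.Hom.appTop (s.w a.unop) } }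
  have hdesc : ∀ (s : Cone (LimSec.sch (nb ξ))) (i : NI ξ),
      funGerm ξ ((nb ξ).obj i) (zb ξ i) ≫ hcol.desc (coc s) = (s.π.app i).appTop := fun s i =>
    hcol.fac (coc s) (op i)
  haveI : ∀ i, IsAffine ((LimSec.sch (nb ξ)).obj i) := isAffine_nb ξ
  haveI : IsAffine (cone ξ).pt := inferInstanceAs (IsAffine (Spec _))
  refine
    { lift := fun s => s.pt.toSpecΓ ≫ Spec.map (hcol.desc (coc s))
      fac := fun s i => ?_
      uniq := fun s m hm => ?_ }
  · show (s.pt.toSpecΓ ≫ Spec.map (hcol.desc (coc s))) ≫ Spec.map (funGerm ξ _ (zb ξ i)) ≫ _ = _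
    rw [Category.assoc, ← Spec.map_comp_assoc, hdesc]
    exact (Category.assoc _ _ _).symm.trans ((congrArg (· ≫ _) (Scheme.toSpecΓ_naturality (s.π.app i)).symm).trans
      ((Category.assoc _ _ _).trans ((congrArg (_ ≫ ·) (Scheme.toSpecΓ_isoSpec_inv _)).trans (Category.comp_id _))))
  · apply ext_of_isAffine
    rw [← cancel_epi (Scheme.ΓSpecIso (EtBase.etaleLocalRing ξ)).inv]
    refine hcol.hom_ext fun j => ?_
    obtain ⟨i⟩ := j
    show funGerm ξ ((nb ξ).obj i) (zb ξ i) ≫ _ = funGerm ξ ((nb ξ).obj i) (zb ξ i) ≫ _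
    have h := congrArg Scheme.Hom.appTop (hm i)
    rw [Scheme.Hom.comp_appTop] at h
    have e : funGerm ξ ((nb ξ).obj i) (zb ξ i) ≫ (Scheme.ΓSpecIso (EtBase.etaleLocalRing ξ)).inv =
        ((cone ξ).π.app i).appTop := by
      rw [← cone_appTop, Category.assoc, Iso.hom_inv_id, Category.comp_id]
    rw [← Category.assoc, e]
    refine h.trans ?_
    rw [Scheme.Hom.comp_appTop, Scheme.toSpecΓ_appTop, ← Scheme.ΓSpecIso_inv_naturality_assoc, Iso.inv_hom_id,
      Category.comp_id]
    exact (hdesc s i).symm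

/-- The closed geometric point of the limit lies over the base points. -/
theorem valueHom_π (i : NI ξ) : Spec.map (valueHom ξ) ≫ (cone ξ).π.app i = (zb ξ i).left := by
  show Spec.map (valueHom ξ) ≫ Spec.map (funGerm ξ _ (zb ξ i)) ≫ _ = _
  rw [← Spec.map_comp_assoc]
  have e : funGerm ξ ((nb ξ).obj i) (zb ξ i) ≫ valueHom ξ = funValue ξ ((nb ξ).obj i) (zb ξ i) :=
    ConcreteCategory.ext (RingHom.ext fun a => funGerm_valueHom ξ _ _ a)
  rw [e]
  exact SpecMap_appTop_isoSpec_inv (U := ((nb ξ).obj i).left) (zb ξ i).left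

/-- The structure morphism of the strictly henselian local scheme. -/
noncomputable def toBase : Spec (EtBase.etaleLocalRing ξ) ⟶ Y :=
  (cone ξ).π.app (IsCofiltered.nonempty (C := NI ξ)).some ≫ ((nb ξ).obj _).hom

theorem toBase_eq (i : NI ξ) : (cone ξ).π.app i ≫ ((nb ξ).obj i).hom = toBase ξ := by
  obtain ⟨k, a, b, -⟩ := IsCofilteredOrEmpty.cone_objs i (IsCofiltered.nonempty (C := NI ξ)).some
  rw [toBase, ← (cone ξ).w a, ← (cone ξ).w b, Category.assoc, Category.assoc]
  exact congrArg ((cone ξ).π.app k ≫ ·) ((Over.w ((nb ξ).map a).hom).trans (Over.w ((nb ξ).map b).hom).symm)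

theorem valueHom_toBase : Spec.map (valueHom ξ) ≫ toBase ξ = ξ := by
  obtain ⟨i⟩ := (IsCofiltered.nonempty : Nonempty (NI ξ))
  rw [← toBase_eq ξ i, ← Category.assoc, valueHom_π]
  exact Over.w (zb ξ i)

end Groth.Agent.H18PBC.Nbhd
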