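import Groth.Agent.H18PBC.AbCompare
import Mathlib.AlgebraicGeometry.Geometrically.Connected
import Mathlib.AlgebraicGeometry.Morphisms.FlatMono

/-!
# Sections of inverse images along submersive morphisms with geometrically connected fibres
-/

set_option autoImplicit false
set_option linter.style.haveILetI false
set_option linter.unusedSectionVars false
set_option backward.isDefEq.respectTransparency false
set_option backward.isDefEq.respectTransparency.types false

universe u

open CategoryTheory CategoryTheory.Limits AlgebraicGeometry Opposite TopologicalSpace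
open scoped Groth.Agent.H18Et

namespace Groth.Agent.H18PBC

open H15Site.SetDescent H18Et

variable {X X' : Scheme.{u}} {Ω : Type u} [Field Ω] [IsSepClosed Ω]

theorem agree_trans (F : EtDesc.Sh X) {U : X.Etale} {r s t : F.obj.obj (op U)} {u : U.left}
    (h : u ∈ agree F r s) (h' : u ∈ agree F s t) : u ∈ agree F r t := by
  obtain ⟨Ω', _, _, ξ, z, rfl⟩ := exists_fiber_geomPt u
  exact (germ_eq_iff_mem_agree F z r t).1
    (((germ_eq_iff_mem_agree F z r s).2 h).trans ((germ_eq_iff_mem_agree F z s t).2 h'))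

variable (f : X' ⟶ X) (ξ : Spec (CommRingCat.of Ω) ⟶ X)

/-- The geometric fibre mapped to the base change of a pointed étale neighbourhood. -/
noncomputable def fibMap {W : X.Etale} (v : (Scheme.pointSmallEtale ξ).fiber.obj W) :
    (pullback f ξ : Scheme.{u}) ⟶ ((EtCoh.bc f).obj W).left :=
  pullback.lift (pullback.snd f ξ ≫ v.left) (pullback.fst f ξ)
    ((Category.assoc _ _ _).trans ((congrArg (pullback.snd f ξ ≫ ·) (Over.w v)).trans pullback.condition.symm))

theorem fibMap_fst {W : X.Etale} (v : (Scheme.pointSmallEtale ξ).fiber.obj W) :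
    fibMap f ξ v ≫ pullback.fst W.hom f = pullback.snd f ξ ≫ v.left := pullback.lift_fst _ _ _

theorem fibMap_map {W W' : X.Etale} (g : W' ⟶ W) (v : (Scheme.pointSmallEtale ξ).fiber.obj W') :
    fibMap f ξ v ≫ ((EtCoh.bc f).map g).left = fibMap f ξ ((Scheme.pointSmallEtale ξ).fiber.map g v) := by
  refine pullback.hom_ext ?_ ?_
  · refine (Category.assoc _ _ _).trans ((congrArg (_ ≫ ·) (bc_map_fst f g)).trans ?_)
    refine (Category.assoc _ _ _).symm.trans ((congrArg (· ≫ g.left) (fibMap_fst f ξ v)).trans ?_)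
    exact (Category.assoc _ _ _).trans (fibMap_fst f ξ ((Scheme.pointSmallEtale ξ).fiber.map g v)).symm
  · refine (Category.assoc _ _ _).trans ((congrArg (_ ≫ ·) (Over.w ((EtCoh.bc f).map g).hom)).trans ?_)
    exact (pullback.lift_snd _ _ _).trans (pullback.lift_snd _ _ _).symm

/-- A point over a separably closed point of the base factors through a pointed neighbourhood. -/
theorem exists_fiber_factor {W : X.Etale} {K : Type u} [Field K] (σ : Spec (CommRingCat.of K) ⟶ Spec (CommRingCat.of Ω))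
    (q : Spec (CommRingCat.of K) ⟶ W.left) (hq : q ≫ W.hom = σ ≫ ξ) :
    ∃ v : (Scheme.pointSmallEtale ξ).fiber.obj W, σ ≫ v.left = q := by
  haveI : Etale W.hom := W.prop
  let W' : (Spec (CommRingCat.of Ω)).Etale := Scheme.Etale.mk (pullback.snd W.hom ξ)
  let l : Spec (CommRingCat.of K) ⟶ W'.left := pullback.lift q σ hq
  obtain ⟨v, hv⟩ := exists_fiber_over (U := W') (l default) (𝟙 _) (Subsingleton.elim _ _)
  let j : Spec (CommRingCat.of Ω) ⟶ W'.left := v.left
  have hj : j ≫ W'.hom = 𝟙 _ := Over.w v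
  haveI : Etale (j ≫ W'.hom) := hj ▸ inferInstance
  haveI : Etale W'.hom := W'.prop
  haveI : Etale j := Etale.of_comp j W'.hom
  haveI : IsSplitMono j := ⟨⟨W'.hom, hj⟩⟩
  haveI : IsOpenImmersion j := IsOpenImmersion.of_flat_of_mono j
  have hrange : Set.range l ⊆ Set.range j := by
    rintro _ ⟨a, rfl⟩
    exact ⟨default, by rw [Subsingleton.elim a default]; exact hv⟩
  have hr := IsOpenImmersion.lift_fac j l hrange
  have hσ : IsOpenImmersion.lift j l hrange = σ := by
    have := congrArg (· ≫ W'.hom) hr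
    simp only [Category.assoc, hj, Category.comp_id] at this
    exact this.trans (pullback.lift_snd _ _ _)
  refine ⟨Over.homMk (j ≫ pullback.fst W.hom ξ) ?_, ?_⟩
  · refine (Category.assoc _ _ _).trans ((congrArg (j ≫ ·) pullback.condition).trans ?_)
    exact (Category.assoc _ _ _).symm.trans ((congrArg (· ≫ ξ) hj).trans (Category.id_comp _))
  · show σ ≫ j ≫ pullback.fst W.hom ξ = q
    rw [← Category.assoc, ← hσ, hr]
    exact pullback.lift_fst _ _ _

variable (G : EtDesc.Sh X) (s' : ((EtDesc.pullSh f).obj G).obj.obj (op ((EtCoh.bc f).obj (EtCoh.top X))))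

/-- The restriction of a section to a base changed neighbourhood. -/
noncomputable abbrev restTop (W : X.Etale) : ((EtDesc.pullSh f).obj G).obj.obj (op ((EtCoh.bc f).obj W)) :=
  ((EtDesc.pullSh f).obj G).obj.map ((EtCoh.bc f).map (toTop W)).op s'

/-- The points of the geometric fibre where the section has a given value. -/
def valSet (γ : (Scheme.pointSmallEtale ξ).sheafFiber.obj G) : Set (pullback f ξ : Scheme.{u}) :=
  {c | ∃ (W : X.Etale) (v : (Scheme.pointSmallEtale ξ).fiber.obj W) (t : G.obj.obj (op W)),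
    germ ξ G W v t = γ ∧ fibMap f ξ v c ∈ agree _ (restTop f G s' W) (pullSect f G t)}

theorem isOpen_valSet (γ : (Scheme.pointSmallEtale ξ).sheafFiber.obj G) : IsOpen (valSet f ξ G s' γ) :=
  isOpen_iff_forall_mem_open.2 fun _ ⟨W, v, t, e, hc⟩ =>
    ⟨fibMap f ξ v ⁻¹' agree _ _ _, fun _ hc' => ⟨W, v, t, e, hc'⟩,
      (isOpen_agree _ _ _).preimage (fibMap f ξ v).continuous, hc⟩

theorem valSet_unique {γ γ' : (Scheme.pointSmallEtale ξ).sheafFiber.obj G} {c : (pullback f ξ : Scheme.{u})}
    (h : c ∈ valSet f ξ G s' γ) (h' : c ∈ valSet f ξ G s' γ') : γ = γ' := by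
  obtain ⟨W, v, t, rfl, hc⟩ := h
  obtain ⟨W', v', t', rfl, hc'⟩ := h'
  obtain ⟨⟨P, p⟩, ⟨a, ha⟩, ⟨b, hb⟩, -⟩ := IsCofilteredOrEmpty.cone_objs
    (C := (Scheme.pointSmallEtale ξ).fiber.Elements) ⟨W, v⟩ ⟨W', v'⟩
  dsimp at a b ha hb
  have hr : ∀ {V : X.Etale} (g : P ⟶ V) (u : (Scheme.pointSmallEtale ξ).fiber.obj V) (r : G.obj.obj (op V)),
      (Scheme.pointSmallEtale ξ).fiber.map g p = u →
      fibMap f ξ u c ∈ agree _ (restTop f G s' V) (pullSect f G r) →
      fibMap f ξ p c ∈ agree _ (restTop f G s' P) (pullSect f G (G.obj.map g.op r)) := by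
    rintro V g _ r rfl hu
    have e : restTop f G s' P = ((EtDesc.pullSh f).obj G).obj.map ((EtCoh.bc f).map g).op (restTop f G s' V) := by
      rw [restTop, restTop, ← Functor.map_comp_apply, ← op_comp, ← Functor.map_comp,
        (EtCore.topIsTerminal X).hom_ext (g ≫ toTop V) (toTop P)]
    rw [e, pullSect_map, mem_agree_map]
    exact Eq.mpr (congrArg (fun y : ((EtCoh.bc f).obj V).left => y ∈ agree _ (restTop f G s' V) (pullSect f G r))
      (congrArg (fun q : (pullback f ξ : Scheme.{u}) ⟶ ((EtCoh.bc f).obj V).left => q c) (fibMap_map f ξ g p))) hu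
  have h1 := agree_trans _ (agree_symm _ (hr a v t ha hc)) (hr b v' t' hb hc')
  rw [mem_agree_pullSect] at h1
  have h2 : (pullback.fst P.hom f) (fibMap f ξ p c) = ptOf p :=
    (congrArg (fun q : (pullback f ξ : Scheme.{u}) ⟶ P.left => q c) (fibMap_fst f ξ p)).trans
      (congrArg (fun y => p.left y) (Subsingleton.elim ((pullback.snd f ξ) c) default))
  have h3 := (germ_eq_iff_mem_agree G p (G.obj.map a.op t) (G.obj.map b.op t')).2 (h2 ▸ h1)
  rwa [germ_map, germ_map, ha, hb] at h3

theorem exists_mem_valSet (c : (pullback f ξ : Scheme.{u})) : ∃ γ, c ∈ valSet f ξ G s' γ := by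
  let η := geomPt c ≫ pullback.fst f ξ
  obtain ⟨z, -⟩ := exists_fiber_over (U := EtCoh.top X) ((η ≫ f) default) (η ≫ f) rfl
  obtain ⟨W, g, w, t, -, hw⟩ := exists_rep_near (f := f) G (EtCoh.top X) s' η z
  obtain ⟨v, hv⟩ := exists_fiber_factor ξ (geomPt c ≫ pullback.snd f ξ) w.left (by
    refine (Over.w w).trans ?_
    show (geomPt c ≫ pullback.fst f ξ) ≫ f = (geomPt c ≫ pullback.snd f ξ) ≫ ξ
    rw [Category.assoc, Category.assoc, pullback.condition])
  refine ⟨_, W, v, t, rfl, ?_⟩
  have hm : geomPt c ≫ fibMap f ξ v =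
      (show Spec (CommRingCat.of _) ⟶ pullback W.hom f from ((fiberCompIso f η).inv.app W w).left) := by
    refine pullback.hom_ext ?_ ?_
    · refine (Category.assoc _ _ _).trans ((congrArg (_ ≫ ·) (fibMap_fst f ξ v)).trans ?_)
      exact (Category.assoc _ _ _).symm.trans (hv.trans (fiberCompIso_inv_left f η W w).symm)
    · refine (Category.assoc _ _ _).trans ((congrArg (_ ≫ ·) (pullback.lift_snd _ _ _)).trans ?_)
      exact (Over.w ((fiberCompIso f η).inv.app W w)).symm
  have hp : fibMap f ξ v c = ptOf ((fiberCompIso f η).inv.app W w) := by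
    refine Eq.trans (congrArg (fibMap f ξ v) (geomPt_base c).symm) ?_
    exact congrArg (fun q : Spec (CommRingCat.of _) ⟶ pullback W.hom f => q default) hm
  have hg : g = toTop W := (EtCore.topIsTerminal X).hom_ext _ _
  subst hg
  exact hp ▸ hw

theorem exists_value [GeometricallyConnected f] : ∃ γ, ∀ c, c ∈ valSet f ξ G s' γ := by
  haveI : ConnectedSpace (pullback f ξ : Scheme.{u}) :=
    GeometricallyConnected.geometrically_connectedSpace (f := f) ξ _ _ (.of_hasPullback f ξ)
  obtain ⟨c₀⟩ := (inferInstance : Nonempty (pullback f ξ : Scheme.{u}))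
  obtain ⟨γ, hγ⟩ := exists_mem_valSet f ξ G s' c₀
  have hcl : IsClopen (valSet f ξ G s' γ) := by
    refine ⟨isOpen_compl_iff.1 (isOpen_iff_forall_mem_open.2 fun c hc => ?_), isOpen_valSet f ξ G s' γ⟩
    obtain ⟨γ', hγ'⟩ := exists_mem_valSet f ξ G s' c
    exact ⟨valSet f ξ G s' γ', fun d hd hd' => hc (valSet_unique f ξ G s' hd hd' ▸ hγ'),
      isOpen_valSet f ξ G s' γ', hγ'⟩
  exact ⟨γ, fun c => Set.eq_univ_iff_forall.1 (hcl.eq_univ ⟨c₀, hγ⟩) c⟩

theorem transfer_restTop {S : Scheme.{u}} (p : S ⟶ X') (q : S ⟶ X) (w : p ≫ f = q) (W : X.Etale) :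
    transfer p f q w G W (restTop f G s' W) =
      ((EtDesc.pullSh q).obj G).obj.map ((EtCoh.bc q).map (toTop W)).op (transfer p f q w G (EtCoh.top X) s') :=
  transfer_map p f q w G (toTop W) s'

theorem agree_transfer_of_valSet {S : Scheme.{u}} (p : S ⟶ X') (q : S ⟶ X) (w : p ≫ f = q)
    {W : X.Etale} (t : G.obj.obj (op W)) (u : ((EtCoh.bc q).obj W).left) (c : ((EtCoh.bc f).obj W).left)
    (hc : c ∈ agree _ (restTop f G s' W) (pullSect f G t))
    (hu : (pullback.fst ((EtCoh.bc f).obj W).hom p) ((tm p f q w W).left u) = c) :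
    u ∈ agree _ (((EtDesc.pullSh q).obj G).obj.map ((EtCoh.bc q).map (toTop W)).op
      (transfer p f q w G (EtCoh.top X) s')) (pullSect q G t) := by
  rw [← transfer_restTop, ← transfer_pullSect p f q w G t]
  exact (mem_agree_transfer p f q w G W _ _ u).2 (hu.symm ▸ hc)

theorem tm_fst_eq {S : Scheme.{u}} (p : S ⟶ X') (q : S ⟶ X) (w : p ≫ f = q) {W : X.Etale}
    (v : (Scheme.pointSmallEtale ξ).fiber.obj W) (σ : Spec (CommRingCat.of Ω) ⟶ S)
    (hσ : σ ≫ q = ξ) (hw : (σ ≫ p) ≫ f = 𝟙 _ ≫ ξ) :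
    (pullback.lift v.left σ ((Over.w v).trans hσ.symm) : Spec (CommRingCat.of Ω) ⟶ pullback W.hom q) ≫
        (tm p f q w W).left ≫ pullback.fst ((EtCoh.bc f).obj W).hom p =
      pullback.lift (σ ≫ p) (𝟙 _) hw ≫ fibMap f ξ v := by
  rw [fst_fst_transferMor]
  refine pullback.hom_ext ?_ ?_
  · refine (Category.assoc _ _ _).trans ((congrArg (_ ≫ ·) (pullback.lift_fst _ _ _)).trans ?_)
    refine (pullback.lift_fst _ _ _).trans (Eq.trans ?_ ((congrArg (_ ≫ ·) (fibMap_fst f ξ v)).symm.trans
      (Category.assoc _ _ _).symm))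
    exact ((Category.assoc _ _ _).symm.trans ((congrArg (· ≫ v.left) (pullback.lift_snd _ _ _)).trans
      (Category.id_comp _))).symm
  · refine (Category.assoc _ _ _).trans ((congrArg (_ ≫ ·) (pullback.lift_snd _ _ _)).trans ?_)
    refine (Category.assoc _ _ _).symm.trans ((congrArg (· ≫ p) (pullback.lift_snd _ _ _)).trans ?_)
    exact ((Category.assoc _ _ _).trans ((congrArg (_ ≫ ·) (pullback.lift_snd _ _ _)).trans
      (pullback.lift_fst _ _ _))).symm

/-- A section of the inverse image along a morphism with geometrically connected fibres has equal pullbacks. -/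
theorem trans_eq [GeometricallyConnected f] : trans₁ f G (EtCoh.top X) s' = trans₂ f G (EtCoh.top X) s' := by
  refine eq_of_agree_eq_univ _ _ _ fun x => ?_
  let q := q₀ f
  let y := ((EtCoh.bc q).obj (EtCoh.top X)).hom x
  let σ := geomPt y
  let ξ₀ := σ ≫ q
  obtain ⟨γ, hγ⟩ := exists_value f ξ₀ G s'
  have h1 : (σ ≫ pullback.fst f f) ≫ f = 𝟙 _ ≫ ξ₀ := (Category.assoc _ _ _).trans (Category.id_comp _).symm
  have h2 : (σ ≫ pullback.snd f f) ≫ f = 𝟙 _ ≫ ξ₀ := by
    rw [Category.assoc, ← pullback.condition, Category.id_comp]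
  let c₁ : Spec (CommRingCat.of _) ⟶ pullback f ξ₀ := pullback.lift (σ ≫ pullback.fst f f) (𝟙 _) h1
  let c₂ : Spec (CommRingCat.of _) ⟶ pullback f ξ₀ := pullback.lift (σ ≫ pullback.snd f f) (𝟙 _) h2
  obtain ⟨W₁, v₁, t₁, e₁, hc₁⟩ := hγ (c₁ default)
  obtain ⟨W₂, v₂, t₂, e₂, hc₂⟩ := hγ (c₂ default)
  obtain ⟨⟨P, p⟩, ⟨a, ha⟩, ⟨b, hb⟩, -⟩ := IsCofilteredOrEmpty.cone_objs
    (C := (Scheme.pointSmallEtale ξ₀).fiber.Elements) ⟨W₁, v₁⟩ ⟨W₂, v₂⟩
  dsimp at a b ha hb
  rw [← ha] at hc₁ e₁
  rw [← hb] at hc₂ e₂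
  have hag : ∀ {V : X.Etale} (g : P ⟶ V) (r : G.obj.obj (op V)) (d : (pullback f ξ₀ : Scheme.{u})),
      fibMap f ξ₀ ((Scheme.pointSmallEtale ξ₀).fiber.map g p) d ∈ agree _ (restTop f G s' V) (pullSect f G r) →
      fibMap f ξ₀ p d ∈ agree _ (restTop f G s' P) (pullSect f G (G.obj.map g.op r)) := by
    intro V g r d hd
    have e : restTop f G s' P = ((EtDesc.pullSh f).obj G).obj.map ((EtCoh.bc f).map g).op (restTop f G s' V) := by
      rw [restTop, restTop, ← Functor.map_comp_apply, ← op_comp, ← Functor.map_comp,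
        (EtCore.topIsTerminal X).hom_ext (g ≫ toTop V) (toTop P)]
    rw [e, pullSect_map, mem_agree_map]
    exact Eq.mpr (congrArg (fun z : ((EtCoh.bc f).obj V).left => z ∈ agree _ (restTop f G s' V) (pullSect f G r))
      (congrArg (fun k : (pullback f ξ₀ : Scheme.{u}) ⟶ ((EtCoh.bc f).obj V).left => k d) (fibMap_map f ξ₀ g p))) hd
  let uh : Spec (CommRingCat.of _) ⟶ ((EtCoh.bc q).obj P).left := pullback.lift p.left σ (Over.w p)
  have A := agree_transfer_of_valSet f G s' (pullback.fst f f) q rfl _ (uh default) _ (hag a t₁ _ hc₁)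
    (congrArg (fun k : Spec (CommRingCat.of _) ⟶ pullback P.hom f => k default)
      (tm_fst_eq f ξ₀ (pullback.fst f f) q rfl p σ rfl h1))
  have B := agree_transfer_of_valSet f G s' (pullback.snd f f) q pullback.condition.symm _ (uh default) _
    (hag b t₂ _ hc₂) (congrArg (fun k : Spec (CommRingCat.of _) ⟶ pullback P.hom f => k default)
      (tm_fst_eq f ξ₀ (pullback.snd f f) q pullback.condition.symm p σ rfl h2))
  have C : uh default ∈ agree _ (pullSect q G (G.obj.map a.op t₁)) (pullSect q G (G.obj.map b.op t₂)) := by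
    rw [mem_agree_pullSect]
    have hpt : (pullback.fst P.hom q) (uh default) = ptOf p :=
      congrArg (fun k : Spec (CommRingCat.of _) ⟶ P.left => k default) (pullback.lift_fst p.left σ (Over.w p))
    rw [hpt, ← germ_eq_iff_mem_agree, germ_map, germ_map]
    exact e₁.trans e₂.symm
  have D := agree_trans _ (agree_trans _ A C) (agree_symm _ B)
  rw [mem_agree_map] at D
  have hx : ((EtCoh.bc q).map (toTop P)).left (uh default) = x := by
    have hiso : IsIso ((EtCoh.bc q).obj (EtCoh.top X)).hom := inferInstanceAs (IsIso (pullback.snd (𝟙 X) q))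
    refine (((EtCoh.bc q).obj (EtCoh.top X)).hom.homeomorph).injective ?_
    refine (congrArg (fun k : ((EtCoh.bc q).obj P).left ⟶ EtDesc.X2 f => k (uh default))
      (Over.w ((EtCoh.bc q).map (toTop P)).hom)).trans ?_
    exact (congrArg (fun k : Spec (CommRingCat.of _) ⟶ EtDesc.X2 f => k default)
      (pullback.lift_snd p.left σ (Over.w p))).trans (geomPt_base y)
  exact hx ▸ D

/-- **Invariance of sections under geometrically connected submersions.** -/
theorem bijective_pullSect_geomConn [GeometricallyConnected f] (hf : EtDesc.IsUnivSubmersive f) :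
    Function.Bijective (pullSect f G (U := EtCoh.top X)) := by
  haveI := surjective_of_univSubmersive hf
  exact ⟨pullSect_injective f G _, fun s' =>
    (existsUnique_section hf G (EtCoh.top X) s' (trans_eq f G s')).exists⟩

/-- The abelian version. -/
theorem bijective_unit_geomConn [GeometricallyConnected f] (hf : EtDesc.IsUnivSubmersive f) [EtCoh.BCCont f]
    (F : EtCoh.Ab X) : Function.Bijective (((EtCoh.pullPushAdj f).unit.app F).hom.app (op (EtCoh.top X))) := by
  haveI := isIso_pullCmp f F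
  have hc : Function.Bijective ((pullCmp f F).hom.app (op ((EtCoh.bc f).obj (EtCoh.top X)))) :=
    (isIso_iff_bijective _).1 (inferInstance :
      IsIso (((sheafToPresheaf _ _).map (pullCmp f F)).app (op ((EtCoh.bc f).obj (EtCoh.top X)))))
  have e : (fun s => ((EtCoh.pullPushAdj f).unit.app F).hom.app (op (EtCoh.top X)) s) =
      fun s => (pullCmp f F).hom.app (op ((EtCoh.bc f).obj (EtCoh.top X))) (pullSect f (und F) s) :=
    funext fun s => (pullCmp_pullSect f F s).symm
  exact Eq.mpr (congrArg Function.Bijective e) (hc.comp (bijective_pullSect_geomConn f (und F) hf))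

end Groth.Agent.H18PBC
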