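import Groth.Agent.H18PBC.GeomConn
import Groth.Agent.H22Alg.VarGeom
import Mathlib.AlgebraicGeometry.Morphisms.Flat

/-!
# Invariance of sections under extensions of separably closed fields
-/

set_option autoImplicit false
set_option backward.isDefEq.respectTransparency false

universe u

open CategoryTheory CategoryTheory.Limits AlgebraicGeometry Opposite

namespace Groth.Agent.H18PBC

theorem isUnivSubmersive_of_flat {T X : Scheme.{u}} (π : T ⟶ X) [Flat π] [QuasiCompact π] [Surjective π] :
    EtDesc.IsUnivSubmersive π :=
  fun _ g => ⟨(pullback.snd π g).surjective, Flat.isQuotientMap_of_surjective (pullback.snd π g)⟩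

theorem geometricallyConnected_fieldExt {k K : Type u} [Field k] [IsSepClosed k] [Field K] (i : k →+* K) :
    GeometricallyConnected (Spec.map (CommRingCat.ofHom i)) := by
  haveI : ConnectedSpace (Spec (CommRingCat.of K)) :=
    { toPreconnectedSpace := inferInstance, toNonempty := inferInstance }
  exact H22Alg.VarGeom.geometricallyConnected_of_isSepClosed _

theorem flat_fieldExt {k K : Type u} [Field k] [Field K] (i : k →+* K) :
    Flat (Spec.map (CommRingCat.ofHom i)) := by
  rw [HasRingHomProperty.Spec_iff (P := @Flat)]
  letI := i.toAlgebra
  show (algebraMap k K).Flat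
  rw [RingHom.flat_algebraMap_iff]
  infer_instance

theorem surjective_fieldExt {k K : Type u} [Field k] [Field K] (i : k →+* K) :
    Surjective (Spec.map (CommRingCat.ofHom i)) :=
  ⟨fun x => ⟨default, Subsingleton.elim _ _⟩⟩

/-- Restriction of sections along an extension of separably closed fields is bijective. -/
theorem bijective_unit_fieldExt {k K : Type u} [Field k] [IsSepClosed k] [Field K] (i : k →+* K)
    {X : Scheme.{u}} (a : X ⟶ Spec (CommRingCat.of k))
    [EtCoh.BCCont (pullback.fst a (Spec.map (CommRingCat.ofHom i)))] (F : EtCoh.Ab X) :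
    Function.Bijective (((EtCoh.pullPushAdj (pullback.fst a (Spec.map (CommRingCat.ofHom i)))).unit.app F).hom.app
      (op (EtCoh.top X))) := by
  haveI := geometricallyConnected_fieldExt i
  haveI := flat_fieldExt i
  haveI := surjective_fieldExt i
  exact bijective_unit_geomConn _ (isUnivSubmersive_of_flat _) F

end Groth.Agent.H18PBC
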