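import Groth.Agent.H18PBC.StalkH0
import Groth.Agent.H18Et.BaseChange

/-!
# The degree zero base change map for a proper morphism
-/

set_option autoImplicit false
set_option linter.style.haveILetI false
set_option linter.unusedSectionVars false
set_option backward.isDefEq.respectTransparency false
set_option backward.isDefEq.respectTransparency.types false

universe u

open CategoryTheory CategoryTheory.Limits AlgebraicGeometry Opposite
open scoped Groth.Agent.H18Et

namespace Groth.Agent.H18PBC.DegZero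

open H15Site.SetDescent H18Et Fibre

/-- Inverse image of sections along an isomorphism. -/
theorem bijective_pullSect_iso {T S : Scheme.{u}} (e : T ≅ S) [CompactSpace S] [QuasiSeparatedSpace S]
    (G : EtDesc.Sh S) : Function.Bijective (pullSect e.hom G (U := EtCoh.top S)) :=
  bijective_pullSect (fun Z π _ hZ => by
    rw [e.hom.surjective.range_eq, Set.preimage_univ]
    exact isConnected_univ) G

section Nested

variable {T S X : Scheme.{u}} (p : T ⟶ S) (a : S ⟶ X) (b : T ⟶ X) (w : p ≫ a = b)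

/-- A twice pulled back restriction, as the single pull back. -/
theorem map_pullSect_pullSect (G : EtDesc.Sh X) {W : X.Etale} {U : T.Etale}
    (m : U ⟶ (EtCoh.bc p).obj ((EtCoh.bc a).obj W)) (n : U ⟶ (EtCoh.bc b).obj W)
    (h : n ≫ tm p a b w W = m) (s : G.obj.obj (op W)) :
    ((EtDesc.pullSh p).obj ((EtDesc.pullSh a).obj G)).obj.map m.op
        (pullSect p ((EtDesc.pullSh a).obj G) (pullSect a G s)) =
      (EtDesc.pullVia p a b w G).inv.hom.app (op U)
        (((EtDesc.pullSh b).obj G).obj.map n.op (pullSect b G s)) := by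
  have e := transfer_pullSect p a b w G s
  unfold transfer at e
  rw [← e, ← Functor.map_comp_apply, ← op_comp, h,
    NatTrans.naturality_apply (EtDesc.pullVia p a b w G).inv.hom]
  refine congrArg _ ?_
  exact (ConcreteCategory.congr_hom (congr_app (congrArg (fun t => t.hom)
    (EtDesc.pullVia p a b w G).hom_inv_id) _) _).symm

variable [EtCoh.BCCont p] [EtCoh.BCCont a] (F : EtCoh.Ab X)

/-- The comparison for a twofold inverse image. -/
noncomputable def pullCmp₂ : (EtDesc.pullSh p).obj ((EtDesc.pullSh a).obj (und F)) ⟶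
    und ((EtCoh.pull p).obj ((EtCoh.pull a).obj F)) :=
  (EtDesc.pullSh p).map (pullCmp a F) ≫ pullCmp p ((EtCoh.pull a).obj F)

theorem pullCmp₂_pullSect {W : X.Etale} (s : EtCoh.sect F W) :
    (pullCmp₂ p a F).hom.app (op ((EtCoh.bc p).obj ((EtCoh.bc a).obj W)))
        (pullSect p ((EtDesc.pullSh a).obj (und F)) (pullSect a (und F) s)) =
      ((EtCoh.pullPushAdj p).unit.app ((EtCoh.pull a).obj F)).hom.app (op ((EtCoh.bc a).obj W))
        (((EtCoh.pullPushAdj a).unit.app F).hom.app (op W) s) := by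
  refine (congrArg ((pullCmp p ((EtCoh.pull a).obj F)).hom.app _)
    (pullSect_naturality p (pullCmp a F) (pullSect a (und F) s))).trans ?_
  refine (pullCmp_pullSect p ((EtCoh.pull a).obj F) _).trans ?_
  exact congrArg _ (pullCmp_pullSect a F s)

theorem isIso_pullCmp₂ : IsIso (pullCmp₂ p a F) := by
  haveI := isIso_pullCmp a F
  haveI := isIso_pullCmp p ((EtCoh.pull a).obj F)
  unfold pullCmp₂
  infer_instance

theorem map_unit_unit {W : X.Etale} {U : T.Etale}
    (m : U ⟶ (EtCoh.bc p).obj ((EtCoh.bc a).obj W)) (n : U ⟶ (EtCoh.bc b).obj W)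
    (h : n ≫ tm p a b w W = m) (s : EtCoh.sect F W) :
    ((EtCoh.pull p).obj ((EtCoh.pull a).obj F)).obj.map m.op
        (((EtCoh.pullPushAdj p).unit.app ((EtCoh.pull a).obj F)).hom.app (op ((EtCoh.bc a).obj W))
          (((EtCoh.pullPushAdj a).unit.app F).hom.app (op W) s)) =
      (pullCmp₂ p a F).hom.app (op U) ((EtDesc.pullVia p a b w (und F)).inv.hom.app (op U)
        (((EtDesc.pullSh b).obj (und F)).obj.map n.op (pullSect b (und F) s))) := by
  rw [← map_pullSect_pullSect p a b w (und F) m n h s, NatTrans.naturality_apply (pullCmp₂ p a F).hom]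
  exact (congrArg _ (pullCmp₂_pullSect p a F s)).symm

end Nested

variable {X Y X' Y' : Scheme.{u}} (f : X ⟶ Y) (g : Y' ⟶ Y) (f' : X' ⟶ Y') (g' : X' ⟶ X)

section Unit

/-- `V ×_Y Y' ×_{Y'} X'` as `V ×_Y X ×_X X'`. -/
noncomputable def cMap (w : g' ≫ f = f' ≫ g) (V : Y.Etale) :
    (EtCoh.bc f').obj ((EtCoh.bc g).obj V) ⟶ (EtCoh.bc g').obj ((EtCoh.bc f).obj V) :=
  (MorphismProperty.Over.pullbackComp (P := EtCoh.etaleMP) (Q := ⊤) f' g).inv.app V ≫
  (MorphismProperty.Over.pullbackCongr (P := EtCoh.etaleMP) (Q := ⊤) w).inv.app V ≫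
  (MorphismProperty.Over.pullbackComp (P := EtCoh.etaleMP) (Q := ⊤) g' f).hom.app V

theorem cMap_fst_fst (w : g' ≫ f = f' ≫ g) (V : Y.Etale) :
    (cMap f g f' g' w V).left ≫ pullback.fst ((EtCoh.bc f).obj V).hom g' ≫ pullback.fst V.hom f =
      pullback.fst ((EtCoh.bc g).obj V).hom f' ≫ pullback.fst V.hom g := by
  have h3 := MorphismProperty.Over.pullbackComp_left_fst_fst (P := EtCoh.etaleMP) (Q := ⊤) g' f V
  refine (Category.assoc _ _ _).trans ?_
  refine (congrArg (_ ≫ ·) ((Category.assoc _ _ _).trans ((congrArg (_ ≫ ·) h3).trans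
    (congrArg (_ ≫ ·) (MorphismProperty.Over.pullbackCongr_hom_app_left_fst
      (P := EtCoh.etaleMP) (Q := ⊤) w V).symm)))).trans ?_
  refine (congrArg (_ ≫ ·) ((Category.assoc _ _ _).symm.trans ((congrArg (· ≫ _) (congrArg (fun k => k.left)
    ((MorphismProperty.Over.pullbackCongr (P := EtCoh.etaleMP) (Q := ⊤) w).inv_hom_id_app V))).trans
    (Category.id_comp _)))).trans ?_
  refine (congrArg (_ ≫ ·) (MorphismProperty.Over.pullbackComp_left_fst_fst
    (P := EtCoh.etaleMP) (Q := ⊤) f' g V).symm).trans ?_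
  exact (Category.assoc _ _ _).symm.trans ((congrArg (· ≫ _) (congrArg (fun k => k.left)
    ((MorphismProperty.Over.pullbackComp (P := EtCoh.etaleMP) (Q := ⊤) f' g).inv_hom_id_app V))).trans
    (Category.id_comp _))

variable [EtCoh.BCCont f] [EtCoh.BCCont g] [EtCoh.BCCont f'] [EtCoh.BCCont g']

/-- The base change map on the image of a section of `f_* F`. -/
theorem baseChange0_unit (w : g' ≫ f = f' ≫ g) (F : EtCoh.Ab X) (V : Y.Etale)
    (s : EtCoh.sect ((EtCoh.push f).obj F) V) :
    (EtCoh.baseChange0 f g f' g' w F).hom.app (op ((EtCoh.bc g).obj V))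
        (((EtCoh.pullPushAdj g).unit.app ((EtCoh.push f).obj F)).hom.app (op V) s) =
      ((EtCoh.pull g').obj F).obj.map (cMap f g f' g' w V).op
        (((EtCoh.pullPushAdj g').unit.app F).hom.app (op ((EtCoh.bc f).obj V)) s) := by
  have e := ((EtCoh.pullPushAdj g).homEquiv ((EtCoh.push f).obj F)
    ((EtCoh.push f').obj ((EtCoh.pull g').obj F))).apply_symm_apply
      ((EtCoh.push f).map ((EtCoh.pullPushAdj g').unit.app F) ≫ (EtCoh.pushComp f g').hom.app _ ≫
        (EtCoh.pushCongr w).hom.app _ ≫ (EtCoh.pushComp g f').inv.app _)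
  rw [Adjunction.homEquiv_unit] at e
  refine (ConcreteCategory.congr_hom (congrArg (fun k => k.hom.app (op V)) e) s).trans ?_
  unfold cMap
  rw [op_comp, op_comp, Functor.map_comp_apply, Functor.map_comp_apply]
  rfl

end Unit

section Stalk

variable {Ω : Type u} [Field Ω] [IsSepClosed Ω] (η' : Spec (CommRingCat.of Ω) ⟶ Y')

/-- The geometric fibres of `f'` and `f` agree. -/
noncomputable def fibreIso (h : IsPullback g' f' f g) : pullback f' η' ≅ pullback f (η' ≫ g) :=
  ((IsPullback.of_hasPullback f' η').paste_horiz h).isoPullback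

theorem fibreIso_fst (h : IsPullback g' f' f g) :
    (fibreIso f g f' g' η' h).hom ≫ pullback.fst f (η' ≫ g) = pullback.fst f' η' ≫ g' :=
  IsPullback.isoPullback_hom_fst _

theorem fibreIso_snd (h : IsPullback g' f' f g) :
    (fibreIso f g f' g' η' h).hom ≫ pullback.snd f (η' ≫ g) = pullback.snd f' η' :=
  IsPullback.isoPullback_hom_snd _

variable {b : pullback f' η' ⟶ X}

theorem bc_bc_ext {b : pullback f' η' ⟶ X} {V : Y.Etale} {U : (pullback f' η').Etale}
    {n n' : U ⟶ (EtCoh.bc b).obj ((EtCoh.bc f).obj V)}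
    (h : (n.left ≫ pullback.fst ((EtCoh.bc f).obj V).hom b) ≫ pullback.fst V.hom f =
      (n'.left ≫ pullback.fst ((EtCoh.bc f).obj V).hom b) ≫ pullback.fst V.hom f) : n = n' :=
  bc_bc_hom_ext h

theorem bc_bc_bc_ext {V : Y.Etale} {U : (pullback f' η').Etale}
    {m m' : U ⟶ (EtCoh.bc (pullback.fst f' η')).obj ((EtCoh.bc g').obj ((EtCoh.bc f).obj V))}
    (h : ((m.left ≫ pullback.fst ((EtCoh.bc g').obj ((EtCoh.bc f).obj V)).hom (pullback.fst f' η')) ≫
        pullback.fst ((EtCoh.bc f).obj V).hom g') ≫ pullback.fst V.hom f =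
      ((m'.left ≫ pullback.fst ((EtCoh.bc g').obj ((EtCoh.bc f).obj V)).hom (pullback.fst f' η')) ≫
        pullback.fst ((EtCoh.bc f).obj V).hom g') ≫ pullback.fst V.hom f) : m = m' := by
  have hs : ∀ k : U ⟶ (EtCoh.bc (pullback.fst f' η')).obj ((EtCoh.bc g').obj ((EtCoh.bc f).obj V)),
      ((k.left ≫ pullback.fst ((EtCoh.bc g').obj ((EtCoh.bc f).obj V)).hom (pullback.fst f' η')) ≫
        pullback.fst ((EtCoh.bc f).obj V).hom g') ≫ pullback.snd V.hom f =
        (U.hom ≫ pullback.fst f' η') ≫ g' := fun k => by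
    refine (Category.assoc _ _ _).trans ?_
    refine (congrArg (_ ≫ ·) (pullback.condition (f := ((EtCoh.bc f).obj V).hom) (g := g'))).trans ?_
    refine (Category.assoc _ _ _).symm.trans (congrArg (· ≫ g') ?_)
    refine (Category.assoc _ _ _).trans ?_
    refine (congrArg (_ ≫ ·) (pullback.condition (f := ((EtCoh.bc g').obj ((EtCoh.bc f).obj V)).hom)
      (g := pullback.fst f' η'))).trans ?_
    exact (Category.assoc _ _ _).symm.trans (congrArg (· ≫ _) (Over.w k.hom))
  exact bc_bc_hom_ext (pullback.hom_ext h ((hs m).trans (hs m').symm))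

variable [IsProper f] [IsProper f'] [EtCoh.BCCont f] [EtCoh.BCCont g] [EtCoh.BCCont f'] [EtCoh.BCCont g']

/-- The comparison of the sections on the two geometric fibres. -/
noncomputable def cmpFibre (h : IsPullback g' f' f g) (F : EtCoh.Ab X)
    (σ : ((EtDesc.pullSh (pullback.fst f (η' ≫ g))).obj (und F)).obj.obj
      (op ((EtCoh.bc (pullback.fst f (η' ≫ g))).obj (EtCoh.top X)))) :
    ToType (((EtCoh.pull (pullback.fst f' η')).obj ((EtCoh.pull g').obj F)).obj.obj
      (op ((EtCoh.bc (pullback.fst f' η')).obj (EtCoh.top X')))) :=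
  (pullCmp₂ (pullback.fst f' η') g' F).hom.app _ ((EtDesc.pullVia _ _ _ rfl (und F)).inv.hom.app _
    (((EtDesc.pullSh (pullback.fst f' η' ≫ g')).obj (und F)).obj.map
      ((EtCore.bcTopIsTerminal (pullback.fst f' η' ≫ g')).from
        ((EtCoh.bc (pullback.fst f' η')).obj (EtCoh.top X'))).op
      (transfer (fibreIso f g f' g' η' h).hom (pullback.fst f (η' ≫ g)) (pullback.fst f' η' ≫ g')
        (fibreIso_fst f g f' g' η' h) (und F) (EtCoh.top X) σ)))

theorem cmpFibre_bijective (h : IsPullback g' f' f g) (F : EtCoh.Ab X) :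
    Function.Bijective (cmpFibre f g f' g' η' h F) := by
  haveI := isIso_pullCmp₂ (pullback.fst f' η') g' F
  have h1 : Function.Bijective ((pullCmp₂ (pullback.fst f' η') g' F).hom.app
      (op ((EtCoh.bc (pullback.fst f' η')).obj (EtCoh.top X')))) :=
    (isIso_iff_bijective _).1 (inferInstance :
      IsIso (((sheafToPresheaf _ _).map (pullCmp₂ (pullback.fst f' η') g' F)).app
        (op ((EtCoh.bc (pullback.fst f' η')).obj (EtCoh.top X')))))
  have h2 : Function.Bijective ((EtDesc.pullVia (pullback.fst f' η') g' _ rfl (und F)).inv.hom.app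
      (op ((EtCoh.bc (pullback.fst f' η')).obj (EtCoh.top X')))) :=
    (isIso_iff_bijective _).1 (inferInstance :
      IsIso (((sheafToPresheaf _ _).map (EtDesc.pullVia (pullback.fst f' η') g' _ rfl (und F)).inv).app
        (op ((EtCoh.bc (pullback.fst f' η')).obj (EtCoh.top X')))))
  let θ : (EtCoh.bc (pullback.fst f' η')).obj (EtCoh.top X') ≅
      (EtCoh.bc (pullback.fst f' η' ≫ g')).obj (EtCoh.top X) :=
    (EtCore.bcTopIsTerminal _).uniqueUpToIso (EtCore.bcTopIsTerminal _)
  have h3 := bijective_map_iso ((EtDesc.pullSh (pullback.fst f' η' ≫ g')).obj (und F)).obj θ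
  haveI : CompactSpace (pullback f (η' ≫ g) : Scheme.{u}) :=
    QuasiCompact.compactSpace_of_compactSpace (pullback.snd f (η' ≫ g))
  haveI : QuasiSeparatedSpace (pullback f (η' ≫ g) : Scheme.{u}) :=
    quasiSeparatedSpace_of_quasiSeparated (pullback.snd f (η' ≫ g))
  have h4 := bijective_transfer (fibreIso f g f' g' η' h).hom (pullback.fst f (η' ≫ g))
    (pullback.fst f' η' ≫ g') (fibreIso_fst f g f' g' η' h) (und F)
    (bijective_pullSect_iso (fibreIso f g f' g' η' h) _)
  exact h1.comp (h2.comp (h3.comp h4))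

theorem stalkRes_baseChange0 (h : IsPullback g' f' f g) (F : EtCoh.Ab X)
    (a : ToType ((EtCoh.stalk (η' ≫ g)).obj ((EtCoh.push f).obj F)))
    (σ : ((EtDesc.pullSh (pullback.fst f (η' ≫ g))).obj (und F)).obj.obj
      (op ((EtCoh.bc (pullback.fst f (η' ≫ g))).obj (EtCoh.top X))))
    (hσ : (pullCmp (pullback.fst f (η' ≫ g)) F).hom.app _ σ = stalkRes f (η' ≫ g) F a) :
    stalkRes f' η' ((EtCoh.pull g').obj F)
        ((EtCoh.stalk η').map (EtCoh.baseChange0 f g f' g' h.w F)
          ((stalkPullIso g η').inv.app ((EtCoh.push f).obj F) a)) =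
      cmpFibre f g f' g' η' h F σ := by
  obtain ⟨V, v, s, rfl⟩ := germ_surjective (η' ≫ g) _ a
  haveI := isIso_pullCmp (pullback.fst f (η' ≫ g)) F
  have hc : Function.Injective ((pullCmp (pullback.fst f (η' ≫ g)) F).hom.app
      (op ((EtCoh.bc (pullback.fst f (η' ≫ g))).obj (EtCoh.top X)))) :=
    ((isIso_iff_bijective _).1 (inferInstance :
      IsIso (((sheafToPresheaf _ _).map (pullCmp (pullback.fst f (η' ≫ g)) F)).app
        (op ((EtCoh.bc (pullback.fst f (η' ≫ g))).obj (EtCoh.top X)))))).1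
  have hσ' : σ = resS f (η' ≫ g) (und F) v s :=
    hc (hσ.trans ((stalkRes_germ f (η' ≫ g) F v s).trans (resA_eq f (η' ≫ g) F v s)))
  subst hσ'
  let z := (fiberCompIso g η').inv.app V v
  refine (congrArg (fun x => stalkRes f' η' _ ((EtCoh.stalk η').map _ x))
    (stalkPullIso_inv_germ g η' ((EtCoh.push f).obj F) V v s)).trans ?_
  refine (congrArg (stalkRes f' η' _) (germ_naturality η' (EtCoh.baseChange0 f g f' g' h.w F)
    ((EtCoh.bc g).obj V) z _)).trans ?_
  refine (stalkRes_germ f' η' _ z _).trans ?_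
  refine (congrArg (resA f' η' ((EtCoh.pull g').obj F) z) (baseChange0_unit f g f' g' h.w F V s)).trans ?_
  unfold resA cmpFibre
  refine (congrArg (((EtCoh.pull (pullback.fst f' η')).obj ((EtCoh.pull g').obj F)).obj.map (jz f' η' z).op)
    (NatTrans.naturality_apply ((EtCoh.pullPushAdj (pullback.fst f' η')).unit.app ((EtCoh.pull g').obj F)).hom
      (cMap f g f' g' h.w V).op _)).trans ?_
  refine (Functor.map_comp_apply _ _ _ _).symm.trans ?_
  let b := pullback.fst f' η' ≫ g'
  let jb : (EtCoh.bc b).obj (EtCoh.top X) ⟶ (EtCoh.bc b).obj ((EtCoh.bc f).obj V) :=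
    MorphismProperty.Over.homMk (pullback.lift
      (((EtCoh.bc b).obj (EtCoh.top X)).hom ≫ (fibreIso f g f' g' η' h).hom ≫
        pullback.lift (pullback.snd f (η' ≫ g) ≫ v.left) (pullback.fst f (η' ≫ g))
          ((Category.assoc _ _ _).trans ((congrArg (_ ≫ ·) (Over.w v)).trans pullback.condition.symm)))
      ((EtCoh.bc b).obj (EtCoh.top X)).hom ((Category.assoc _ _ _).trans (congrArg (_ ≫ ·)
        ((Category.assoc _ _ _).trans ((congrArg (_ ≫ ·) (pullback.lift_snd _ _ _)).trans
          (fibreIso_fst f g f' g' η' h))))))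
      (pullback.lift_snd _ _ _) trivial
  let θ := (EtCore.bcTopIsTerminal b).from ((EtCoh.bc (pullback.fst f' η')).obj (EtCoh.top X'))
  have hT : transfer (fibreIso f g f' g' η' h).hom (pullback.fst f (η' ≫ g)) b
      (fibreIso_fst f g f' g' η' h) (und F) (EtCoh.top X) (resS f (η' ≫ g) (und F) v s) =
      ((EtDesc.pullSh b).obj (und F)).obj.map jb.op (pullSect b (und F) s) := by
    refine (transfer_map_compat (fibreIso f g f' g' η' h).hom _ b (fibreIso_fst f g f' g' η' h) (und F)
      (jz f (η' ≫ g) v) jb ?_ _).trans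
      (congrArg _ (transfer_pullSect (fibreIso f g f' g' η' h).hom _ b (fibreIso_fst f g f' g' η' h) (und F) s))
    refine compat_of_graph (fibreIso f g f' g' η' h).hom _ b (fibreIso_fst f g f' g' η' h) _ _
      (pullback.lift (pullback.snd f (η' ≫ g) ≫ v.left) (pullback.fst f (η' ≫ g))
        ((Category.assoc _ _ _).trans ((congrArg (_ ≫ ·) (Over.w v)).trans pullback.condition.symm)))
      _ ?_ (pullback.lift_fst _ _ _) rfl
    refine (pullback.lift_fst _ _ _).trans (pullback.hom_ext ?_ ?_)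
    · exact (pullback.lift_fst _ _ _).trans ((congrArg (_ ≫ ·) (pullback.lift_fst _ _ _)).symm.trans
        (Category.assoc _ _ _).symm)
    · exact (pullback.lift_snd _ _ _).trans ((congrArg (_ ≫ ·) (pullback.lift_snd _ _ _)).symm.trans
        (Category.assoc _ _ _).symm)
  refine Eq.trans ?_ (congrArg (fun x => (pullCmp₂ (pullback.fst f' η') g' F).hom.app _
    ((EtDesc.pullVia _ _ _ rfl (und F)).inv.hom.app _
      (((EtDesc.pullSh b).obj (und F)).obj.map θ.op x))) hT.symm)
  refine Eq.trans ?_ (congrArg (fun x => (pullCmp₂ (pullback.fst f' η') g' F).hom.app _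
    ((EtDesc.pullVia _ _ _ rfl (und F)).inv.hom.app _ x)) (Functor.map_comp_apply ((EtDesc.pullSh b).obj (und F)).obj jb.op θ.op (pullSect b (und F) s)))
  rw [← op_comp]
  refine map_unit_unit (pullback.fst f' η') g' b rfl F
    (jz f' η' z ≫ (EtCoh.bc (pullback.fst f' η')).map (cMap f g f' g' h.w V)) (θ ≫ jb) ?_ s
  refine bc_bc_bc_ext f f' g' η' ?_
  show ((((θ ≫ jb).left ≫ (tm (pullback.fst f' η') g' b rfl ((EtCoh.bc f).obj V)).left) ≫ pullback.fst _ _) ≫
      pullback.fst _ _) ≫ pullback.fst V.hom f =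
    ((((jz f' η' z).left ≫ ((EtCoh.bc (pullback.fst f' η')).map (cMap f g f' g' h.w V)).left) ≫
      pullback.fst _ _) ≫ pullback.fst _ _) ≫ pullback.fst V.hom f
  refine Eq.trans (congrArg (· ≫ pullback.fst V.hom f) ((Category.assoc _ _ _).trans
    ((Category.assoc _ _ _).trans ((congrArg (_ ≫ ·) ((Category.assoc _ _ _).symm.trans
      (tm_fst_fst _ _ _ _ _))).trans ((Category.assoc _ _ _).trans (congrArg (θ.left ≫ ·) (pullback.lift_fst _ _ _))))))) ?_
  refine Eq.trans ?_ (Eq.symm ((congrArg (fun k => (k ≫ pullback.fst _ _) ≫ pullback.fst V.hom f)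
    ((Category.assoc _ _ _).trans ((congrArg (_ ≫ ·) (bc_map_fst _ (cMap f g f' g' h.w V))).trans
      (Category.assoc _ _ _).symm))).trans ((Category.assoc _ _ _).trans ((Category.assoc _ _ _).trans
        (congrArg (_ ≫ ·) (cMap_fst_fst f g f' g' h.w V))))))
  refine Eq.trans ?_ (Eq.symm ((Category.assoc _ _ _).symm.trans ((congrArg (· ≫ pullback.fst V.hom g)
    (jz_fst_fst f' η' z)).trans ((Category.assoc _ _ _).trans (congrArg (_ ≫ ·) ((Category.assoc _ _ _).trans
      (congrArg (_ ≫ ·) (fiberCompIso_inv_left g η' V v))))))))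
  refine (congrArg (· ≫ pullback.fst V.hom f) ((Category.assoc _ _ _).symm.trans
    (congrArg (· ≫ (fibreIso f g f' g' η' h).hom ≫ _) (Over.w θ.hom)))).trans ?_
  refine (Category.assoc _ _ _).trans (congrArg (_ ≫ ·) ?_)
  refine (Category.assoc _ _ _).trans ((congrArg (_ ≫ ·) (pullback.lift_fst _ _ _)).trans ?_)
  exact (Category.assoc _ _ _).symm.trans (congrArg (· ≫ v.left) (fibreIso_snd f g f' g' η' h))

theorem bijective_stalk_baseChange0 (h : IsPullback g' f' f g) (F : EtCoh.Ab X) :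
    Function.Bijective ((EtCoh.stalk η').map (EtCoh.baseChange0 f g f' g' h.w F)) := by
  haveI := isIso_pullCmp (pullback.fst f (η' ≫ g)) F
  have hc : Function.Bijective ((pullCmp (pullback.fst f (η' ≫ g)) F).hom.app
      (op ((EtCoh.bc (pullback.fst f (η' ≫ g))).obj (EtCoh.top X)))) :=
    (isIso_iff_bijective _).1 (inferInstance :
      IsIso (((sheafToPresheaf _ _).map (pullCmp (pullback.fst f (η' ≫ g)) F)).app
        (op ((EtCoh.bc (pullback.fst f (η' ≫ g))).obj (EtCoh.top X)))))
  have hI : Function.Bijective ((stalkPullIso g η').inv.app ((EtCoh.push f).obj F)) :=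
    ConcreteCategory.bijective_of_isIso _
  have hr := stalkRes_bijective f' η' ((EtCoh.pull g').obj F)
  have hr0 := stalkRes_bijective f (η' ≫ g) F
  have hK := cmpFibre_bijective f g f' g' η' h F
  refine ⟨fun a b hab => ?_, fun y => ?_⟩
  · obtain ⟨a, rfl⟩ := hI.2 a
    obtain ⟨b, rfl⟩ := hI.2 b
    obtain ⟨σ, hσ⟩ := hc.2 (stalkRes f (η' ≫ g) F a)
    obtain ⟨τ, hτ⟩ := hc.2 (stalkRes f (η' ≫ g) F b)
    have e := hK.1 ((stalkRes_baseChange0 f g f' g' η' h F a σ hσ).symm.trans
      ((congrArg _ hab).trans (stalkRes_baseChange0 f g f' g' η' h F b τ hτ)))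
    exact congrArg _ (hr0.1 (hσ.symm.trans ((congrArg _ e).trans hτ)))
  · obtain ⟨σ, hσ⟩ := hK.2 (stalkRes f' η' _ y)
    obtain ⟨a, ha⟩ := hr0.2 ((pullCmp (pullback.fst f (η' ≫ g)) F).hom.app _ σ)
    exact ⟨_, hr.1 ((stalkRes_baseChange0 f g f' g' η' h F a σ ha.symm).trans hσ)⟩

end Stalk

variable [EtCoh.BCCont f] [EtCoh.BCCont g] [EtCoh.BCCont f'] [EtCoh.BCCont g']

theorem isIso_baseChange0 [IsProper f] (h : IsPullback g' f' f g) (F : EtCoh.Ab X) :
    IsIso (EtCoh.baseChange0 f g f' g' h.w F) := by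
  haveI : IsProper f' := MorphismProperty.of_isPullback (P := @IsProper) h ‹_›
  refine H18Et.isIso_of_stalk _ fun y => ?_
  let η' : Spec (CommRingCat.of (AlgebraicClosure (Y'.residueField y))) ⟶ Y' :=
    (Scheme.SpecToEquivOfField (AlgebraicClosure (Y'.residueField y)) Y').symm
      ⟨y, CommRingCat.ofHom (algebraMap (Y'.residueField y) _)⟩
  exact ⟨_, _, inferInstance, η', by simp [η'], bijective_stalk_baseChange0 f g f' g' η' h F⟩

end Groth.Agent.H18PBC.DegZero
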