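import Groth.Agent.H18PBC.Gabber
import Groth.Agent.H18Et.Germ

/-!
# Inverse images of abelian étale sheaves as sheaves of sets
-/

set_option autoImplicit false
set_option backward.isDefEq.respectTransparency false
set_option backward.isDefEq.respectTransparency.types false

universe u

open CategoryTheory CategoryTheory.Limits AlgebraicGeometry Opposite
open scoped Groth.Agent.H18Et

namespace Groth.Agent.H18PBC

open H15Site.SetDescent H18Et

variable {Z X : Scheme.{u}}

/-- The underlying sheaf of sets. -/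
noncomputable abbrev und (F : EtCoh.Ab X) : EtDesc.Sh X :=
  (sheafCompose X.smallEtaleTopology (forget AddCommGrpCat.{u + 1})).obj F

section Stalk

variable {Ω : Type u} [Field Ω] [IsSepClosed Ω]

/-- Stalks of the underlying sheaf of sets. -/
noncomputable def stalkUnd (ξ : Spec (CommRingCat.of Ω) ⟶ X) (F : EtCoh.Ab X) :
    (Scheme.pointSmallEtale ξ).sheafFiber.obj (und F) ≅
      (forget AddCommGrpCat.{u + 1}).obj ((EtCoh.stalk ξ).obj F) :=
  ((Scheme.pointSmallEtale ξ).sheafFiberCompIso (forget AddCommGrpCat.{u + 1})).app F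

theorem stalkUnd_germ (ξ : Spec (CommRingCat.of Ω) ⟶ X) (F : EtCoh.Ab X) (U : X.Etale)
    (x : (Scheme.pointSmallEtale ξ).fiber.obj U) (s : EtCoh.sect F U) :
    (stalkUnd ξ F).hom (germ ξ (und F) U x s) = germ ξ F U x s :=
  ConcreteCategory.congr_hom ((Scheme.pointSmallEtale ξ).toPresheafFiber_presheafFiberCompIso_hom_app
    (forget AddCommGrpCat.{u + 1}) U x F.obj) s

theorem stalkUnd_injective (ξ : Spec (CommRingCat.of Ω) ⟶ X) (F : EtCoh.Ab X) :
    Function.Injective (stalkUnd ξ F).hom :=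
  ((isIso_iff_bijective _).1 (inferInstance : IsIso (stalkUnd ξ F).hom)).1

end Stalk

variable (i : Z ⟶ X) [EtCoh.BCCont i] (F : EtCoh.Ab X)

/-- The comparison between the two inverse images. -/
noncomputable def pullCmp : (EtDesc.pullSh i).obj (und F) ⟶ und ((EtCoh.pull i).obj F) :=
  ((EtDesc.adjSh i).homEquiv _ _).symm
    ((sheafCompose X.smallEtaleTopology (forget AddCommGrpCat.{u + 1})).map ((EtCoh.pullPushAdj i).unit.app F) :
      und F ⟶ (EtDesc.pushSh i).obj (und ((EtCoh.pull i).obj F)))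

theorem pullCmp_pullSect {U : X.Etale} (s : EtCoh.sect F U) :
    (pullCmp i F).hom.app (op ((EtCoh.bc i).obj U)) (pullSect i (und F) s) =
      ((EtCoh.pullPushAdj i).unit.app F).hom.app (op U) s :=
  ConcreteCategory.congr_hom
    (congrArg (fun q : und F ⟶ (EtDesc.pushSh i).obj (und ((EtCoh.pull i).obj F)) => q.hom.app (op U))
      (((EtDesc.adjSh i).homEquiv_unit _ _ (pullCmp i F)).symm.trans (Equiv.apply_symm_apply _ _))) s

theorem stalkUnd_pullCmp_germ {Ω : Type u} [Field Ω] [IsSepClosed Ω] (ξ : Spec (CommRingCat.of Ω) ⟶ Z)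
    {U : X.Etale} (v : (Scheme.pointSmallEtale (ξ ≫ i)).fiber.obj U) (s : EtCoh.sect F U) :
    (stalkUnd ξ ((EtCoh.pull i).obj F)).hom ((Scheme.pointSmallEtale ξ).sheafFiber.map (pullCmp i F)
        ((stalkPullShIso i ξ).inv.app (und F) (germ (ξ ≫ i) (und F) U v s))) =
      (stalkPullIso i ξ).inv.app F (germ (ξ ≫ i) F U v s) := by
  refine (congrArg (fun q => (stalkUnd ξ ((EtCoh.pull i).obj F)).hom
    ((Scheme.pointSmallEtale ξ).sheafFiber.map (pullCmp i F) q)) (germ_pullSect i (und F) ξ v s).symm).trans ?_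
  refine (congrArg (stalkUnd ξ ((EtCoh.pull i).obj F)).hom
    ((germ_naturality ξ (pullCmp i F) _ _ _).trans (congrArg _ (pullCmp_pullSect i F s)))).trans ?_
  exact (stalkUnd_germ ξ ((EtCoh.pull i).obj F) _ _ _).trans (stalkPullIso_inv_germ i ξ F U v s).symm

theorem bijective_stalk_pullCmp {Ω : Type u} [Field Ω] [IsSepClosed Ω] (ξ : Spec (CommRingCat.of Ω) ⟶ Z) :
    Function.Bijective ((Scheme.pointSmallEtale ξ).sheafFiber.map (pullCmp i F)) := by
  have hS := (isIso_iff_bijective _).1 (inferInstance : IsIso ((stalkPullShIso i ξ).inv.app (und F)))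
  have hA : Function.Bijective ((stalkPullIso i ξ).inv.app F) :=
    ConcreteCategory.bijective_of_isIso _
  refine ⟨fun p q h => ?_, fun p => ?_⟩
  · obtain ⟨p', rfl⟩ := hS.2 p
    obtain ⟨q', rfl⟩ := hS.2 q
    refine congrArg _ ?_
    obtain ⟨U, v, s, t, rfl, rfl⟩ :=
      (Scheme.pointSmallEtale (ξ ≫ i)).toPresheafFiber_jointly_surjective₂ (P := (und F).obj) p' q'
    have h' := congrArg (stalkUnd ξ ((EtCoh.pull i).obj F)).hom h
    erw [stalkUnd_pullCmp_germ i F ξ v s, stalkUnd_pullCmp_germ i F ξ v t] at h'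
    exact stalkUnd_injective (ξ ≫ i) F
      ((stalkUnd_germ (ξ ≫ i) F U v s).trans ((hA.1 h').trans (stalkUnd_germ (ξ ≫ i) F U v t).symm))
  · obtain ⟨p', hp'⟩ := hA.2 ((stalkUnd ξ ((EtCoh.pull i).obj F)).hom p)
    obtain ⟨U, v, s, rfl⟩ := germ_surjective (ξ ≫ i) F p'
    refine ⟨(stalkPullShIso i ξ).inv.app (und F) (germ (ξ ≫ i) (und F) U v s), stalkUnd_injective _ _ ?_⟩
    exact (stalkUnd_pullCmp_germ i F ξ v s).trans hp'

theorem isIso_pullCmp : IsIso (pullCmp i F) := by
  haveI : Mono (pullCmp i F) := (mono_iff_stalkSh _).2 fun Ω _ _ ξ => (bijective_stalk_pullCmp i F ξ).1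
  haveI : Epi (pullCmp i F) := (epi_iff_stalkSh _).2 fun Ω _ _ ξ => (bijective_stalk_pullCmp i F ξ).2
  exact isIso_of_mono_of_epi _

/-- Gabber's criterion for abelian sheaves. -/
theorem bijective_unit_top [CompactSpace X] [QuasiSeparatedSpace X] [IsClosedImmersion i] (hCP : CP i) :
    Function.Bijective (((EtCoh.pullPushAdj i).unit.app F).hom.app (op (EtCoh.top X))) := by
  haveI := isIso_pullCmp i F
  have hc : Function.Bijective ((pullCmp i F).hom.app (op ((EtCoh.bc i).obj (EtCoh.top X)))) :=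
    (isIso_iff_bijective _).1 (inferInstance :
      IsIso (((sheafToPresheaf _ _).map (pullCmp i F)).app (op ((EtCoh.bc i).obj (EtCoh.top X)))))
  have e : (fun s => ((EtCoh.pullPushAdj i).unit.app F).hom.app (op (EtCoh.top X)) s) =
      fun s => (pullCmp i F).hom.app (op ((EtCoh.bc i).obj (EtCoh.top X))) (pullSect i (und F) s) :=
    funext fun s => (pullCmp_pullSect i F s).symm
  exact Eq.mpr (congrArg Function.Bijective e) (hc.comp (bijective_pullSect hCP (und F)))

end Groth.Agent.H18PBC
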