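import Groth.Agent.H7Lim.Basic
import Mathlib.RingTheory.FiniteType
import Mathlib.RingTheory.Ideal.Quotient.Operations

/-!
# An algebra (and a quotient of it) as the colimit of its finitely generated subalgebras
-/

set_option autoImplicit false
set_option linter.style.haveILetI false
set_option backward.isDefEq.respectTransparency false

universe v u

open CategoryTheory Limits AlgebraicGeometry Opposite

namespace Groth.Agent.H18PBC.SubalgSystem

variable (R : Type v) [CommRing R] (L : Type u) [CommRing L] [Algebra R L]

/-- The finitely generated subalgebras of `L`. -/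
noncomputable def subalgFunctor : Finset L ⥤ CommRingCat.{u} where
  obj s := CommRingCat.of (Algebra.adjoin R (s : Set L))
  map {_ _} h := CommRingCat.ofHom
    (Subalgebra.inclusion (Algebra.adjoin_mono (by exact_mod_cast leOfHom h))).toRingHom
  map_id _ := rfl
  map_comp _ _ := rfl

/-- The cocone on `L`. -/
noncomputable def subalgCocone : Cocone (subalgFunctor R L) where
  pt := CommRingCat.of L
  ι := { app := fun s => CommRingCat.ofHom (Algebra.adjoin R (s : Set L)).val.toRingHom
         naturality := fun _ _ _ => rfl }

/-- `L` is the colimit of its finitely generated subalgebras. -/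
noncomputable def subalgIsColimit : IsColimit (subalgCocone R L) := by
  classical
  let mem : ∀ b : L, b ∈ Algebra.adjoin R ((({b} : Finset L)) : Set L) := fun b =>
    Algebra.subset_adjoin (by simp)
  have any : ∀ (c : Cocone (subalgFunctor R L)) (s : Finset L) (b : L) (hb : b ∈ Algebra.adjoin R (s : Set L)),
      (c.ι.app s).hom ⟨b, hb⟩ = (c.ι.app {b}).hom ⟨b, mem b⟩ := by
    intro c s b hb
    have h1 := congrArg (fun k => k.hom ⟨b, hb⟩) (c.w (homOfLE (Finset.subset_union_left : s ≤ s ∪ {b})))
    have h2 := congrArg (fun k => k.hom ⟨b, mem b⟩) (c.w (homOfLE (Finset.subset_union_right : {b} ≤ s ∪ {b})))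
    exact h1.symm.trans h2
  refine
    { desc := fun c => CommRingCat.ofHom
        { toFun := fun b => (c.ι.app {b}).hom ⟨b, mem b⟩
          map_one' := by
            rw [← any c {1} 1 (one_mem _)]
            exact (c.ι.app {1}).hom.map_one
          map_zero' := by
            rw [← any c {0} 0 (zero_mem _)]
            exact (c.ι.app {0}).hom.map_zero
          map_mul' := fun a b => by
            have ha : a ∈ Algebra.adjoin R (({a, b} : Finset L) : Set L) := Algebra.subset_adjoin (by simp)
            have hb : b ∈ Algebra.adjoin R (({a, b} : Finset L) : Set L) := Algebra.subset_adjoin (by simp)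
            rw [← any c {a, b} (a * b) (mul_mem ha hb), ← any c {a, b} a ha, ← any c {a, b} b hb]
            exact (c.ι.app {a, b}).hom.map_mul ⟨a, ha⟩ ⟨b, hb⟩
          map_add' := fun a b => by
            have ha : a ∈ Algebra.adjoin R (({a, b} : Finset L) : Set L) := Algebra.subset_adjoin (by simp)
            have hb : b ∈ Algebra.adjoin R (({a, b} : Finset L) : Set L) := Algebra.subset_adjoin (by simp)
            rw [← any c {a, b} (a + b) (add_mem ha hb), ← any c {a, b} a ha, ← any c {a, b} b hb]
            exact (c.ι.app {a, b}).hom.map_add ⟨a, ha⟩ ⟨b, hb⟩ }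
      fac := fun c s => CommRingCat.hom_ext (RingHom.ext fun x => (any c s x.1 x.2).symm)
      uniq := fun c m hm => CommRingCat.hom_ext (RingHom.ext fun b => ?_) }
  exact congrArg (fun k => k.hom ⟨b, mem b⟩) (hm {b})

/-- The finitely generated subalgebras as a system of affine schemes. -/
noncomputable abbrev specSystem : (Finset L)ᵒᵖ ⥤ Scheme.{u} := (subalgFunctor R L).op ⋙ Scheme.Spec

/-- The cone on `Spec L`. -/
noncomputable abbrev specCone : Cone (specSystem R L) := Scheme.Spec.mapCone (subalgCocone R L).op

/-- `Spec L` is their limit. -/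
noncomputable def isLimitSpecCone : IsLimit (specCone R L) :=
  isLimitOfPreserves Scheme.Spec (subalgIsColimit R L).op

variable (I : Ideal L)

/-- The trace of `I` on a subalgebra. -/
abbrev trace (s : Finset L) : Ideal ↥(Algebra.adjoin R (s : Set L)) :=
  I.comap (Algebra.adjoin R (s : Set L)).val.toRingHom

/-- The images of the subalgebras in `L ⧸ I`. -/
noncomputable def quotFunctor : Finset L ⥤ CommRingCat.{u} where
  obj s := CommRingCat.of (↥(Algebra.adjoin R (s : Set L)) ⧸ trace R L I s)
  map {s t} h := CommRingCat.ofHom (Ideal.quotientMap (trace R L I t)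
    (Subalgebra.inclusion (Algebra.adjoin_mono (by exact_mod_cast leOfHom h))).toRingHom fun _ hx => hx)
  map_id s := CommRingCat.hom_ext (Ideal.Quotient.ringHom_ext (RingHom.ext fun _ => rfl))
  map_comp _ _ := CommRingCat.hom_ext (Ideal.Quotient.ringHom_ext (RingHom.ext fun _ => rfl))

/-- The cocone on `L ⧸ I`. -/
noncomputable def quotCocone : Cocone (quotFunctor R L I) where
  pt := CommRingCat.of (L ⧸ I)
  ι := { app := fun s => CommRingCat.ofHom (Ideal.quotientMap I
           (Algebra.adjoin R (s : Set L)).val.toRingHom le_rfl)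
         naturality := fun _ _ _ => CommRingCat.hom_ext (Ideal.Quotient.ringHom_ext (RingHom.ext fun _ => rfl)) }

/-- The projection of the systems. -/
noncomputable def quotProj : subalgFunctor R L ⟶ quotFunctor R L I where
  app s := CommRingCat.ofHom (Ideal.Quotient.mk (trace R L I s))
  naturality _ _ _ := rfl

/-- `L ⧸ I` is the colimit of the quotients. -/
noncomputable def quotIsColimit : IsColimit (quotCocone R L I) := by
  classical
  let pre : Cocone (quotFunctor R L I) → Cocone (subalgFunctor R L) := fun c =>
    (Cocone.precompose (quotProj R L I)).obj c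
  have hker : ∀ (c : Cocone (quotFunctor R L I)) (a : L), a ∈ I →
      ((subalgIsColimit R L).desc (pre c)).hom a = 0 := by
    intro c a ha
    have hmem : a ∈ Algebra.adjoin R ((({a} : Finset L)) : Set L) := Algebra.subset_adjoin (by simp)
    have h := congrArg (fun k => k.hom ⟨a, hmem⟩) ((subalgIsColimit R L).fac (pre c) {a})
    refine h.trans ?_
    show (c.ι.app {a}).hom (Ideal.Quotient.mk _ _) = 0
    rw [Ideal.Quotient.eq_zero_iff_mem.2 (show (⟨a, hmem⟩ : ↥(Algebra.adjoin R (({a} : Finset L) : Set L))) ∈
      trace R L I {a} from ha)]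
    exact map_zero _
  refine
    { desc := fun c => CommRingCat.ofHom (Ideal.Quotient.lift I ((subalgIsColimit R L).desc (pre c)).hom (hker c))
      fac := fun c s => CommRingCat.hom_ext (Ideal.Quotient.ringHom_ext (RingHom.ext fun x => ?_))
      uniq := fun c m hm => CommRingCat.hom_ext (Ideal.Quotient.ringHom_ext ?_) }
  · exact congrArg (fun k => k.hom x) ((subalgIsColimit R L).fac (pre c) s)
  · have : CommRingCat.ofHom (Ideal.Quotient.mk I) ≫ m = (subalgIsColimit R L).desc (pre c) := by
      refine (subalgIsColimit R L).uniq (pre c) _ fun s => CommRingCat.hom_ext (RingHom.ext fun x => ?_)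
      exact congrArg (fun k => k.hom (Ideal.Quotient.mk _ x)) (hm s)
    exact congrArg CommRingCat.Hom.hom this

/-- The quotients as a system of affine schemes. -/
noncomputable abbrev quotSystem : (Finset L)ᵒᵖ ⥤ Scheme.{u} := (quotFunctor R L I).op ⋙ Scheme.Spec

/-- The cone on `Spec (L ⧸ I)`. -/
noncomputable abbrev quotCone : Cone (quotSystem R L I) := Scheme.Spec.mapCone (quotCocone R L I).op

/-- `Spec (L ⧸ I)` is their limit. -/
noncomputable def isLimitQuotCone : IsLimit (quotCone R L I) :=
  isLimitOfPreserves Scheme.Spec (quotIsColimit R L I).op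

instance isAffineHom_specSystem_map (i j : (Finset L)ᵒᵖ) (φ : i ⟶ j) : IsAffineHom ((specSystem R L).map φ) :=
  inferInstanceAs (IsAffineHom (Spec.map _))

instance isAffineHom_quotSystem_map (i j : (Finset L)ᵒᵖ) (φ : i ⟶ j) : IsAffineHom ((quotSystem R L I).map φ) :=
  inferInstanceAs (IsAffineHom (Spec.map _))

instance compactSpace_specSystem_obj (i : (Finset L)ᵒᵖ) : CompactSpace ((specSystem R L).obj i) :=
  inferInstanceAs (CompactSpace ↥(Spec _))

instance compactSpace_quotSystem_obj (i : (Finset L)ᵒᵖ) : CompactSpace ((quotSystem R L I).obj i) :=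
  inferInstanceAs (CompactSpace ↥(Spec _))

instance quasiSeparatedSpace_specSystem_obj (i : (Finset L)ᵒᵖ) : QuasiSeparatedSpace ((specSystem R L).obj i) :=
  inferInstanceAs (QuasiSeparatedSpace ↥(Spec _))

instance quasiSeparatedSpace_quotSystem_obj (i : (Finset L)ᵒᵖ) :
    QuasiSeparatedSpace ((quotSystem R L I).obj i) :=
  inferInstanceAs (QuasiSeparatedSpace ↥(Spec _))

end Groth.Agent.H18PBC.SubalgSystem
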