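import Groth.Agent.H18Et.FEtRestrictApps
import Groth.Agent.H06Conn.FlatProperFP
import Groth.Agent.H06Conn.Specialization
import Groth.Agent.H9Hens.ProperPairApps
import Groth.Agent.H12AlgSp.Codim

/-!
# Clopens of proper families: connected geometric fibres and specialisation

* restriction of finite étale covers along proper maps with connected geometric fibres is fully faithful;
* over a strictly henselian local ring, the restriction to any geometric fibre of a flat proper family
  with reduced geometric fibres is fully faithful.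
-/

set_option autoImplicit false
set_option linter.style.haveILetI false
set_option backward.isDefEq.respectTransparency false

universe u

open CategoryTheory CategoryTheory.Limits AlgebraicGeometry

namespace Groth.Agent.H18PBC.Spec

open H18Et.FEtRestrict H18Et.FEtRestrictApps H18Et.FEtGalois

/-- Clopens descend along closed surjections with connected fibres. -/
theorem exists_clopen_preimage {α β : Type*} [TopologicalSpace α] [TopologicalSpace β] (p : α → β)
    (hc : IsClosedMap p) (hs : Function.Surjective p) (hf : ∀ b, IsPreconnected (p ⁻¹' {b}))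
    (W : Set α) (hW : IsClopen W) : ∃ V : Set β, IsClopen V ∧ p ⁻¹' V = W := by
  have key : ∀ a a', a ∈ W → p a = p a' → a' ∈ W := fun a a' ha e =>
    (hf (p a)).subset_isClopen hW ⟨a, rfl, ha⟩ e.symm
  refine ⟨p '' W, ⟨hc _ hW.1, ?_⟩, Set.ext fun a => ⟨fun ⟨a', h, e⟩ => key a' a h e, fun h => ⟨a, h, rfl⟩⟩⟩
  have hcompl : (p '' W)ᶜ = p '' Wᶜ := by
    ext b
    refine ⟨fun hb => ?_, ?_⟩
    · obtain ⟨a, rfl⟩ := hs b
      exact ⟨a, fun ha => hb ⟨a, ha, rfl⟩, rfl⟩
    · rintro ⟨a, ha, rfl⟩ ⟨a', ha', e⟩
      exact ha (key a' a ha' e)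
  rw [← isClosed_compl_iff, hcompl]
  exact hc _ hW.compl.1

theorem geometricallyConnected_of_geomFibres {X S : Scheme.{u}} (f : X ⟶ S)
    (h : ∀ (Ω : Type u) [Field Ω] [IsAlgClosed Ω] (s : Spec (CommRingCat.of Ω) ⟶ S),
      ConnectedSpace ↥(pullback f s)) : GeometricallyConnected f := by
  refine ⟨fun K _ y Z fst snd hP => ?_⟩
  haveI := h (AlgebraicClosure K) (Spec.map (CommRingCat.ofHom (algebraMap K (AlgebraicClosure K))) ≫ y)
  let c := Spec.map (CommRingCat.ofHom (algebraMap K (AlgebraicClosure K)))
  have hP' : IsPullback (pullback.fst snd c ≫ fst) (pullback.snd snd c) f (c ≫ y) :=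
    (IsPullback.of_hasPullback snd c).paste_horiz hP
  haveI : ConnectedSpace ↥(pullback snd c) :=
    hP'.isoPullback.inv.homeomorph.surjective.connectedSpace hP'.isoPullback.inv.continuous
  haveI : Surjective c := ⟨fun _ => ⟨default, Subsingleton.elim (α := PrimeSpectrum K) _ _⟩⟩
  exact (pullback.fst snd c).surjective.connectedSpace (pullback.fst snd c).continuous

theorem preconnected_fibre {X S : Scheme.{u}} (f : X ⟶ S) [GeometricallyConnected f] (s : S) :
    _root_.IsPreconnected (f.base ⁻¹' {s}) := by
  haveI : ConnectedSpace ↥(f.fiber s) :=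
    GeometricallyConnected.geometrically_connectedSpace _ _ _ (IsPullback.of_hasPullback f (S.fromSpecResidueField s))
  rw [← f.range_fiberι s]
  exact isPreconnected_range (f.fiberι s).continuous

theorem surjective_of_connected {X S : Scheme.{u}} (f : X ⟶ S) [GeometricallyConnected f] : Surjective f := by
  refine ⟨fun s => ?_⟩
  haveI : ConnectedSpace ↥(f.fiber s) :=
    GeometricallyConnected.geometrically_connectedSpace _ _ _ (IsPullback.of_hasPullback f (S.fromSpecResidueField s))
  obtain ⟨z⟩ := (inferInstance : Nonempty ↥(f.fiber s))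
  have h : f.fiberι s z ∈ f.base ⁻¹' {s} := f.range_fiberι s ▸ ⟨z, rfl⟩
  exact ⟨_, h⟩

theorem fullyFaithful_of_geometricallyConnected {X S : Scheme.{u}} (f : X ⟶ S) [GeometricallyConnected f]
    [UniversallyClosed f] : (FEt.restrict f).Full ∧ (FEt.restrict f).Faithful := by
  haveI := surjective_of_connected f
  have h1 : MeetsClopens f := meetsClopens_of_surjective f
  have h2 : ClopensDescend f := fun P W hW => by
    haveI : GeometricallyConnected (pullback.fst P.hom f) :=
      MorphismProperty.pullback_fst (P := @GeometricallyConnected) P.hom f inferInstance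
    exact exists_clopen_preimage _ (pullback.fst P.hom f).isClosedMap
      (pullback.fst P.hom f).surjective (fun b => preconnected_fibre _ b) W hW
  exact ⟨full f h1 h2, faithful f h1⟩

theorem isReduced_of_flat_surjective {A B : Scheme.{u}} (g : A ⟶ B) [Flat g] [Surjective g] [IsReduced A] :
    IsReduced B := by
  haveI : ∀ b : B, _root_.IsReduced (B.presheaf.stalk b) := fun b => by
    obtain ⟨a, rfl⟩ := g.surjective b
    exact H12AlgSp.isReduced_stalk_of_flat g a
  exact isReduced_of_isReduced_stalk _

theorem geometricallyReduced_of_geomFibres {X S : Scheme.{u}} (f : X ⟶ S)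
    (h : ∀ (Ω : Type u) [Field Ω] [IsAlgClosed Ω] (s : Spec (CommRingCat.of Ω) ⟶ S),
      IsReduced (pullback f s)) : GeometricallyReduced f := by
  refine ⟨fun K _ y Z fst snd hP => ?_⟩
  let c := Spec.map (CommRingCat.ofHom (algebraMap K (AlgebraicClosure K)))
  haveI := h (AlgebraicClosure K) (c ≫ y)
  have hP' : IsPullback (pullback.fst snd c ≫ fst) (pullback.snd snd c) f (c ≫ y) :=
    (IsPullback.of_hasPullback snd c).paste_horiz hP
  haveI : IsReduced (pullback snd c) := isReduced_of_isOpenImmersion hP'.isoPullback.hom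
  haveI : Surjective c := ⟨fun _ => ⟨default, Subsingleton.elim (α := PrimeSpectrum K) _ _⟩⟩
  haveI : Flat c := Flat.SpecMap_iff.2 (RingHom.flat_algebraMap_iff.2 inferInstance)
  exact isReduced_of_flat_surjective (pullback.fst snd c)

/-- An étale cover of a family with reduced geometric fibres has reduced geometric fibres. -/
theorem geometricallyReduced_comp_etale {P X S : Scheme.{u}} (g : P ⟶ X) [Etale g] (f : X ⟶ S)
    [GeometricallyReduced f] : GeometricallyReduced (g ≫ f) := by
  refine geometricallyReduced_of_geomFibres _ fun Ω _ _ s => ?_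
  haveI : IsReduced (pullback f s) :=
    GeometricallyReduced.geometrically_isReduced _ _ _ (IsPullback.of_hasPullback f s)
  haveI : IsReduced (pullback g (pullback.fst f s)) :=
    H13AlgSp.isReduced_of_smooth_mor (pullback.snd g (pullback.fst f s))
  exact isReduced_of_isOpenImmersion (pullbackRightPullbackFstIso f s g).inv

theorem preconnectedSpace_spec_local (A : Type u) [CommRing A] [IsLocalRing A] :
    PreconnectedSpace ↥(Spec (CommRingCat.of A)) := by
  refine ⟨isPreconnected_iff_subset_of_disjoint.2 fun U V hU hV hUV h => ?_⟩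
  rcases hUV (Set.mem_univ (IsLocalRing.closedPoint A)) with hc | hc
  · exact Or.inl fun x _ => (IsLocalRing.specializes_closedPoint x).mem_open hU hc
  · exact Or.inr fun x _ => (IsLocalRing.specializes_closedPoint x).mem_open hV hc

section Count

theorem natCard_clopens (α : Type u) [TopologicalSpace α] [TopologicalSpace.NoetherianSpace α]
    [Finite (ConnectedComponents α)] :
    Finite {W : Set α // IsClopen W} ∧
      Nat.card {W : Set α // IsClopen W} = 2 ^ Nat.card (ConnectedComponents α) := by
  let e : Set (ConnectedComponents α) → {W : Set α // IsClopen W} := fun s =>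
    ⟨ConnectedComponents.mk ⁻¹' s, isClopen_union_components s⟩
  have he : Function.Bijective e := by
    refine ⟨fun s t h => ConnectedComponents.surjective_coe.preimage_injective (congrArg Subtype.val h),
      fun W => ⟨ConnectedComponents.mk '' W.1, Subtype.ext (Set.ext fun x => ⟨?_, fun hx => ⟨x, hx, rfl⟩⟩)⟩⟩
    rintro ⟨y, hy, hyx⟩
    exact W.2.connectedComponent_subset hy (ConnectedComponents.coe_eq_coe'.mp hyx.symm)
  refine ⟨Finite.of_surjective e he.2, ?_⟩
  rw [← Nat.card_eq_of_bijective e he]
  cases nonempty_fintype (ConnectedComponents α)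
  rw [Nat.card_eq_fintype_card, Nat.card_eq_fintype_card, Fintype.card_set]

theorem noetherianSpace_of_field {k : Type u} [Field k] {Z : Scheme.{u}} (p : Z ⟶ Spec (CommRingCat.of k))
    [IsProper p] : TopologicalSpace.NoetherianSpace Z := by
  haveI : IsNoetherianRing (CommRingCat.of k) := inferInstanceAs (IsNoetherianRing k)
  haveI : IsLocallyNoetherian Z := LocallyOfFiniteType.isLocallyNoetherian p
  haveI : CompactSpace Z := QuasiCompact.compactSpace_of_compactSpace p
  haveI : IsNoetherian Z := {}
  infer_instance

variable {A : Type u} [CommRing A] [HenselianLocalRing A] [IsSepClosed (IsLocalRing.ResidueField A)]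

/-- A nonempty clopen of a flat proper family over a local ring meets every fibre. -/
theorem clopen_meets {P : Scheme.{u}} (q : P ⟶ Spec (CommRingCat.of A)) [UniversallyClosed q] [Flat q]
    [LocallyOfFinitePresentation q] (V : Set P) (hV : IsClopen V) (hne : V.Nonempty)
    (a : Spec (CommRingCat.of A)) : ∃ x ∈ V, q x = a := by
  have ho : IsOpen (q '' V) := q.isOpenMap _ hV.2
  have hcl : IsClosed (q '' V) := q.isClosedMap _ hV.1
  haveI : PreconnectedSpace ↥(Spec (CommRingCat.of A)) :=
    preconnectedSpace_spec_local A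
  have h := IsClopen.eq_univ ⟨hcl, ho⟩ (hne.image _)
  obtain ⟨x, hx, rfl⟩ : a ∈ q '' V := h ▸ trivial
  exact ⟨x, hx, rfl⟩

/-- Clopens of a geometric fibre of a flat proper family with reduced geometric fibres over a strictly
henselian local ring come from the total space. -/
theorem exists_clopen_fibre {P : Scheme.{u}} (q : P ⟶ Spec (CommRingCat.of A)) [IsProper q] [Flat q]
    [LocallyOfFinitePresentation q] [GeometricallyReduced q] (Ω : Type u) [Field Ω] [IsAlgClosed Ω]
    (t : Spec (CommRingCat.of Ω) ⟶ Spec (CommRingCat.of A)) (W : Set ↥(pullback q t)) (hW : IsClopen W) :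
    ∃ U : Set P, IsClopen U ∧ pullback.fst q t ⁻¹' U = W := by
  let I := IsLocalRing.maximalIdeal A
  haveI : HenselianRing A I := inferInstance
  let c : Spec (CommRingCat.of (IsLocalRing.ResidueField A)) ⟶ Spec (CommRingCat.of A) :=
    Spec.map (CommRingCat.ofHom (IsLocalRing.residue A))
  haveI := noetherianSpace_of_field (pullback.snd q c)
  haveI := noetherianSpace_of_field (pullback.snd q t)
  haveI := H06Conn.finite_connectedComponents_fibre q c
  haveI := H06Conn.finite_connectedComponents_fibre q t
  -- clopens of the total space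
  let r₀ : {U : Set P // IsClopen U} → {W : Set ↥(pullback q c) // IsClopen W} := fun U =>
    ⟨pullback.fst q c ⁻¹' U.1, U.2.preimage (pullback.fst q c).continuous⟩
  have hr₀ : Function.Bijective r₀ := by
    refine ⟨fun U U' h => ?_, fun V => ?_⟩
    · obtain ⟨_, -, hu⟩ := H9Hens.ProperPairApps.uniqueLift_fibre I q _ (r₀ U).2
      exact Subtype.ext ((hu U.1 ⟨U.2, rfl⟩).trans (hu U'.1 ⟨U'.2, (congrArg Subtype.val h).symm⟩).symm)
    · obtain ⟨U, ⟨hU, hUV⟩, -⟩ := H9Hens.ProperPairApps.uniqueLift_fibre I q V.1 V.2
      exact ⟨⟨U, hU⟩, Subtype.ext hUV⟩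
  let r : {U : Set P // IsClopen U} → {W : Set ↥(pullback q t) // IsClopen W} := fun U =>
    ⟨pullback.fst q t ⁻¹' U.1, U.2.preimage (pullback.fst q t).continuous⟩
  have hr : Function.Injective r := fun U U' h => by
    refine Subtype.ext ?_
    by_contra hne
    have hd : ((U.1 \ U'.1) ∪ (U'.1 \ U.1)).Nonempty := by
      rw [Set.nonempty_iff_ne_empty]
      intro he
      rw [Set.union_empty_iff, Set.sdiff_eq_empty, Set.sdiff_eq_empty] at he
      exact hne (Set.Subset.antisymm he.1 he.2)
    obtain ⟨x, hx, hxt⟩ := clopen_meets q _ ((U.2.diff U'.2).union (U'.2.diff U.2)) hd (t.base default)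
    obtain ⟨z, hz, -⟩ := Scheme.Pullback.exists_preimage_pullback (f := q) (g := t) x default hxt
    have e : (pullback.fst q t z ∈ U.1) ↔ (pullback.fst q t z ∈ U'.1) :=
      Iff.of_eq (congrArg (fun V : {W : Set ↥(pullback q t) // IsClopen W} => z ∈ V.1) h)
    rw [hz] at e
    rcases hx with ⟨h1, h2⟩ | ⟨h1, h2⟩
    exacts [h2 (e.1 h1), h2 (e.2 h1)]
  -- the two fibres have equally many connected components
  have hn : Nat.card (_root_.ConnectedComponents ↥(pullback q c)) =
      Nat.card (_root_.ConnectedComponents ↥(pullback q t)) := by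
    have hc := (H7Flat.GeomInt.nGeom_eq q c (y := c.base (IsLocalRing.closedPoint (IsLocalRing.ResidueField A))) rfl).2
    have ht := (H7Flat.GeomInt.nGeom_eq q t (y := t.base (IsLocalRing.closedPoint Ω)) rfl).2
    have hlc : IsLocallyConstant (fun s => MoreMor.nGeomConnComp q s) := by
      rw [IsLocallyConstant.iff_eventually_eq]
      exact fun s => H06Conn.setOf_eq_mem_nhds_of_proper_flat q s inferInstance
    haveI : PreconnectedSpace ↥(Spec (CommRingCat.of A)) :=
      preconnectedSpace_spec_local A
    have e := hlc.apply_eq_of_preconnectedSpace (c.base (IsLocalRing.closedPoint (IsLocalRing.ResidueField A)))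
      (t.base (IsLocalRing.closedPoint Ω))
    rw [← hc, ← ht, ENat.card_eq_coe_natCard, ENat.card_eq_coe_natCard] at e
    exact_mod_cast e
  obtain ⟨hf₀, hc₀⟩ := natCard_clopens ↥(pullback q c)
  obtain ⟨hft, hct⟩ := natCard_clopens ↥(pullback q t)
  haveI := hf₀
  haveI := hft
  haveI : Finite {U : Set P // IsClopen U} := Finite.of_injective r₀ hr₀.1
  have hb : Function.Bijective r := (Nat.bijective_iff_injective_and_card r).2
    ⟨hr, by rw [Nat.card_eq_of_bijective r₀ hr₀, hc₀, hn, hct]⟩
  obtain ⟨U, hU⟩ := hb.2 ⟨W, hW⟩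
  exact ⟨U.1, U.2, congrArg Subtype.val hU⟩

/-- **Specialisation**: restriction to any geometric fibre is fully faithful. -/
theorem fullyFaithful_fibre {X : Scheme.{u}} (f : X ⟶ Spec (CommRingCat.of A)) [IsProper f] [Flat f]
    [LocallyOfFinitePresentation f] [GeometricallyReduced f] (Ω : Type u) [Field Ω] [IsAlgClosed Ω]
    (t : Spec (CommRingCat.of Ω) ⟶ Spec (CommRingCat.of A)) :
    (FEt.restrict (pullback.fst f t)).Full ∧ (FEt.restrict (pullback.fst f t)).Faithful := by
  have h1 : MeetsClopens (pullback.fst f t) := fun V hV hne => by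
    obtain ⟨x, hx, hxt⟩ := clopen_meets f V hV hne (t.base default)
    obtain ⟨z, hz, -⟩ := Scheme.Pullback.exists_preimage_pullback (f := f) (g := t) x default hxt
    exact ⟨x, hx, z, hz⟩
  have h2 : ClopensDescend (pullback.fst f t) := fun P W hW => by
    haveI : IsFinite P.hom := isFinite_hom P
    haveI : Etale P.hom := etale_hom P
    haveI := geometricallyReduced_comp_etale P.hom f
    let e := pullbackRightPullbackFstIso f t P.hom
    have he : e.inv ≫ pullback.fst P.hom (pullback.fst f t) = pullback.fst (P.hom ≫ f) t := by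
      rw [pullbackRightPullbackFstIso_inv_fst]
    obtain ⟨U, hU, hUW⟩ := exists_clopen_fibre (P.hom ≫ f) Ω t (e.inv.base ⁻¹' W)
      (hW.preimage e.inv.continuous)
    refine ⟨U, hU, ?_⟩
    rw [← he, Scheme.Hom.comp_base, TopCat.coe_comp, Set.preimage_comp] at hUW
    exact e.inv.homeomorph.surjective.preimage_injective hUW
  exact ⟨full _ h1 h2, faithful _ h1⟩

end Count

end Groth.Agent.H18PBC.Spec
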