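import Groth.Agent.H18PBC.PairEquiv
import Groth.Agent.H18PBC.Specialization
import Groth.Agent.H18PBC.FieldExt
import Groth.Agent.S0289
import Groth.Agent.H7Lim.GeomConnFinite

/-!
# Finite étale covers of proper schemes under extensions of separably closed fields
-/

set_option autoImplicit false
set_option linter.style.haveILetI false
set_option backward.isDefEq.respectTransparency false

universe u

open CategoryTheory CategoryTheory.Limits AlgebraicGeometry Opposite TensorProduct

namespace Groth.Agent.H18PBC.SepClosedBC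

open H18Et.FEtRestrict H18Et.FEtRestrictApps H18Et.FEtLimit

/-- Clopens descend along open surjections with connected fibres. -/
theorem exists_clopen_preimage {α β : Type*} [TopologicalSpace α] [TopologicalSpace β] (p : α → β)
    (hc : IsOpenMap p) (hs : Function.Surjective p) (hf : ∀ b, IsPreconnected (p ⁻¹' {b}))
    (W : Set α) (hW : IsClopen W) : ∃ V : Set β, IsClopen V ∧ p ⁻¹' V = W := by
  have key : ∀ a a', a ∈ W → p a = p a' → a' ∈ W := fun a a' ha e =>
    (hf (p a)).subset_isClopen hW ⟨a, rfl, ha⟩ e.symm
  refine ⟨p '' W, ⟨?_, hc _ hW.2⟩, Set.ext fun a => ⟨fun ⟨a', h, e⟩ => key a' a h e, fun h => ⟨a, h, rfl⟩⟩⟩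
  have hcompl : (p '' W)ᶜ = p '' Wᶜ := by
    ext b
    refine ⟨fun hb => ?_, ?_⟩
    · obtain ⟨a, rfl⟩ := hs b
      exact ⟨a, fun ha => hb ⟨a, ha, rfl⟩, rfl⟩
    · rintro ⟨a, ha, rfl⟩ ⟨a', ha', e⟩
      exact ha (key a' a ha' e)
  rw [← isOpen_compl_iff, hcompl]
  exact hc _ hW.compl.2

/-- Restriction along open surjections with geometrically connected fibres is fully faithful. -/
theorem fullyFaithful_of_universallyOpen {X S : Scheme.{u}} (f : X ⟶ S) [GeometricallyConnected f]
    [UniversallyOpen f] : (FEt.restrict f).Full ∧ (FEt.restrict f).Faithful := by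
  haveI := Spec.surjective_of_connected f
  have h1 : MeetsClopens f := meetsClopens_of_surjective f
  have h2 : ClopensDescend f := fun P W hW => by
    haveI : GeometricallyConnected (pullback.fst P.hom f) :=
      MorphismProperty.pullback_fst (P := @GeometricallyConnected) P.hom f inferInstance
    exact exists_clopen_preimage _ (pullback.fst P.hom f).isOpenMap
      (pullback.fst P.hom f).surjective (fun b => Spec.preconnected_fibre _ b) W hW
  exact ⟨full f h1 h2, faithful f h1⟩

/-- Base change along an extension of a separably closed field is fully faithful. -/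
theorem fullyFaithful_fieldExt {k K : Type u} [Field k] [IsSepClosed k] [Field K] (φ : k →+* K)
    {X XK : Scheme.{u}} (a : XK ⟶ X) (b : XK ⟶ Spec (CommRingCat.of K)) (f : X ⟶ Spec (CommRingCat.of k))
    (h : IsPullback a b f (Spec.map (CommRingCat.ofHom φ))) :
    (FEt.restrict a).Full ∧ (FEt.restrict a).Faithful := by
  haveI := geometricallyConnected_fieldExt φ
  haveI : IsIntegral (Spec (CommRingCat.of k)) := inferInstance
  haveI : Subsingleton ↥(Spec (CommRingCat.of k)) := inferInstanceAs (Subsingleton (PrimeSpectrum k))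
  haveI : GeometricallyConnected a := MorphismProperty.of_isPullback h.flip inferInstance
  haveI : UniversallyOpen a := MorphismProperty.of_isPullback h.flip inferInstance
  exact fullyFaithful_of_universallyOpen a

/-- Base change along a field extension of finite type of a separably closed field is an equivalence. -/
theorem isEquivalence_finite {k κ : Type u} [Field k] [IsSepClosed k] [Field κ] [Algebra k κ]
    [Module.Finite k κ] {X Y : Scheme.{u}} (a : Y ⟶ X) (b : Y ⟶ Spec (CommRingCat.of κ))
    (f : X ⟶ Spec (CommRingCat.of k))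
    (h : IsPullback a b f (Spec.map (CommRingCat.ofHom (algebraMap k κ)))) :
    (FEt.restrict a).IsEquivalence := by
  haveI : IsPurelyInseparable k κ := inferInstance
  haveI : IsIntegralHom (Spec.map (CommRingCat.ofHom (algebraMap k κ))) :=
    IsIntegralHom.SpecMap_iff.mpr (RingHom.Finite.to_isIntegral (RingHom.finite_algebraMap.mpr inferInstance))
  haveI := H7Lim.GeomConnFinite.universallyInjective_SpecMap k κ
  haveI := H18PBC.surjective_fieldExt (algebraMap k κ)
  haveI : IsIntegralHom a := MorphismProperty.of_isPullback h.flip inferInstance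
  haveI : UniversallyInjective a := MorphismProperty.of_isPullback h.flip inferInstance
  haveI : Surjective a := MorphismProperty.of_isPullback h.flip inferInstance
  exact Groth.Agent.S0289.result a

theorem injective_algebraMap_adicCompletion {R : Type u} [CommRing R] [IsDomain R] [IsNoetherianRing R]
    {J : Ideal R} (hJ : J ≠ ⊤) : Function.Injective (algebraMap R (AdicCompletion J R)) := by
  rw [injective_iff_map_eq_zero]
  intro x hx
  have h : x ∈ ⨅ n : ℕ, J ^ n := by
    rw [Ideal.mem_iInf]
    intro n
    rw [← Ideal.Quotient.eq_zero_iff_mem, ← H05EGA4.AdicLim.evalₐ_algebraMap, hx, map_zero]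
  rwa [Ideal.iInf_pow_eq_bot_of_isDomain J hJ, Ideal.mem_bot] at h

open SubalgSystem in
set_option maxHeartbeats 1000000 in
/-- Essential surjectivity. -/
theorem exists_cover {k K : Type u} [Field k] [IsSepClosed k] [Field K] [IsSepClosed K] [Algebra k K]
    {X : Scheme.{u}} (f : X ⟶ Spec (CommRingCat.of k)) [IsProper f]
    (V : FEt.Cat (pullback f (Spec.map (CommRingCat.ofHom (algebraMap k K))))) :
    ∃ W : FEt.Cat X, Nonempty ((FEt.restrict (pullback.fst f (Spec.map (CommRingCat.ofHom (algebraMap k K))))).obj W ≅ V) := by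
  haveI : Nonempty (Finset K) := ⟨∅⟩
  let D := specSystem k K
  let c := specCone k K
  let i₀ : (Finset K)ᵒᵖ := op ∅
  let β : k →+* ↥(Algebra.adjoin k ((∅ : Finset K) : Set K)) := algebraMap _ _
  let aT : pullback f (Spec.map (CommRingCat.ofHom β)) ⟶ D.obj i₀ := pullback.snd f (Spec.map (CommRingCat.ofHom β))
  haveI : IsProper aT := MorphismProperty.pullback_snd _ _ inferInstance
  haveI : CompactSpace ↥(pullback f (Spec.map (CommRingCat.ofHom β))) := QuasiCompact.compactSpace_of_compactSpace aT
  haveI : QuasiSeparatedSpace ↥(pullback f (Spec.map (CommRingCat.ofHom β))) := quasiSeparatedSpace_of_quasiSeparated aT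
  have hP : IsPullback (pullback.fst aT (c.π.app i₀) ≫ pullback.fst f (Spec.map (CommRingCat.ofHom β)))
      (pullback.snd aT (c.π.app i₀)) f (Spec.map (CommRingCat.ofHom (algebraMap k K))) := by
    have h := (IsPullback.of_hasPullback aT (c.π.app i₀)).paste_horiz
      (IsPullback.of_hasPullback f (Spec.map (CommRingCat.ofHom β)))
    exact (show c.π.app i₀ ≫ Spec.map (CommRingCat.ofHom β) = Spec.map (CommRingCat.ofHom (algebraMap k K)) from
      (Approx.specMap_comp_ofHom β _).trans (congrArg (fun φ => Spec.map (CommRingCat.ofHom φ))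
        (RingHom.ext fun _ => rfl))) ▸ h
  let κ := hP.isoPullback
  obtain ⟨j, Vj, ⟨ej⟩⟩ := exists_stage_obj (H7Lim.isLimitPbCone D i₀ aT (isLimitSpecCone k K))
    ((FEt.restrict κ.hom).obj V)
  let R := ↥(Algebra.adjoin k ((j.left.unop : Finset K) : Set K))
  haveI : Algebra.FiniteType k R :=
    (Algebra.adjoin k ((j.left.unop : Finset K) : Set K)).fg_iff_finiteType.1 ⟨j.left.unop, rfl⟩
  haveI : IsNoetherianRing R := Algebra.FiniteType.isNoetherianRing k R
  let fR : pullback aT (D.map j.hom) ⟶ D.obj j.left := pullback.snd aT (D.map j.hom)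
  have hR : IsPullback (pullback.fst aT (D.map j.hom) ≫ pullback.fst f (Spec.map (CommRingCat.ofHom β)))
      fR f (Spec.map (CommRingCat.ofHom (algebraMap k R))) := by
    have h := (IsPullback.of_hasPullback aT (D.map j.hom)).paste_horiz
      (IsPullback.of_hasPullback f (Spec.map (CommRingCat.ofHom β)))
    exact (show D.map j.hom ≫ Spec.map (CommRingCat.ofHom β) = Spec.map (CommRingCat.ofHom (algebraMap k R)) from
      (Approx.specMap_comp_ofHom β _).trans (congrArg (fun φ => Spec.map (CommRingCat.ofHom φ))
        (RingHom.ext fun _ => rfl))) ▸ h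
  -- a maximal ideal and the completion there
  obtain ⟨J, hJ⟩ := Ideal.exists_maximal R
  let L := AdicCompletion J R
  let α : R →+* L := algebraMap R L
  haveI : IsAdicComplete (J.map α) L := AdicCompletion.isAdicComplete_self _ (IsNoetherian.noetherian _)
  let q : L →ₐ[R] R ⧸ J := (Ideal.Quotient.factorₐ R (pow_one J).le).comp (AdicCompletion.evalₐ J 1)
  have hq : RingHom.ker q.toRingHom = J.map α := by
    refine le_antisymm (fun y hy => ?_) (Ideal.map_le_iff_le_comap.2 fun x hx => ?_)
    · have h0 : AdicCompletion.evalₐ J 1 y = 0 := by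
        obtain ⟨z, hz⟩ := Ideal.Quotient.mk_surjective (AdicCompletion.evalₐ J 1 y)
        have hy' : Ideal.Quotient.factor (pow_one J).le (AdicCompletion.evalₐ J 1 y) = 0 := hy
        rw [← hz, Ideal.Quotient.factor_mk, Ideal.Quotient.eq_zero_iff_mem] at hy'
        rw [← hz, Ideal.Quotient.eq_zero_iff_mem, pow_one]
        exact hy'
      simpa using (H05EGA4.AdicLim.ker_evalₐ (IsNoetherian.noetherian J) 1 y).1 h0
    · rw [Ideal.mem_comap, RingHom.mem_ker]
      exact (q.commutes x).trans (Ideal.Quotient.eq_zero_iff_mem.2 hx)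
  have hqs : Function.Surjective q.toRingHom := fun z => by
    obtain ⟨x, rfl⟩ := Ideal.Quotient.mk_surjective z
    exact ⟨α x, q.commutes x⟩
  haveI : (J.map α).IsMaximal := by
    letI := Ideal.Quotient.field J
    rw [← hq]; exact RingHom.ker_isMaximal_of_surjective _ hqs
  letI := Ideal.Quotient.field (J.map α)
  letI : Algebra k L := (α.comp (algebraMap k R)).toAlgebra
  letI : Algebra k (L ⧸ J.map α) := ((Ideal.Quotient.mk (J.map α)).comp (algebraMap k L)).toAlgebra
  haveI : Module.Finite k (L ⧸ J.map α) := by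
    letI := Ideal.Quotient.field J
    haveI : Algebra.FiniteType k (R ⧸ J) := Algebra.FiniteType.of_surjective (Ideal.Quotient.mkₐ k J)
      Ideal.Quotient.mk_surjective
    haveI : Module.Finite k (R ⧸ J) := finite_of_finite_type_of_isJacobsonRing k (R ⧸ J)
    have hs : Function.Surjective (Ideal.quotientMap (J.map α) α Ideal.le_comap_map) := fun z => by
      obtain ⟨y, rfl⟩ := Ideal.Quotient.mk_surjective z
      obtain ⟨x, hx⟩ := Ideal.Quotient.mk_surjective (q y)
      refine ⟨Ideal.Quotient.mk J x, ?_⟩
      rw [Ideal.quotientMap_mk, Ideal.Quotient.eq, ← hq, RingHom.mem_ker, map_sub, sub_eq_zero]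
      exact (q.commutes x).trans hx
    let π : (R ⧸ J) →ₐ[k] L ⧸ J.map α :=
      { Ideal.quotientMap (J.map α) α Ideal.le_comap_map with commutes' := fun x => rfl }
    exact Module.Finite.of_surjective π.toLinearMap hs
  -- proper scheme over the completion
  let fL := pullback.snd fR (Spec.map (CommRingCat.ofHom α))
  haveI : IsProper fR := MorphismProperty.of_isPullback hR inferInstance
  haveI : IsProper fL := MorphismProperty.pullback_snd _ _ inferInstance
  let cX := pullback.fst fR (Spec.map (CommRingCat.ofHom α)) ≫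
    (pullback.fst aT (D.map j.hom) ≫ pullback.fst f (Spec.map (CommRingCat.ofHom β)))
  have hL : IsPullback cX fL f (Spec.map (CommRingCat.ofHom (algebraMap k L))) := by
    have h := (IsPullback.of_hasPullback fR (Spec.map (CommRingCat.ofHom α))).paste_horiz hR
    rw [Approx.specMap_comp_ofHom] at h
    exact h
  let mk := Spec.map (CommRingCat.ofHom (Ideal.Quotient.mk (J.map α)))
  have h0 : IsPullback (pullback.fst fL mk ≫ cX) (pullback.snd fL mk) f
      (Spec.map (CommRingCat.ofHom (algebraMap k (L ⧸ J.map α)))) := by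
    have h := (IsPullback.of_hasPullback fL mk).paste_horiz hL
    rw [Approx.specMap_comp_ofHom] at h
    exact h
  haveI := isEquivalence_finite _ _ f h0
  obtain ⟨hfull, hfaith⟩ := PairFF.fullyFaithful_pair (J.map α) fL
  haveI := hfull
  haveI := hfaith
  let P := (FEt.restrict (pullback.fst fR (Spec.map (CommRingCat.ofHom α)))).obj Vj
  let W := (FEt.restrict (pullback.fst fL mk ≫ cX)).objPreimage ((FEt.restrict (pullback.fst fL mk)).obj P)
  let eP : (FEt.restrict cX).obj W ≅ P := (FEt.restrict (pullback.fst fL mk)).preimageIso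
    (restrictCompIso _ _ _ rfl W ≪≫
      (FEt.restrict (pullback.fst fL mk ≫ cX)).objObjPreimageIso ((FEt.restrict (pullback.fst fL mk)).obj P))
  -- a common field
  letI : Algebra (FractionRing R) K := (IsFractionRing.lift (A := R) (K := FractionRing R)
    (show Function.Injective (algebraMap R K) from Subtype.val_injective)).toAlgebra
  haveI : IsScalarTower R (FractionRing R) K := IsScalarTower.of_algebraMap_eq fun x =>
    (IsLocalization.lift_eq _ x).symm
  haveI : Module.Flat R K := Module.Flat.trans R (FractionRing R) K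
  have hinj : Function.Injective (LinearMap.lTensor K (Algebra.linearMap R L)) :=
    Module.Flat.lTensor_preserves_injective_linearMap _ (injective_algebraMap_adicCompletion hJ.ne_top)
  haveI : Nontrivial (K ⊗[R] L) :=
    haveI : Nontrivial (K ⊗[R] R) := (TensorProduct.rid R K).toEquiv.nontrivial
    hinj.nontrivial
  letI : CommRing (K ⊗[R] L) := Algebra.TensorProduct.instCommRing
  obtain ⟨M, hM⟩ := Ideal.exists_maximal (K ⊗[R] L)
  letI := Ideal.Quotient.field M
  let iK : K →+* (K ⊗[R] L) ⧸ M := (Ideal.Quotient.mk M).comp (Algebra.TensorProduct.includeLeftRingHom)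
  let iL : L →+* (K ⊗[R] L) ⧸ M :=
    (Ideal.Quotient.mk M).comp (Algebra.TensorProduct.includeRight : L →ₐ[R] K ⊗[R] L).toRingHom
  have hiR : iK.comp (algebraMap R K) = iL.comp α := RingHom.ext fun r =>
    congrArg (Ideal.Quotient.mk M) (show algebraMap R K r ⊗ₜ[R] (1 : L) = (1 : K) ⊗ₜ[R] algebraMap R L r by
      rw [Algebra.algebraMap_eq_smul_one, Algebra.algebraMap_eq_smul_one, TensorProduct.smul_tmul])
  let Ω := (K ⊗[R] L) ⧸ M
  let XK := pullback f (Spec.map (CommRingCat.ofHom (algebraMap k K)))
  let zΩ := Spec.map (CommRingCat.ofHom (iK.comp (algebraMap k K)))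
  have hkL : Spec.map (CommRingCat.ofHom iL) ≫ Spec.map (CommRingCat.ofHom (algebraMap k L)) = zΩ := by
    rw [Approx.specMap_comp_ofHom]
    refine congrArg (fun φ => Spec.map (CommRingCat.ofHom φ)) (RingHom.ext fun x => ?_)
    exact (RingHom.congr_fun hiR (algebraMap k R x)).symm
  let a : pullback f zΩ ⟶ XK := pullback.lift (pullback.fst f zΩ)
    (pullback.snd f zΩ ≫ Spec.map (CommRingCat.ofHom iK))
    (by rw [Category.assoc, Approx.specMap_comp_ofHom]; exact pullback.condition)
  have ha : IsPullback a (pullback.snd f zΩ) (pullback.snd f (Spec.map (CommRingCat.ofHom (algebraMap k K))))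
      (Spec.map (CommRingCat.ofHom iK)) := by
    refine IsPullback.of_right (h₁₂ := pullback.fst f _) (h₂₂ := Spec.map (CommRingCat.ofHom (algebraMap k K)))
      (v₁₃ := f) ?_ (pullback.lift_snd _ _ _) (IsPullback.of_hasPullback _ _)
    rw [pullback.lift_fst, Approx.specMap_comp_ofHom]
    exact IsPullback.of_hasPullback _ _
  let b : pullback f zΩ ⟶ pullback fR (Spec.map (CommRingCat.ofHom α)) := hL.lift (pullback.fst f zΩ)
    (pullback.snd f zΩ ≫ Spec.map (CommRingCat.ofHom iL))
    (by rw [Category.assoc, hkL]; exact pullback.condition)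
  have key : a ≫ κ.inv ≫ (H7Lim.pbCone D c i₀ aT).π.app j = b ≫ pullback.fst fR (Spec.map (CommRingCat.ofHom α)) := by
    refine hR.hom_ext ?_ ?_
    · simp only [Category.assoc, H7Lim.pbCone_π_app, pullback.map, pullback.lift_fst_assoc, Category.id_comp]
      rw [hP.isoPullback_inv_fst, pullback.lift_fst]
      exact (hL.lift_fst _ _ _).symm
    · simp only [Category.assoc, H7Lim.pbCone_π_app, pullback.map, fR, pullback.lift_snd]
      rw [hP.isoPullback_inv_snd_assoc, pullback.lift_snd_assoc]
      refine Eq.trans ?_ (congrArg (b ≫ ·) pullback.condition.symm)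
      rw [← Category.assoc b, hL.lift_snd, Category.assoc, Category.assoc]
      refine congrArg (pullback.snd f zΩ ≫ ·) ((Approx.specMap_comp_ofHom _ _).trans
        (Eq.trans ?_ (Approx.specMap_comp_ofHom _ _).symm))
      exact congrArg (fun φ => Spec.map (CommRingCat.ofHom φ)) hiR
  have hab : b ≫ cX = a ≫ pullback.fst f (Spec.map (CommRingCat.ofHom (algebraMap k K))) := by
    rw [hL.lift_fst, pullback.lift_fst]
  obtain ⟨hfullK, hfaithK⟩ := fullyFaithful_fieldExt iK a _ _ ha
  haveI := hfullK
  haveI := hfaithK
  refine ⟨W, ⟨(FEt.restrict a).preimageIso ?_⟩⟩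
  exact Approx.restrictEqIso hab.symm W ≪≫ (FEt.restrict b).mapIso eP ≪≫
    restrictCompIso b _ _ key.symm Vj ≪≫ (restrictCompIso a _ _ rfl Vj).symm ≪≫
    (FEt.restrict a).mapIso ((restrictCompIso κ.inv _ _ rfl Vj).symm ≪≫ (FEt.restrict κ.inv).mapIso ej ≪≫
      Approx.restrictInvIso κ.inv_hom_id V)

/-- **Invariance of finite étale covers under extensions of separably closed fields.** -/
theorem isEquivalence {k K : Type u} [Field k] [IsSepClosed k] [Field K] [IsSepClosed K] [Algebra k K]
    {X : Scheme.{u}} (f : X ⟶ Spec (CommRingCat.of k)) [IsProper f] :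
    (FEt.restrict (pullback.fst f (Spec.map (CommRingCat.ofHom (algebraMap k K))))).IsEquivalence := by
  obtain ⟨h1, h2⟩ := fullyFaithful_fieldExt _ _ _ f
    (IsPullback.of_hasPullback f (Spec.map (CommRingCat.ofHom (algebraMap k K))))
  haveI : (FEt.restrict (pullback.fst f (Spec.map (CommRingCat.ofHom (algebraMap k K))))).EssSurj :=
    ⟨fun V => exists_cover f V⟩
  exact { }

end Groth.Agent.H18PBC.SepClosedBC
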