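import Groth.Agent.H18PBC.CompleteLift
import Groth.Agent.H18PBC.SubalgSystem
import Groth.Agent.H9Popescu.Approximation
import Groth.Agent.S0600

/-!
# Finite étale covers of the closed fibre extend: approximation over a G-ring

A G-ring `R`, an ideal `J`, a henselian pair `(A, I)` over `(R, J)` and a proper `R`-scheme: covers of
the closed fibre over `R/J` extend over `A`. The completion `R → R^` is regular, so the algebraized
cover is defined over a smooth `R`-algebra, whose point in `A/I` lifts to `A`.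
-/

set_option autoImplicit false
set_option linter.style.haveILetI false
set_option backward.isDefEq.respectTransparency false

universe u

open CategoryTheory CategoryTheory.Limits AlgebraicGeometry Opposite

namespace Groth.Agent.H18PBC.Approx

/-- Restriction along the identity. -/
noncomputable def restrictIdIso {X : Scheme.{u}} (A : FEt.Cat X) : (FEt.restrict (𝟙 X)).obj A ≅ A :=
  MorphismProperty.Over.isoMk (asIso (pullback.fst A.hom (𝟙 X))) (by
    show pullback.fst A.hom (𝟙 X) ≫ A.hom = pullback.snd A.hom (𝟙 X)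
    rw [pullback.condition, Category.comp_id])

/-- Equal composites give isomorphic restrictions. -/
noncomputable def restrictEqIso {X Y Z Y' : Scheme.{u}} {f : X ⟶ Y} {g : Y ⟶ Z} {f' : X ⟶ Y'} {g' : Y' ⟶ Z}
    (h : f ≫ g = f' ≫ g') (V : FEt.Cat Z) :
    (FEt.restrict f).obj ((FEt.restrict g).obj V) ≅ (FEt.restrict f').obj ((FEt.restrict g').obj V) :=
  H18Et.FEtLimit.restrictCompIso f g _ h V ≪≫ (H18Et.FEtLimit.restrictCompIso f' g' _ rfl V).symm

/-- A composite equal to the identity. -/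
noncomputable def restrictInvIso {X Y : Scheme.{u}} {f : X ⟶ Y} {g : Y ⟶ X} (h : f ≫ g = 𝟙 X) (V : FEt.Cat X) :
    (FEt.restrict f).obj ((FEt.restrict g).obj V) ≅ V :=
  H18Et.FEtLimit.restrictCompIso f g _ h V ≪≫ restrictIdIso V

theorem specMap_comp_ofHom {P Q S : Type u} [CommRing P] [CommRing Q] [CommRing S] (φ : P →+* Q) (ψ : Q →+* S) :
    Spec.map (CommRingCat.ofHom ψ) ≫ Spec.map (CommRingCat.ofHom φ) = Spec.map (CommRingCat.ofHom (ψ.comp φ)) := by
  rw [← Spec.map_comp, ← CommRingCat.ofHom_comp]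

open SubalgSystem in
set_option maxHeartbeats 1000000 in
theorem exists_cover_approx {R A : Type u} [CommRing R] [CommRing A] [Algebra R A] (hG : CAlg.IsGRing R)
    (J : Ideal R) (I : Ideal A) [HenselianRing A I] (hJ : J ≤ I.comap (algebraMap R A))
    {XR T X X₀ : Scheme.{u}} (fR : XR ⟶ Spec (CommRingCat.of R)) [IsProper fR]
    (iT : T ⟶ XR) (sT : T ⟶ Spec (CommRingCat.of (R ⧸ J)))
    (hT : IsPullback iT sT fR (Spec.map (CommRingCat.ofHom (Ideal.Quotient.mk J))))
    (f : X ⟶ Spec (CommRingCat.of A)) (g : X ⟶ XR)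
    (hg : g ≫ fR = f ≫ Spec.map (CommRingCat.ofHom (algebraMap R A)))
    (i : X₀ ⟶ X) (s : X₀ ⟶ Spec (CommRingCat.of (A ⧸ I)))
    (hs : i ≫ f = s ≫ Spec.map (CommRingCat.ofHom (Ideal.Quotient.mk I)))
    (b : X₀ ⟶ T) (hb1 : b ≫ iT = i ≫ g)
    (hb2 : b ≫ sT = s ≫ Spec.map (CommRingCat.ofHom (Ideal.quotientMap I (algebraMap R A) hJ)))
    (V : FEt.Cat T) :
    ∃ W : FEt.Cat X, Nonempty ((FEt.restrict i).obj W ≅ (FEt.restrict b).obj V) := by
  haveI := hG.1
  let L := AdicCompletion J R
  haveI : IsNoetherianRing L := H05EGA4.isNoetherianRing_adicCompletion R J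
  let α : R →+* L := algebraMap R L
  haveI : IsAdicComplete (J.map α) L := AdicCompletion.isAdicComplete_self _ (IsNoetherian.noetherian _)
  let q : L →ₐ[R] R ⧸ J := (Ideal.Quotient.factorₐ R (pow_one J).le).comp (AdicCompletion.evalₐ J 1)
  have hqα : q.toRingHom.comp α = Ideal.Quotient.mk J := RingHom.ext fun x => q.commutes x
  have hqJ : ∀ y ∈ J.map α, q.toRingHom y = 0 := fun y hy => by
    refine (Ideal.map_le_iff_le_comap.2 (fun x hx => ?_) : J.map α ≤ RingHom.ker q.toRingHom) hy
    rw [Ideal.mem_comap, RingHom.mem_ker, ← RingHom.comp_apply, hqα, Ideal.Quotient.eq_zero_iff_mem]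
    exact hx
  let a := Spec.map (CommRingCat.ofHom α)
  let fL : pullback fR a ⟶ Spec (CommRingCat.of L) := pullback.snd fR a
  haveI : IsProper fL := MorphismProperty.pullback_snd _ _ inferInstance
  let tL : T ⟶ pullback fR a := pullback.lift iT (sT ≫ Spec.map (CommRingCat.ofHom q.toRingHom))
    (by rw [Category.assoc, specMap_comp_ofHom, hqα, hT.w])
  let mkL := Spec.map (CommRingCat.ofHom (Ideal.Quotient.mk (J.map α)))
  let αq := Ideal.quotientMap (J.map α) α Ideal.le_comap_map
  let m : pullback fL mkL ⟶ T := hT.lift (pullback.fst fL mkL ≫ pullback.fst fR a)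
    (pullback.snd fL mkL ≫ Spec.map (CommRingCat.ofHom αq)) (by
      rw [Category.assoc, pullback.condition, ← Category.assoc, pullback.condition, Category.assoc,
        Category.assoc, specMap_comp_ofHom, specMap_comp_ofHom, Ideal.quotientMap_comp_mk])
  let qbar : L ⧸ J.map α →+* R ⧸ J := Ideal.Quotient.lift _ q.toRingHom hqJ
  let t₀ : T ⟶ pullback fL mkL := pullback.lift tL (sT ≫ Spec.map (CommRingCat.ofHom qbar)) (by
    rw [pullback.lift_snd, Category.assoc, specMap_comp_ofHom, Ideal.Quotient.lift_comp_mk])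
  have ht₀ : t₀ ≫ m = 𝟙 T := by
    refine hT.hom_ext ?_ ?_
    · rw [Category.assoc, hT.lift_fst, pullback.lift_fst_assoc, pullback.lift_fst, Category.id_comp]
    · rw [Category.assoc, hT.lift_snd, pullback.lift_snd_assoc, Category.assoc, specMap_comp_ofHom,
        Category.id_comp, show qbar.comp αq = RingHom.id _ from Ideal.Quotient.ringHom_ext hqα,
        CommRingCat.ofHom_id, Spec.map_id, Category.comp_id]
  obtain ⟨What, ⟨eW⟩⟩ := CompleteLift.exists_cover (J.map α) fL ((FEt.restrict m).obj V)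
  let eT : (FEt.restrict tL).obj What ≅ V :=
    (H18Et.FEtLimit.restrictCompIso _ _ _ (pullback.lift_fst _ _ _) What).symm ≪≫
      (FEt.restrict t₀).mapIso eW ≪≫ restrictInvIso ht₀ V
  -- descend to a finitely generated subalgebra of the completion
  let D := specSystem R L
  let c := specCone R L
  let i₀ : (Finset L)ᵒᵖ := op ∅
  let β : R →+* ↥(Algebra.adjoin R ((∅ : Finset L) : Set L)) := algebraMap _ _
  let T₀ := pullback fR (Spec.map (CommRingCat.ofHom β))
  let aT : T₀ ⟶ D.obj i₀ := pullback.snd fR (Spec.map (CommRingCat.ofHom β))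
  haveI : IsProper aT := MorphismProperty.pullback_snd _ _ inferInstance
  haveI : CompactSpace T₀ := QuasiCompact.compactSpace_of_compactSpace aT
  haveI : QuasiSeparatedSpace T₀ := quasiSeparatedSpace_of_quasiSeparated aT
  have hP : IsPullback (pullback.fst aT (c.π.app i₀) ≫ pullback.fst fR (Spec.map (CommRingCat.ofHom β)))
      (pullback.snd aT (c.π.app i₀)) fR a := by
    have h := (IsPullback.of_hasPullback aT (c.π.app i₀)).paste_horiz
      (IsPullback.of_hasPullback fR (Spec.map (CommRingCat.ofHom β)))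
    exact (show c.π.app i₀ ≫ Spec.map (CommRingCat.ofHom β) = a from
      (specMap_comp_ofHom β _).trans (congrArg (fun φ => Spec.map (CommRingCat.ofHom φ))
        (RingHom.ext fun _ => rfl))) ▸ h
  haveI : Nonempty (Finset L) := ⟨∅⟩
  let κ := hP.isoPullback
  obtain ⟨j, Wj, ⟨ej⟩⟩ := H18Et.FEtLimit.exists_stage_obj
    (H7Lim.isLimitPbCone D i₀ aT (isLimitSpecCone R L)) ((FEt.restrict κ.hom).obj What)
  -- factor through a smooth algebra and lift its point
  let Rs := ↥(Algebra.adjoin R ((j.left.unop : Finset L) : Set L))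
  haveI : Algebra.FiniteType R Rs :=
    (Algebra.adjoin R ((j.left.unop : Finset L) : Set L)).fg_iff_finiteType.1 ⟨j.left.unop, rfl⟩
  obtain ⟨B, _, _, hB, g₁, h₁, hgh⟩ := H9Popescu.popescu (S0600.result R hG J) Rs
    (Algebra.FinitePresentation.of_finiteType.mp inferInstance)
    (Algebra.adjoin R ((j.left.unop : Finset L) : Set L)).val
  haveI := hB
  let ρ : R ⧸ J →ₐ[R] A ⧸ I := Ideal.quotientMapₐ I (Algebra.ofId R A) hJ
  obtain ⟨τ, hτ⟩ := H9Hens.exists_algHom_lift_smooth_rel (R := R) ((ρ.comp q).comp h₁)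
  let ψ : Rs →ₐ[R] A := τ.comp g₁
  let Sψ : Spec (CommRingCat.of A) ⟶ D.obj j.left := Spec.map (CommRingCat.ofHom ψ.toRingHom)
  have hψ₀ : Sψ ≫ D.map j.hom ≫ Spec.map (CommRingCat.ofHom β) = Spec.map (CommRingCat.ofHom (algebraMap R A)) := by
    refine ((congrArg (Sψ ≫ ·) (specMap_comp_ofHom β _)).trans (specMap_comp_ofHom _ _)).trans ?_
    exact congrArg (fun φ => Spec.map (CommRingCat.ofHom φ)) (RingHom.ext fun x => ψ.commutes x)
  let θ₁ : X ⟶ T₀ := pullback.lift g (f ≫ Sψ ≫ D.map j.hom) (by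
    rw [hg, Category.assoc, Category.assoc, hψ₀])
  let θ : X ⟶ (H7Lim.pbDiagram D i₀ aT).obj j := pullback.lift θ₁ (f ≫ Sψ)
    ((pullback.lift_snd _ _ _).trans (Category.assoc _ _ _).symm)
  have key : i ≫ θ = b ≫ tL ≫ κ.inv ≫ (H7Lim.pbCone D c i₀ aT).π.app j := by
    have h2 : (i ≫ θ) ≫ pullback.snd aT (D.map j.hom) =
        (b ≫ tL ≫ κ.inv ≫ (H7Lim.pbCone D c i₀ aT).π.app j) ≫ pullback.snd aT (D.map j.hom) := by
      simp only [H7Lim.pbCone_π_app, Category.assoc, θ, pullback.lift_snd, pullback.map]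
      rw [reassoc_of% hs, hP.isoPullback_inv_snd_assoc, pullback.lift_snd_assoc, Category.assoc,
        reassoc_of% hb2]
      refine congrArg (s ≫ ·) ?_
      refine (specMap_comp_ofHom _ _).trans (Eq.trans ?_ ((congrArg
        (Spec.map (CommRingCat.ofHom (Ideal.quotientMap I (algebraMap R A) hJ)) ≫ ·)
        (specMap_comp_ofHom _ _)).trans (specMap_comp_ofHom _ _)).symm)
      refine congrArg (fun φ => Spec.map (CommRingCat.ofHom φ)) (RingHom.ext fun x => ?_)
      show Ideal.Quotient.mk I (τ (g₁ x)) = ρ (q (x : L))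
      exact (AlgHom.congr_fun hτ (g₁ x)).trans (congrArg (fun z => ρ (q z)) (AlgHom.congr_fun hgh x))
    refine pullback.hom_ext (pullback.hom_ext ?_ ?_) h2
    · simp only [H7Lim.pbCone_π_app, Category.assoc, θ, θ₁, pullback.lift_fst, pullback.map,
        pullback.lift_fst_assoc, Category.comp_id]
      rw [hP.isoPullback_inv_fst, pullback.lift_fst, hb1]
    · show ((i ≫ θ) ≫ pullback.fst aT (D.map j.hom)) ≫ aT = (_ ≫ pullback.fst aT (D.map j.hom)) ≫ aT
      rw [Category.assoc, Category.assoc, pullback.condition, ← Category.assoc, ← Category.assoc, h2]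
      simp only [Category.assoc]
      exact congrArg (fun z => b ≫ tL ≫ κ.inv ≫ (H7Lim.pbCone D c i₀ aT).π.app j ≫ z) pullback.condition.symm
  refine ⟨(FEt.restrict θ).obj Wj, ⟨?_⟩⟩
  exact H18Et.FEtLimit.restrictCompIso i θ _ key Wj ≪≫
    (H18Et.FEtLimit.restrictCompIso b _ _ rfl Wj).symm ≪≫ (FEt.restrict b).mapIso
      ((H18Et.FEtLimit.restrictCompIso tL _ _ rfl Wj).symm ≪≫ (FEt.restrict tL).mapIso
        ((H18Et.FEtLimit.restrictCompIso κ.inv _ _ rfl Wj).symm ≪≫ (FEt.restrict κ.inv).mapIso ej ≪≫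
          restrictInvIso κ.inv_hom_id What) ≪≫ eT)

end Groth.Agent.H18PBC.Approx
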