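import Groth.Agent.H15Site.TopPushforward
import Mathlib.Topology.Sheaves.Skyscraper
import Mathlib.Topology.Sheaves.Functors

/-!
# Germs of sections of a sheaf of sets restricted to a subspace
-/

set_option autoImplicit false
set_option linter.style.haveILetI false
set_option backward.isDefEq.respectTransparency false

universe u

open CategoryTheory CategoryTheory.Limits Opposite TopologicalSpace

namespace Groth.Agent.H18PBC

variable {X Y : TopCat.{u}} (f : X ⟶ Y)

/-- The stalk functor on sheaves of sets. -/
noncomputable abbrev stk {S : TopCat.{u}} (x : S) : TopCat.Sheaf (Type u) S ⥤ Type u :=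
  TopCat.Sheaf.forget (Type u) S ⋙ TopCat.Presheaf.stalkFunctor (Type u) x

open Classical in
/-- Direct image of a skyscraper. -/
noncomputable def skyPushIso (z : X) :
    skyscraperSheafFunctor (C := Type u) z ⋙ TopCat.Sheaf.pushforward (Type u) f ≅
      skyscraperSheafFunctor (C := Type u) (f z) :=
  NatIso.ofComponents (fun A => (fullyFaithfulSheafToPresheaf _ _).preimageIso
    (NatIso.ofComponents (fun U => eqToIso (by
      show ite _ A (⊤_ _) = ite _ A (⊤_ _)
      exact if_congr Iff.rfl rfl rfl)) (fun {U V} i => by
      by_cases h : f z ∈ V.unop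
      · have h' : z ∈ (Opens.map f).obj V.unop := h
        simp [skyscraperSheafFunctor, skyscraperSheaf, skyscraperPresheaf, TopCat.Sheaf.pushforward, h, h']
      · exact ((if_neg h).symm.ndrec (terminalIsTerminal (C := Type u))).hom_ext _ _)))
    (fun {A B} g => by
      refine CategoryTheory.Sheaf.hom_ext (NatTrans.ext (funext fun U => ?_))
      by_cases h : f z ∈ U.unop
      · have h' : z ∈ (Opens.map f).obj U.unop := h
        refine (Category.comp_id _).trans (Eq.trans ?_ (Category.id_comp _).symm)
        show dite _ _ _ = dite _ _ _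
        rw [dif_pos h]
        exact dif_pos h'
      · exact ((if_neg h).symm.ndrec (terminalIsTerminal (C := Type u))).hom_ext _ _)

/-- The unit. -/
noncomputable abbrev unitMap (F : TopCat.Sheaf (Type u) Y) :
    F ⟶ (TopCat.Sheaf.pushforward (Type u) f).obj ((TopCat.Sheaf.pullback (Type u) f).obj F) :=
  (TopCat.Sheaf.pullbackPushforwardAdjunction (Type u) f).unit.app F

open Classical in
theorem isIso_stk_unit (hf : Topology.IsInducing f) (F : TopCat.Sheaf (Type u) Y) (z : X) :
    IsIso ((stk (f z)).map (unitMap f F)) := by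
  let adj := TopCat.Sheaf.pullbackPushforwardAdjunction (Type u) f
  let e : TopCat.Sheaf.pullback (Type u) f ⋙ stk z ≅ stk (f z) :=
    ((adj.comp (stalkSkyscraperSheafAdjunction z)).ofNatIsoRight (skyPushIso f z)).leftAdjointUniq
      (stalkSkyscraperSheafAdjunction (f z))
  haveI : (TopCat.Sheaf.pushforward (Type u) f).IsRightAdjoint := adj.isRightAdjoint
  haveI : IsIso (adj.counit.app ((TopCat.Sheaf.pullback (Type u) f).obj F)) :=
    Groth.Agent.H15Site.isIso_counit_of_isInducing f _ hf _ _
  have : IsIso ((TopCat.Sheaf.pullback (Type u) f).map (adj.unit.app F)) := by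
    have h := adj.left_triangle_components F
    have : IsIso ((TopCat.Sheaf.pullback (Type u) f).map (adj.unit.app F) ≫
        adj.counit.app ((TopCat.Sheaf.pullback (Type u) f).obj F)) := by
      rw [show (TopCat.Sheaf.pullback (Type u) f).map (adj.unit.app F) ≫
        adj.counit.app ((TopCat.Sheaf.pullback (Type u) f).obj F) = 𝟙 _ from h]
      exact IsIso.id _
    exact IsIso.of_isIso_comp_right _ (adj.counit.app ((TopCat.Sheaf.pullback (Type u) f).obj F))
  exact (NatIso.isIso_map_iff e (adj.unit.app F)).1
    (inferInstanceAs (IsIso ((stk z).map ((TopCat.Sheaf.pullback (Type u) f).map (adj.unit.app F)))))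

/-- The comparison of stalks. -/
noncomputable def cmap (F : TopCat.Sheaf (Type u) Y) (z : X) :
    TopCat.Presheaf.stalk F.obj (f z) ⟶
      TopCat.Presheaf.stalk ((TopCat.Sheaf.pullback (Type u) f).obj F).obj z :=
  (stk (f z)).map (unitMap f F) ≫
    TopCat.Presheaf.stalkPushforward _ f ((TopCat.Sheaf.pullback (Type u) f).obj F).obj z

theorem cmap_germ (F : TopCat.Sheaf (Type u) Y) (z : X) {U : Opens Y} (hz : f z ∈ U) (s : F.obj.obj (op U)) :
    cmap f F z (TopCat.Presheaf.germ F.obj U (f z) hz s) =
      TopCat.Presheaf.germ ((TopCat.Sheaf.pullback (Type u) f).obj F).obj ((Opens.map f).obj U) z hz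
        ((unitMap f F).hom.app (op U) s) := by
  refine (congrArg (TopCat.Presheaf.stalkPushforward _ f ((TopCat.Sheaf.pullback (Type u) f).obj F).obj z)
    (TopCat.Presheaf.stalkFunctor_map_germ_apply U (f z) hz (unitMap f F).hom s)).trans ?_
  exact ConcreteCategory.congr_hom
    (TopCat.Presheaf.stalkPushforward_germ (Type u) f ((TopCat.Sheaf.pullback (Type u) f).obj F).obj U z hz) _

theorem bijective_cmap (hf : Topology.IsInducing f) (F : TopCat.Sheaf (Type u) Y) (z : X) :
    Function.Bijective (cmap f F z) := by
  haveI := isIso_stk_unit f hf F z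
  haveI := TopCat.Presheaf.stalkPushforward.stalkPushforward_iso_of_isInducing (Type u) hf
    ((TopCat.Sheaf.pullback (Type u) f).obj F).obj z
  haveI : IsIso (cmap f F z) := IsIso.comp_isIso
  exact ConcreteCategory.bijective_of_isIso _

end Groth.Agent.H18PBC
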