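import Groth.Agent.H18PBC.AbCompare
import Groth.Agent.H18PBC.TopGerms
import Mathlib.Topology.Sheaves.LocalPredicate
import Mathlib.Topology.Sheaves.SheafCondition.UniqueGluing
import Mathlib.Topology.Connected.Clopen

/-!
# Connectedness from bijectivity of restriction of sections
-/

set_option autoImplicit false
set_option backward.isDefEq.respectTransparency false

universe u

open CategoryTheory CategoryTheory.Limits AlgebraicGeometry Opposite TopologicalSpace

namespace Groth.Agent.H18PBC

/-- If restriction of sections to `S` is bijective for all sheaves of sets on a connected space, then `S` is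
connected. -/
theorem isConnected_of_bijective_unit {X : TopCat.{u}} [ConnectedSpace X] (S : Set X)
    (h : ∀ F : TopCat.Sheaf (Type u) X, Function.Bijective
      (((TopCat.Sheaf.pullbackPushforwardAdjunction (Type u)
        (TopCat.ofHom ⟨(Subtype.val : S → X), continuous_subtype_val⟩)).unit.app F).hom.app (op ⊤))) :
    _root_.IsConnected S := by
  classical
  let B : TopCat.{u} := TopCat.of (ULift.{u} Bool)
  let F := TopCat.subsheafToTypes (TopCat.continuousLocal X B)
  let i : TopCat.of S ⟶ X := TopCat.ofHom ⟨(Subtype.val : S → X), continuous_subtype_val⟩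
  let G := (TopCat.Sheaf.pullback (Type u) i).obj F
  let c : Bool → F.obj.obj (op (⊤ : Opens X)) := fun b => ⟨fun _ => ⟨b⟩, continuous_const⟩
  let τ : Bool → G.obj.obj (op ((Opens.map i).obj ⊤)) := fun b => (unitMap i F).hom.app (op ⊤) (c b)
  have hτ : ∀ (z : S) (b : Bool) (s : F.obj.obj (op (⊤ : Opens X))),
      TopCat.Presheaf.germ G.obj ((Opens.map i).obj ⊤) z trivial (τ b) =
        TopCat.Presheaf.germ G.obj ((Opens.map i).obj ⊤) z trivial ((unitMap i F).hom.app (op ⊤) s) →
      s.1 ⟨z.1, trivial⟩ = ⟨b⟩ := fun z b s e => by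
    have e' : TopCat.Presheaf.germ F.obj ⊤ (i z) trivial (c b) = TopCat.Presheaf.germ F.obj ⊤ (i z) trivial s :=
      (bijective_cmap i Topology.IsInducing.subtypeVal F z).1
        ((cmap_germ i F z (U := ⊤) trivial (c b)).trans (e.trans (cmap_germ i F z (U := ⊤) trivial s).symm))
    obtain ⟨W, hzW, i₁, i₂, hW⟩ := TopCat.Presheaf.germ_eq F.obj (i z) (U := ⊤) (V := ⊤) trivial trivial _ _ e'
    exact (congrArg (fun q => q.1 ⟨i z, hzW⟩) hW).symm
  have hne : S.Nonempty := by
    by_contra hS
    obtain ⟨x⟩ := (inferInstance : Nonempty X)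
    haveI : IsEmpty S := ⟨fun z => hS ⟨z.1, z.2⟩⟩
    have e : c true = c false := (h F).1 (TopCat.Presheaf.section_ext G ((Opens.map i).obj ⊤) _ _
      fun z _ => isEmptyElim (α := S) z)
    exact Bool.noConfusion (congrArg ULift.down (congrArg (fun q => q.1 ⟨x, trivial⟩) e))
  refine ⟨hne, isPreconnected_iff_preconnectedSpace.2 (preconnectedSpace_iff_clopen.2 fun P hP => ?_)⟩
  by_contra hcon
  obtain ⟨hP1, hP2⟩ := not_or.1 hcon
  obtain ⟨z₁, hz₁⟩ := Set.nonempty_iff_ne_empty.2 hP1
  obtain ⟨z₂, hz₂⟩ := Set.nonempty_compl.2 hP2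
  let U : Bool → Opens (TopCat.of S) := fun b => bif b then ⟨P, hP.2⟩ else ⟨Pᶜ, hP.1.isOpen_compl⟩
  let sf : ∀ b, G.obj.obj (op (U b)) := fun b => G.obj.map (homOfLE (fun _ _ => trivial)).op (τ b)
  have hcomp : TopCat.Presheaf.IsCompatible G.obj U sf := fun a b => by
    refine TopCat.Presheaf.section_ext G _ _ _ fun y hy => ?_
    rcases a with _ | _ <;> rcases b with _ | _
    · rfl
    · exact absurd hy.2 hy.1
    · exact absurd hy.1 hy.2
    · rfl
  obtain ⟨σ, hσ, -⟩ := TopCat.Sheaf.existsUnique_gluing' G U ((Opens.map i).obj ⊤)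
    (fun b => homOfLE (show U b ≤ (Opens.map i).obj ⊤ from fun _ _ => trivial)) (fun z _ => by
      by_cases hz : z ∈ P
      · exact Opens.mem_iSup.2 ⟨true, hz⟩
      · exact Opens.mem_iSup.2 ⟨false, hz⟩) sf hcomp
  obtain ⟨s, hs⟩ := (h F).2 σ
  have hval : ∀ (b : Bool) (z : S), z ∈ U b → s.1 ⟨z.1, trivial⟩ = ⟨b⟩ := fun b z hz => by
    refine hτ z b s ?_
    refine (TopCat.Presheaf.germ_res_apply G.obj (homOfLE (show U b ≤ (Opens.map i).obj ⊤ from fun _ _ => trivial)) z hz (τ b)).symm.trans ?_
    refine (congrArg (TopCat.Presheaf.germ G.obj (U b) z hz) (hσ b).symm).trans ?_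
    refine (TopCat.Presheaf.germ_res_apply G.obj _ z hz σ).trans ?_
    exact congrArg (TopCat.Presheaf.germ G.obj ((Opens.map i).obj ⊤) z trivial) hs.symm
  have hcont : IsLocallyConstant fun x : X => (s.1 ⟨x, trivial⟩).down :=
    IsLocallyConstant.iff_continuous _ |>.2
      (continuous_uliftDown.comp (s.2.comp (Continuous.subtype_mk continuous_id fun _ => trivial)))
  have hk := hcont.apply_eq_of_preconnectedSpace z₁.1 z₂.1
  rw [hval true z₁ hz₁, hval false z₂ hz₂] at hk
  exact Bool.noConfusion hk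

theorem cp_of_bijective {Z X : Scheme.{u}} (i : Z ⟶ X)
    (h2 : ∀ (X' : Scheme.{u}) (π : X' ⟶ X) [IsFinite π] (F : TopCat.Sheaf (Type u) X'.carrier),
      Function.Bijective
      (((TopCat.Sheaf.pullbackPushforwardAdjunction (Type u)
        (TopCat.ofHom ⟨(Subtype.val : (Set.range (pullback.snd i π)) → X'), continuous_subtype_val⟩)).unit.app F).hom.app (op ⊤))) :
    CP i := fun Y π hπ hY => by
  haveI := hY
  have e := isConnected_of_bijective_unit (X := Y.carrier) (Set.range (pullback.snd i π)) fun F => h2 Y π F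
  have r : Set.range (pullback.snd i π) = π ⁻¹' Set.range i := Scheme.Pullback.range_snd i π
  exact r ▸ e

end Groth.Agent.H18PBC
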