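import Groth.Agent.H18PBC.PairEquiv
import Groth.Agent.H18PBC.Specialization
import Groth.Agent.H9Hens.ProperPairConverse
import Groth.Agent.H10ZMT.Stein
import Groth.Agent.H13Inf.Affine

/-!
# Finite étale covers over a henselian couple proper over a Noetherian ring
-/

set_option autoImplicit false
set_option linter.style.haveILetI false
set_option backward.isDefEq.respectTransparency false

universe u

open CategoryTheory CategoryTheory.Limits AlgebraicGeometry

namespace Groth.Agent.H18PBC.Couple

theorem isPullback_spec_quot {A B : Type u} [CommRing A] [CommRing B] (φ : A →+* B) (I : Ideal A) :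
    IsPullback (Spec.map (CommRingCat.ofHom (Ideal.Quotient.mk (I.map φ))))
      (Spec.map (CommRingCat.ofHom (Ideal.quotientMap (I.map φ) φ Ideal.le_comap_map)))
      (Spec.map (CommRingCat.ofHom φ)) (Spec.map (CommRingCat.ofHom (Ideal.Quotient.mk I))) :=
  (isPullback_SpecMap_of_isPushout _ _ _ _ (H13Inf.isPushout_quotient φ I)).flip

theorem isEquivalence {A : Type u} [CommRing A] [IsNoetherianRing A] (I : Ideal A) {X X' : Scheme.{u}}
    (f : X ⟶ Spec (CommRingCat.of A)) [IsProper f] (g : X' ⟶ X) [IsFinite g]
    (hX : ∀ (Y : Scheme.{u}) (g : Y ⟶ X), IsFinite g →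
      ∀ V : Set ↥(pullback g (pullback.fst f (Spec.map (CommRingCat.ofHom (Ideal.Quotient.mk I))))), IsClopen V →
        ∃! U : Set ↥Y, IsClopen U ∧ (pullback.fst g (pullback.fst f (Spec.map (CommRingCat.ofHom (Ideal.Quotient.mk I))))).base ⁻¹' U = V) :
    (FEt.restrict (pullback.fst g (pullback.fst f (Spec.map (CommRingCat.ofHom (Ideal.Quotient.mk I)))))).IsEquivalence := by
  let mI := Spec.map (CommRingCat.ofHom (Ideal.Quotient.mk I))
  let i₀ := pullback.fst f mI
  let i' := pullback.fst g i₀
  haveI : IsClosedImmersion mI := IsClosedImmersion.spec_of_surjective _ Ideal.Quotient.mk_surjective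
  -- the henselian couple condition for `X'`
  have hX' : ∀ (Y : Scheme.{u}) (g' : Y ⟶ X'), IsFinite g' → ∀ V : Set ↥(pullback g' i'), IsClopen V →
      ∃! U : Set ↥Y, IsClopen U ∧ (pullback.fst g' i').base ⁻¹' U = V := by
    intro Y g' hg' V hV
    haveI := hg'
    let e := pullbackLeftPullbackSndIso i₀ g g'
    let σ : pullback (g' ≫ g) i₀ ≅ pullback g' i' :=
      ((IsPullback.of_hasPullback g' i').paste_vert (IsPullback.of_hasPullback g i₀)).isoPullback.symm ≪≫ Iso.refl _
    have hσ : σ.hom ≫ pullback.fst g' i' = pullback.fst (g' ≫ g) i₀ := by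
      simp [σ]
    obtain ⟨U, hU, hu⟩ := hX Y (g' ≫ g) inferInstance (σ.hom.base ⁻¹' V) (hV.preimage σ.hom.continuous)
    have key : ∀ U : Set ↥Y, (pullback.fst (g' ≫ g) i₀).base ⁻¹' U = σ.hom.base ⁻¹' V ↔
        (pullback.fst g' i').base ⁻¹' U = V := fun U => by
      rw [← hσ, Scheme.Hom.comp_base, TopCat.coe_comp, Set.preimage_comp]
      exact σ.hom.surjective.preimage_injective.eq_iff
    exact ⟨U, ⟨hU.1, (key U).1 hU.2⟩, fun U' hU' => hu U' ⟨hU'.1, (key U').2 hU'.2⟩⟩
  obtain ⟨hfull, hfaith⟩ := PairFF.fullyFaithful_of_couple i' hX'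
  -- Stein factorisation
  let f' := g ≫ f
  haveI : IsLocallyNoetherian (Spec (CommRingCat.of A)) := inferInstance
  haveI : GeometricallyConnected f'.toNormalization := H10ZMT.geometricallyConnected_toNormalization f'
  haveI : IsFinite f'.fromNormalization := Groth.Agent.S1297.result f'
  haveI : IsAffine f'.normalization := isAffine_of_isAffineHom f'.fromNormalization
  let B : Type u := Γ(f'.normalization, ⊤)
  let φ : A →+* B := ((Scheme.ΓSpecIso _).inv ≫ f'.fromNormalization.appTop).hom
  have hφ : f'.normalization.isoSpec.hom ≫ Spec.map (CommRingCat.ofHom φ) = f'.fromNormalization := by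
    refine ext_of_isAffine ?_
    simp [φ, B, Scheme.isoSpec, Scheme.toSpecΓ_appTop]
  haveI hπ : IsProper f'.toNormalization := by
    haveI : IsProper (f'.toNormalization ≫ f'.fromNormalization) := by
      rw [f'.toNormalization_fromNormalization]; infer_instance
    exact IsProper.of_comp f'.toNormalization f'.fromNormalization
  let p : X' ⟶ Spec (CommRingCat.of B) := f'.toNormalization ≫ f'.normalization.isoSpec.hom
  haveI : IsProper p := inferInstanceAs (IsProper (_ ≫ _))
  haveI : GeometricallyConnected p :=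
    (MorphismProperty.cancel_right_of_respectsIso @GeometricallyConnected f'.toNormalization _).2 inferInstance
  haveI : Surjective p := H18PBC.Spec.surjective_of_connected p
  have hp : p ≫ Spec.map (CommRingCat.ofHom φ) = g ≫ f := by
    rw [Category.assoc, hφ, f'.toNormalization_fromNormalization]
  have houter : IsPullback i' (pullback.snd g i₀ ≫ pullback.snd f mI) (p ≫ Spec.map (CommRingCat.ofHom φ)) mI := by
    rw [hp]
    exact (IsPullback.of_hasPullback g i₀).paste_vert (IsPullback.of_hasPullback f mI)
  have hbot := isPullback_spec_quot φ I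
  let s : pullback g i₀ ⟶ Spec (CommRingCat.of (B ⧸ I.map φ)) :=
    hbot.lift (i' ≫ p) (pullback.snd g i₀ ≫ pullback.snd f mI) (by rw [Category.assoc]; exact houter.w)
  have hsq : IsPullback i' s p (Spec.map (CommRingCat.ofHom (Ideal.Quotient.mk (I.map φ)))) := by
    refine IsPullback.of_bot ?_ (hbot.lift_fst _ _ _).symm hbot
    rw [hbot.lift_snd]
    exact houter
  have hr : Set.range i' = p ⁻¹' PrimeSpectrum.zeroLocus ((I.map φ : Ideal B) : Set B) := by
    rw [← hsq.isoPullback_hom_fst, Scheme.Hom.comp_base, TopCat.coe_comp, Set.range_comp,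
      Set.range_eq_univ.2 hsq.isoPullback.hom.surjective, Set.image_univ]
    exact H9Hens.ProperPairApps.range_fst_quotient _ p
  haveI : HenselianRing B (I.map φ) := H9Hens.ProperPairConverse.henselianRing p i' hr hX'
  haveI := hfull
  haveI := hfaith
  haveI : (FEt.restrict i').EssSurj := ⟨fun V => PairEquiv.exists_cover (I.map φ) p i' s hsq V⟩
  exact { }

end Groth.Agent.H18PBC.Couple
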