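import Groth.Agent.H18PBC.LimRep

/-!
# Sections of an inverse image on a limit of étale objects come from a stage
-/

set_option autoImplicit false
set_option linter.style.haveILetI false
set_option linter.unusedSectionVars false
set_option backward.isDefEq.respectTransparency false
set_option backward.isDefEq.respectTransparency.types false

universe u

open CategoryTheory CategoryTheory.Limits AlgebraicGeometry Opposite TopologicalSpace
open scoped Groth.Agent.H18Et

namespace Groth.Agent.H18PBC.LimSec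

open H15Site.SetDescent H18Et H7Lim

variable {X : Scheme.{u}} {I : Type u} [SmallCategory I] {T : I ⥤ X.Etale} (c : Cone (sch T)) (g : c.pt ⟶ X)
  (hg : ∀ i, prj c i ≫ (T.obj i).hom = g) (G : EtDesc.Sh X) [IsCofiltered I] (hc : IsLimit c)
  [∀ ⦃a b : I⦄ (f : a ⟶ b), IsAffineHom ((sch T).map f)] [∀ a, CompactSpace ((sch T).obj a)]
  [∀ a, QuasiSeparatedSpace ((sch T).obj a)]

theorem exists_common {κ : Type*} [Finite κ] [Nonempty κ] (f : κ → I) :
    ∃ k, Nonempty (∀ p, k ⟶ f p) := by
  classical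
  haveI := Fintype.ofFinite κ
  obtain ⟨k, hk⟩ := IsCofiltered.inf_objs_exists (Finset.univ.image f)
  exact ⟨k, ⟨fun p => (hk (Finset.mem_image_of_mem f (Finset.mem_univ p))).some⟩⟩

theorem exists_common_over {κ : Type*} [Finite κ] {i : I} (f : κ → Over i) :
    ∃ (k : I) (a : k ⟶ i) (b : ∀ p, k ⟶ (f p).left), ∀ p, b p ≫ (f p).hom = a := by
  classical
  haveI := Fintype.ofFinite κ
  obtain ⟨k, hk⟩ := IsCofiltered.inf_objs_exists (insert (Over.mk (𝟙 i)) (Finset.univ.image f))
  let g : ∀ p, k ⟶ f p := fun p =>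
    (hk (Finset.mem_insert_of_mem (Finset.mem_image_of_mem f (Finset.mem_univ p)))).some
  exact ⟨k.left, k.hom, fun p => (g p).left, fun p => Over.w (g p)⟩

include hc in
theorem phi_surj (σ : ((EtDesc.pullSh g).obj G).obj.obj (op ((EtCoh.bc g).obj (EtCoh.top X)))) :
    ∃ (i : I) (s : G.obj.obj (op (T.obj i))), phi c g hg G i s = σ := by
  classical
  haveI : ∀ (p r : I) (f : p ⟶ r), IsAffineHom ((sch T).map f) := fun p r f => inferInstance
  haveI hTc : ∀ i, CompactSpace (T.obj i).left := fun i => inferInstanceAs (CompactSpace ((sch T).obj i))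
  haveI hTq : ∀ i, QuasiSeparatedSpace (T.obj i).left := fun i =>
    inferInstanceAs (QuasiSeparatedSpace ((sch T).obj i))
  obtain ⟨i₀⟩ := (IsCofiltered.nonempty : Nonempty I)
  haveI : CompactSpace c.pt := Scheme.compactSpace_of_isLimit (sch T) c hc
  choose ii U hU u r _ hrep hq using exists_rep_at c g hg G σ hc
  haveI : ∀ l, IsAffine (U l).left := hU
  haveI : ∀ l, Etale (u l).left := fun l => etale_left (u l)
  obtain ⟨t, ht⟩ := (isCompact_univ (X := c.pt)).elim_finite_subcover
    (fun l => Set.range (pullback.snd (u l).left (prj c (ii l))))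
    (fun l => (pullback.snd (u l).left (prj c (ii l))).isOpenMap.isOpen_range)
    (fun l _ => Set.mem_iUnion.2 ⟨l, (hq l).choose, (hq l).choose_spec⟩)
  obtain ⟨k, hk⟩ := IsCofiltered.inf_objs_exists (insert i₀ (t.image ii))
  let a : ∀ p : t, k ⟶ ii p.1 := fun p =>
    (hk (Finset.mem_insert_of_mem (Finset.mem_image_of_mem ii p.2))).some
  -- the covered locus of the stage `k`
  let u₁ : ∀ p : t, st (u p.1) (a p) ⟶ T.obj k := fun p => ps (u p.1) (a p)
  haveI : ∀ p : t, Etale (u₁ p).left := fun p => etale_left (u₁ p)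
  let O : Set (T.obj k).left := ⋃ p : t, Set.range (u₁ p).left
  have hO : IsOpen O := isOpen_iUnion fun p => (u₁ p).left.isOpenMap.isOpen_range
  have hOall : ∀ q : (pullback (𝟙 (T.obj k) : _ ⟶ _).left (prj c k) : Scheme.{u}),
      pullback.fst (𝟙 (T.obj k) : _ ⟶ _).left (prj c k) q ∈ O := fun q => by
    let l := pullback.snd (𝟙 (T.obj k) : _ ⟶ _).left (prj c k) q
    obtain ⟨p, hp, z, hz⟩ := Set.mem_iUnion₂.1 (ht (Set.mem_univ l))
    have e1 : pullback.fst (𝟙 (T.obj k) : _ ⟶ _).left (prj c k) q = prj c k l :=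
      congrArg (fun f : (pullback (𝟙 (T.obj k) : _ ⟶ _).left (prj c k) : Scheme.{u}) ⟶ (T.obj k).left => f q)
        ((Category.comp_id _).symm.trans pullback.condition)
    have e2 : (u p).left (pullback.fst (u p).left (prj c (ii p)) z) = (T.map (a ⟨p, hp⟩)).left (prj c k l) := by
      refine (congrArg (fun f : (pullback (u p).left (prj c (ii p)) : Scheme.{u}) ⟶ (T.obj (ii p)).left => f z)
        pullback.condition).trans ?_
      refine (congrArg (prj c (ii p)) hz).trans ?_
      exact (congrArg (fun f : c.pt ⟶ (T.obj (ii p)).left => f l) (prj_w c (a ⟨p, hp⟩))).symm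
    obtain ⟨y, -, hy⟩ := Scheme.Pullback.exists_preimage_pullback (f := (u p).left) (g := (T.map (a ⟨p, hp⟩)).left)
      _ _ e2
    exact Set.mem_iUnion.2 ⟨⟨p, hp⟩, y, hy.trans e1.symm⟩
  obtain ⟨k₁, a₁, ha₁⟩ := exists_stage_top c hc (𝟙 (T.obj k)) O hO hOall
  -- representatives at the covering stage
  let b : ∀ p : t, k₁ ⟶ ii p.1 := fun p => a₁ ≫ a p
  let V : t → X.Etale := fun p => st (u p.1) (b p)
  let v : ∀ p : t, V p ⟶ T.obj k₁ := fun p => ps (u p.1) (b p)
  let rV : ∀ p : t, G.obj.obj (op (V p)) := fun p => G.obj.map (pf (u p.1) (b p)).op (r p.1)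
  have hrV : ∀ p : t, Rep c g hg G σ (v p) (rV p) := fun p =>
    Rep.map c g hg G σ (b p) (pf (u p.1) (b p)) (pf_comp _ _) (hrep p.1)
  have hVc : ∀ p : t, CompactSpace (V p).left := fun p => by
    haveI : IsAffineHom ((sch T).map (b p)) := inferInstance
    haveI : IsAffineHom (T.map (b p)).left := inferInstanceAs (IsAffineHom ((sch T).map (b p)))
    exact QuasiCompact.compactSpace_of_compactSpace (pullback.fst (u p.1).left (T.map (b p)).left)
  have hcov : ∀ x : (T.obj k₁).left, ∃ (p : t) (y : (V p).left), (v p).left y = x := fun x => by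
    let m : T.obj k₁ ⟶ st (𝟙 (T.obj k)) a₁ := stLift (𝟙 _) a₁ (T.map a₁) (𝟙 _)
      ((Category.comp_id _).trans (Category.id_comp _).symm)
    have hx : (T.map a₁).left x ∈ O := by
      have h := ha₁ (m.left x)
      exact Eq.mp (congrArg (fun z => z ∈ O)
        (congrArg (fun f : T.obj k₁ ⟶ T.obj k => f.left x) (stLift_pf (𝟙 (T.obj k)) a₁ (T.map a₁) (𝟙 _)
          ((Category.comp_id _).trans (Category.id_comp _).symm)))) h
    obtain ⟨p, z, hz⟩ := Set.mem_iUnion.1 hx
    have e : (u p.1).left ((pf (u p.1) (a p)).left z) = (T.map (b p)).left x := by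
      refine (congrArg (fun f : st (u p.1) (a p) ⟶ T.obj (ii p.1) => f.left z) (pf_comp (u p.1) (a p))).trans ?_
      refine (congrArg (T.map (a p)).left hz).trans ?_
      exact (congrArg (fun f : T.obj k₁ ⟶ T.obj (ii p.1) => f.left x) (T.map_comp a₁ (a p))).symm
    obtain ⟨y, -, hy⟩ := Scheme.Pullback.exists_preimage_pullback (f := (u p.1).left) (g := (T.map (b p)).left)
      _ _ e
    exact ⟨p, y, hy⟩
  -- agreement on overlaps at a later stage
  have hov : ∀ d : t × t, ∃ (l : I) (β : l ⟶ k₁), ∀ (Q : X.Etale) (f₁ : Q ⟶ V d.1) (f₂ : Q ⟶ V d.2)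
      (h : Q ⟶ T.obj l), f₁ ≫ v d.1 = h ≫ T.map β → f₂ ≫ v d.2 = h ≫ T.map β →
      G.obj.map f₁.op (rV d.1) = G.obj.map f₂.op (rV d.2) := fun d => by
    haveI : Etale (v d.1).left := etale_left (v d.1)
    haveI : Etale (v d.2).left := etale_left (v d.2)
    haveI : Etale (V d.1).hom := (V d.1).prop
    haveI := hVc d.1
    haveI := hVc d.2
    haveI : QuasiCompact (v d.2).left := quasiCompact_of_compactSpace _
    let P : X.Etale := Scheme.Etale.mk (pullback.fst (v d.1).left (v d.2).left ≫ (V d.1).hom)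
    let p₁ : P ⟶ V d.1 := MorphismProperty.Over.homMk (pullback.fst (v d.1).left (v d.2).left) rfl trivial
    let p₂ : P ⟶ V d.2 := MorphismProperty.Over.homMk (pullback.snd (v d.1).left (v d.2).left)
      ((congrArg (pullback.snd _ _ ≫ ·) (Over.w (v d.2).hom).symm).trans
        ((pullback.condition_assoc (T.obj k₁).hom).symm.trans
          (congrArg (pullback.fst _ _ ≫ ·) (Over.w (v d.1).hom)))) trivial
    have hp : p₁ ≫ v d.1 = p₂ ≫ v d.2 := MorphismProperty.Over.Hom.ext pullback.condition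
    haveI : CompactSpace P.left :=
      QuasiCompact.compactSpace_of_compactSpace (pullback.fst (v d.1).left (v d.2).left)
    obtain ⟨l, β, hl⟩ := eq_stage c hc G (p₁ ≫ v d.1) (G.obj.map p₁.op (rV d.1)) (G.obj.map p₂.op (rV d.2))
      (Rep.fst_mem_agree c g hg G σ
        (Rep.map c g hg G σ (𝟙 k₁) p₁ (by rw [T.map_id, Category.comp_id]) (hrV d.1))
        (Rep.map c g hg G σ (𝟙 k₁) p₂ (by rw [T.map_id, Category.comp_id, hp]) (hrV d.2)))
    refine ⟨l, β, fun Q f₁ f₂ h h₁ h₂ => ?_⟩
    let m : Q ⟶ P := MorphismProperty.Over.homMk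
      (pullback.lift f₁.left f₂.left (congrArg (fun z => z.left) (h₁.trans h₂.symm)))
      ((Category.assoc _ _ _).symm.trans ((congrArg (· ≫ (V d.1).hom) (pullback.lift_fst _ _ _)).trans
        (Over.w f₁.hom))) trivial
    have m₁ : m ≫ p₁ = f₁ := MorphismProperty.Over.Hom.ext (pullback.lift_fst _ _ _)
    have m₂ : m ≫ p₂ = f₂ := MorphismProperty.Over.Hom.ext (pullback.lift_snd _ _ _)
    rw [← m₁, ← m₂, op_comp, op_comp, Functor.map_comp_apply, Functor.map_comp_apply]
    exact eq_later G (p₁ ≫ v d.1) β (𝟙 l) _ _ hl m h (by rw [Category.id_comp, ← Category.assoc, m₁, h₁])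
  choose l β hβ using hov
  obtain ⟨k₂, e, eb, heb⟩ := exists_common_over (fun d : t × t => Over.mk (β d))
  -- glue at the final stage
  let W : t → X.Etale := fun p => st (v p) e
  let w : ∀ p : t, W p ⟶ T.obj k₂ := fun p => ps (v p) e
  let sf : ∀ p : t, G.obj.obj (op (W p)) := fun p => G.obj.map (pf (v p) e).op (rV p)
  have hcovW : Sieve.ofArrows W w ∈ X.smallEtaleTopology (T.obj k₂) := by
    refine mem_topology_of_forall_point _ fun x => ?_
    obtain ⟨p, y, hy⟩ := hcov ((T.map e).left x)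
    obtain ⟨z, -, hz⟩ := Scheme.Pullback.exists_preimage_pullback (f := (v p).left) (g := (T.map e).left) y x hy
    exact ⟨W p, w p, z, Sieve.ofArrows_mk _ _ _, hz⟩
  have hsheaf : Presieve.IsSheafFor G.obj (Presieve.ofArrows W w) :=
    (Presieve.isSheafFor_iff_generate _).2 ((isSheaf_iff_isSheaf_of_type _ _).1 G.property _ hcovW)
  obtain ⟨s, hs, -⟩ := (Presieve.isSheafFor_arrows_iff _ _).1 hsheaf sf fun p p' Q f₁ f₂ hf => by
    show G.obj.map f₁.op (G.obj.map (pf (v p) e).op (rV p)) = G.obj.map f₂.op (G.obj.map (pf (v p') e).op (rV p'))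
    refine (Functor.map_comp_apply G.obj (pf (v p) e).op f₁.op (rV p)).symm.trans (Eq.trans ?_
      (Functor.map_comp_apply G.obj (pf (v p') e).op f₂.op (rV p')))
    have hE : ∀ d : t × t, T.map e = T.map (eb d) ≫ T.map (β d) := fun d => by
      rw [← T.map_comp]; exact congrArg T.map (heb d).symm
    refine hβ (p, p') Q (f₁ ≫ pf (v p) e) (f₂ ≫ pf (v p') e) ((f₁ ≫ w p) ≫ T.map (eb (p, p'))) ?_ ?_
    · rw [Category.assoc, pf_comp, hE (p, p')]
      simp only [w, Category.assoc]
    · rw [Category.assoc, pf_comp, hE (p, p'), hf]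
      simp only [w, Category.assoc]
  refine ⟨k₂, s, agree_phi_of_rep c g hg G σ fun q => ?_⟩
  let x := pullback.fst (𝟙 (T.obj k₂) : _ ⟶ _).left (prj c k₂) q
  obtain ⟨p, y, hy⟩ := hcov ((T.map e).left x)
  obtain ⟨z, -, hz⟩ := Scheme.Pullback.exists_preimage_pullback (f := (v p).left) (g := (T.map e).left) y x hy
  let L := pullback.snd (𝟙 (T.obj k₂) : _ ⟶ _).left (prj c k₂) q
  obtain ⟨q', hq'₁, hq'₂⟩ := Scheme.Pullback.exists_preimage_pullback (f := (w p).left) (g := prj c k₂) z L
    (hz.trans (congrArg (fun f : (pullback (𝟙 (T.obj k₂) : _ ⟶ _).left (prj c k₂) : Scheme.{u}) ⟶ (T.obj k₂).left =>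
      f q) ((Category.comp_id _).symm.trans pullback.condition)))
  have hwid : w p ≫ 𝟙 (T.obj k₂) = w p ≫ T.map (𝟙 k₂) := by rw [T.map_id]
  refine (agree_emb_map c g hg G σ (𝟙 k₂) (𝟙 _) (w p) (w p) hwid s q' q ?_).1 ?_
  · let M := pullback.map (w p).left (prj c k₂) (𝟙 (T.obj k₂) : _ ⟶ _).left (prj c k₂) (w p).left (𝟙 _)
      (T.map (𝟙 k₂)).left ((congrArg (fun z => z.left) hwid).symm)
      ((prj_w c (𝟙 k₂)).trans (Category.id_comp _).symm)
    haveI : IsIso (pullback.snd (𝟙 (T.obj k₂) : _ ⟶ _).left (prj c k₂)) :=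
      inferInstanceAs (IsIso (pullback.snd (𝟙 (T.obj k₂).left) (prj c k₂)))
    refine (pullback.snd (𝟙 (T.obj k₂) : _ ⟶ _).left (prj c k₂)).homeomorph.injective ?_
    exact (congrArg (fun f : (pullback (w p).left (prj c k₂) : Scheme.{u}) ⟶ c.pt => f q')
      ((pullback.lift_snd _ _ _).trans (Category.comp_id _))).trans hq'₂
  · rw [show G.obj.map (w p).op s = sf p from hs p]
    exact (Rep.map c g hg G σ e (pf (v p) e) (pf_comp _ _) (hrV p)) q'

include hc in
/-- **Sections on the limit are the colimit of the sections on the members.** -/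
theorem phi_bijective :
    (∀ σ, ∃ (i : I) (s : G.obj.obj (op (T.obj i))), phi c g hg G i s = σ) ∧
    (∀ (i : I) (s t : G.obj.obj (op (T.obj i))), phi c g hg G i s = phi c g hg G i t →
      ∃ (k : I) (a : k ⟶ i), G.obj.map (T.map a).op s = G.obj.map (T.map a).op t) :=
  ⟨phi_surj c g hg G hc, phi_inj c g hg G hc⟩

end Groth.Agent.H18PBC.LimSec
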