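import Groth.Agent.H18PBC.GabberBasic
import Groth.Agent.H9Hens.ProperPairApps

/-!
# The connectedness condition for proper schemes over henselian pairs
-/

set_option autoImplicit false
set_option backward.isDefEq.respectTransparency false

universe u

open CategoryTheory CategoryTheory.Limits AlgebraicGeometry

namespace Groth.Agent.H18PBC

theorem cp_of_range {A : Type u} [CommRing A] (I : Ideal A) [HenselianRing A I] {Z X : Scheme.{u}}
    (f : X ⟶ Spec (CommRingCat.of A)) [IsProper f] (i : Z ⟶ X)
    (hr : Set.range i = f ⁻¹' PrimeSpectrum.zeroLocus (I : Set A)) : CP i := fun Y π hπ hY => by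
  haveI := hπ
  have h : ConnectedSpace ↥((π ≫ f) ⁻¹' PrimeSpectrum.zeroLocus (I : Set A)) :=
    (H9Hens.ProperPairApps.connectedSpace_iff continuous_subtype_val
      (H9Hens.ProperPair.uniqueLift_proper I (π ≫ f))).1 hY
  rw [hr]
  exact isConnected_iff_connectedSpace.2 h

theorem cp_fst {A : Type u} [CommRing A] (I : Ideal A) [HenselianRing A I] {X : Scheme.{u}}
    (f : X ⟶ Spec (CommRingCat.of A)) [IsProper f] :
    CP (pullback.fst f (Spec.map (CommRingCat.ofHom (Ideal.Quotient.mk I)))) :=
  cp_of_range I f _ (H9Hens.ProperPairApps.range_fst_quotient I f)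

theorem cp_spec {A : Type u} [CommRing A] (I : Ideal A) [HenselianRing A I] :
    CP (Spec.map (CommRingCat.ofHom (Ideal.Quotient.mk I))) := by
  refine cp_of_range I (𝟙 _) _ ?_
  exact (range_comap_of_surjective _ _ Ideal.Quotient.mk_surjective).trans (by rw [Ideal.mk_ker]; rfl)

end Groth.Agent.H18PBC
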