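import Groth.Agent.H18PBC.Transfer
import Groth.Agent.H18PBC.FieldExt
import Groth.Agent.H18PBC.LimSections
import Groth.Agent.H18PBC.NbhdCat
import Groth.Agent.H18PBC.ProperPairCP

/-!
# Base change of affine neighbourhoods to a proper scheme; sections on the geometric fibre
-/

set_option autoImplicit false
set_option linter.style.haveILetI false
set_option linter.unusedSectionVars false
set_option backward.isDefEq.respectTransparency false
set_option backward.isDefEq.respectTransparency.types false

universe u

open CategoryTheory CategoryTheory.Limits AlgebraicGeometry Opposite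
open scoped Groth.Agent.H18Et

namespace Groth.Agent.H18PBC.Fibre

open H15Site.SetDescent H18Et LimSec

variable {X Y : Scheme.{u}} {Ω : Type u} [Field Ω] [IsSepClosed Ω] (f : X ⟶ Y)
  (ξ : Spec (CommRingCat.of Ω) ⟶ Y)

/-- The base changed affine neighbourhoods. -/
noncomputable abbrev TX : Nbhd.NI ξ ⥤ X.Etale := Nbhd.nb ξ ⋙ EtCoh.bc f

/-- `X` over the strictly henselian local scheme. -/
noncomputable abbrev XA : Scheme.{u} := pullback (Nbhd.toBase ξ) f

/-- The projections from `X` over the strictly henselian local scheme to the stages. -/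
noncomputable def piX (i : Nbhd.NI ξ) : XA f ξ ⟶ ((TX f ξ).obj i).left :=
  pullback.map (Nbhd.toBase ξ) f ((Nbhd.nb ξ).obj i).hom f ((Nbhd.cone ξ).π.app i) (𝟙 _) (𝟙 _)
    ((Category.comp_id _).trans (Nbhd.toBase_eq ξ i).symm) ((Category.comp_id _).trans (Category.id_comp _).symm)

/-- The cone of the base changed neighbourhoods. -/
noncomputable def coneX : Cone (sch (TX f ξ)) where
  pt := XA f ξ
  π :=
  { app := piX f ξ
    naturality := fun k i a => by
      refine (Category.id_comp _).trans ?_
      refine pullback.hom_ext ?_ ?_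
      · refine (pullback.lift_fst _ _ _).trans ?_
        refine Eq.trans ?_ (((Category.assoc _ _ _).trans ((congrArg (piX f ξ k ≫ ·) (bc_map_fst f ((Nbhd.nb ξ).map a))).trans
          ((Category.assoc _ _ _).symm.trans (congrArg (· ≫ ((Nbhd.nb ξ).map a).left) (pullback.lift_fst _ _ _)))))).symm
        exact (congrArg (pullback.fst _ _ ≫ ·) ((Nbhd.cone ξ).w a).symm).trans (Category.assoc _ _ _).symm
      · refine (pullback.lift_snd _ _ _).trans ?_
        refine Eq.trans ?_ ((Category.assoc _ _ _).trans ((congrArg (piX f ξ k ≫ ·)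
          (Over.w ((EtCoh.bc f).map ((Nbhd.nb ξ).map a)).hom)).trans (pullback.lift_snd _ _ _))).symm
        rfl }

theorem coneX_hom (i : Nbhd.NI ξ) : prj (coneX f ξ) i ≫ ((TX f ξ).obj i).hom = pullback.snd (Nbhd.toBase ξ) f :=
  (pullback.lift_snd _ _ _).trans (Category.comp_id _)

/-- `X` over the strictly henselian local scheme is the limit of the base changed neighbourhoods. -/
noncomputable def isLimitConeX : IsLimit (coneX f ξ) := by
  let i₀ : Nbhd.NI ξ := (IsCofiltered.nonempty (C := Nbhd.NI ξ)).some
  let sY : ∀ s : Cone (sch (TX f ξ)), Cone (sch (Nbhd.nb ξ)) := fun s =>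
    { pt := s.pt
      π :=
      { app := fun i => s.π.app i ≫ pullback.fst ((Nbhd.nb ξ).obj i).hom f
        naturality := fun k i a => by
          refine (Category.id_comp _).trans ?_
          refine (congrArg (· ≫ pullback.fst ((Nbhd.nb ξ).obj i).hom f) (s.w a).symm).trans ?_
          refine (Category.assoc _ _ _).trans ((congrArg (s.π.app k ≫ ·) (bc_map_fst f ((Nbhd.nb ξ).map a))).trans ?_)
          exact (Category.assoc _ _ _).symm } }
  have hsnd : ∀ (s : Cone (sch (TX f ξ))) (i : Nbhd.NI ξ),
      s.π.app i ≫ pullback.snd ((Nbhd.nb ξ).obj i).hom f = s.π.app i₀ ≫ pullback.snd ((Nbhd.nb ξ).obj i₀).hom f := by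
    intro s i
    obtain ⟨k, a, b, -⟩ := IsCofilteredOrEmpty.cone_objs i i₀
    rw [← s.w a, ← s.w b]
    exact (Category.assoc _ _ _).trans ((congrArg (s.π.app k ≫ ·) ((Over.w ((EtCoh.bc f).map ((Nbhd.nb ξ).map a)).hom).trans
      (Over.w ((EtCoh.bc f).map ((Nbhd.nb ξ).map b)).hom).symm)).trans (Category.assoc _ _ _).symm)
  have hw : ∀ s : Cone (sch (TX f ξ)), (Nbhd.isLimitCone ξ).lift (sY s) ≫ Nbhd.toBase ξ =
      (s.π.app i₀ ≫ pullback.snd ((Nbhd.nb ξ).obj i₀).hom f) ≫ f := fun s => by
    rw [← Nbhd.toBase_eq ξ i₀, ← Category.assoc, (Nbhd.isLimitCone ξ).fac (sY s) i₀]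
    exact (Category.assoc _ _ _).trans ((congrArg (s.π.app i₀ ≫ ·) pullback.condition).trans
      (Category.assoc _ _ _).symm)
  refine
    { lift := fun s => pullback.lift ((Nbhd.isLimitCone ξ).lift (sY s))
        (s.π.app i₀ ≫ pullback.snd ((Nbhd.nb ξ).obj i₀).hom f) (hw s)
      fac := fun s i => ?_
      uniq := fun s m hm => ?_ }
  · refine pullback.hom_ext ?_ ?_
    · refine (Category.assoc _ _ _).trans ((congrArg (_ ≫ ·) (pullback.lift_fst _ _ _)).trans ?_)
      exact (Category.assoc _ _ _).symm.trans ((congrArg (· ≫ (Nbhd.cone ξ).π.app i) (pullback.lift_fst _ _ _)).trans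
        ((Nbhd.isLimitCone ξ).fac (sY s) i))
    · refine (Category.assoc _ _ _).trans ((congrArg (_ ≫ ·) (coneX_hom f ξ i)).trans ?_)
      exact (pullback.lift_snd _ _ _).trans (hsnd s i).symm
  · refine pullback.hom_ext ?_ ?_
    · refine ((Nbhd.isLimitCone ξ).uniq (sY s) _ fun i => ?_).trans (pullback.lift_fst _ _ _).symm
      show (m ≫ pullback.fst (Nbhd.toBase ξ) f) ≫ (Nbhd.cone ξ).π.app i = s.π.app i ≫ pullback.fst _ f
      rw [← hm i]
      exact (Category.assoc _ _ _).trans ((congrArg (m ≫ ·) (pullback.lift_fst _ _ _).symm).trans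
        (Category.assoc _ _ _).symm)
    · refine Eq.trans ?_ (pullback.lift_snd _ _ _).symm
      rw [← hm i₀]
      exact ((congrArg (m ≫ ·) (coneX_hom f ξ i₀)).symm.trans (Category.assoc _ _ _).symm)

theorem isPullback_fibre :
    IsPullback (pullback.lift (pullback.snd f ξ ≫ Spec.map (Groth.Agent.H18Et.valueHom ξ)) (pullback.fst f ξ)
      (by rw [Category.assoc, Nbhd.valueHom_toBase, pullback.condition]))
      (pullback.snd f ξ) (pullback.fst (Nbhd.toBase ξ) f) (Spec.map (Groth.Agent.H18Et.valueHom ξ)) := by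
  refine IsPullback.of_right ?_ (pullback.lift_fst _ _ _) (IsPullback.of_hasPullback (Nbhd.toBase ξ) f).flip
  rw [pullback.lift_snd, Nbhd.valueHom_toBase]
  exact IsPullback.of_hasPullback f ξ

variable [IsProper f]

/-- Sections over `X` over the strictly henselian local scheme restrict bijectively to the geometric fibre. -/
theorem bijective_pullSect_fibre (G : EtDesc.Sh (XA f ξ)) :
    Function.Bijective (pullSect (pullback.lift (pullback.snd f ξ ≫ Spec.map (Groth.Agent.H18Et.valueHom ξ))
      (pullback.fst f ξ) (by rw [Category.assoc, Nbhd.valueHom_toBase, pullback.condition]) :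
        pullback f ξ ⟶ XA f ξ) G (U := EtCoh.top (XA f ξ))) := by
  haveI := isLocalRing_etaleLocalRing ξ
  obtain ⟨hA, hk⟩ := isStrictlyHenselian_etaleLocalRing ξ
  let A := EtBase.etaleLocalRing ξ
  let I := IsLocalRing.maximalIdeal A
  haveI : HenselianRing A I := inferInstance
  haveI : IsLocalHom (Groth.Agent.H18Et.valueHom ξ).hom :=
    ⟨fun r hr => isUnit_of_valueHom_ne_zero ξ r hr.ne_zero⟩
  let k := IsLocalRing.ResidueField A
  haveI : IsSepClosed k := hk
  let r : k →+* Ω := IsLocalRing.ResidueField.lift (Groth.Agent.H18Et.valueHom ξ).hom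
  let p := pullback.fst (Nbhd.toBase ξ) f
  haveI : CompactSpace (XA f ξ) := QuasiCompact.compactSpace_of_compactSpace p
  haveI : QuasiSeparatedSpace (XA f ξ) := quasiSeparatedSpace_of_quasiSeparated p
  let q : Spec (CommRingCat.of k) ⟶ Spec A := Spec.map (CommRingCat.ofHom (Ideal.Quotient.mk I))
  haveI : IsClosedImmersion q := IsClosedImmersion.spec_of_surjective _ Ideal.Quotient.mk_surjective
  let i := pullback.fst p q
  have hi : Function.Bijective (pullSect i G (U := EtCoh.top (XA f ξ))) := bijective_pullSect (cp_fst I p) G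
  let s : Spec (CommRingCat.of Ω) ⟶ Spec (CommRingCat.of k) := Spec.map (CommRingCat.ofHom r)
  have hs : s ≫ q = Spec.map (Groth.Agent.H18Et.valueHom ξ) := by
    rw [← Spec.map_comp]
    rfl
  let t : pullback f ξ ⟶ XA f ξ := pullback.lift (pullback.snd f ξ ≫ Spec.map (Groth.Agent.H18Et.valueHom ξ))
      (pullback.fst f ξ) (by rw [Category.assoc, Nbhd.valueHom_toBase, pullback.condition])
  have ht : IsPullback t (pullback.snd f ξ) p (s ≫ q) := hs.symm ▸ isPullback_fibre f ξ
  let l : pullback f ξ ⟶ pullback p q := pullback.lift t (pullback.snd f ξ ≫ s)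
    (ht.w.trans (Category.assoc _ _ _).symm)
  have hl : IsPullback l (pullback.snd f ξ) (pullback.snd p q) s :=
    IsPullback.of_right (by rw [pullback.lift_fst]; exact ht) (pullback.lift_snd _ _ _)
      (IsPullback.of_hasPullback p q)
  haveI := geometricallyConnected_fieldExt r
  haveI := flat_fieldExt r
  haveI := surjective_fieldExt r
  haveI : GeometricallyConnected l := MorphismProperty.of_isPullback (P := @GeometricallyConnected) hl.flip
    (inferInstance : GeometricallyConnected s)
  haveI : Flat l := MorphismProperty.of_isPullback (P := @Flat) hl.flip (inferInstance : Flat s)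
  haveI : Surjective l := MorphismProperty.of_isPullback (P := @Surjective) hl.flip (inferInstance : Surjective s)
  haveI : QuasiCompact l := MorphismProperty.of_isPullback (P := @QuasiCompact) hl.flip (inferInstance : QuasiCompact s)
  exact bijective_pullSect_comp l i t (pullback.lift_fst _ _ _) G hi
    (bijective_pullSect_geomConn l _ (isUnivSubmersive_of_flat l))

end Groth.Agent.H18PBC.Fibre
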