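import Groth.Agent.H02CA.EtaleCover
import Groth.Agent.H7Lim.QuasiFiniteFactor
import Groth.Prelude.Def_EtBase
import Mathlib.AlgebraicGeometry.Morphisms.Etale

/-!
# Étale coverings are refined by a finite surjection followed by an open covering
-/

set_option autoImplicit false
set_option backward.isDefEq.respectTransparency false

universe u

open CategoryTheory CategoryTheory.Limits AlgebraicGeometry TopologicalSpace

namespace Groth.Agent.H18PBC

variable {X : Scheme.{u}}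

/-- An affine étale surjection is refined, Zariski locally, by a finite surjection from an affine scheme. -/
theorem exists_finite_affine {U : Scheme.{u}} [IsAffine U] {W : Scheme.{u}} [IsAffine W] (f : W ⟶ U) [Etale f]
    [Surjective f] :
    ∃ (P : Scheme.{u}) (_ : IsAffine P) (p : P ⟶ U), IsFinite p ∧ Surjective p ∧
      ∀ y : P, ∃ (O : P.Opens) (h : (O : Scheme.{u}) ⟶ W), y ∈ O ∧ h ≫ f = O.ι ≫ p := by
  let φ := f.appTop
  letI : Algebra Γ(U, ⊤) Γ(W, ⊤) := φ.hom.toAlgebra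
  have hsq : W.isoSpec.hom ≫ Spec.map φ = f ≫ U.isoSpec.hom := Scheme.isoSpec_hom_naturality f
  have hmap : Spec.map φ = W.isoSpec.inv ≫ f ≫ U.isoSpec.hom := by rw [← hsq, Iso.inv_hom_id_assoc]
  haveI : Etale (Spec.map φ) := by rw [hmap]; infer_instance
  haveI : Algebra.Etale Γ(U, ⊤) Γ(W, ⊤) := HasRingHomProperty.Spec_iff.1 ‹Etale (Spec.map φ)›
  haveI : Surjective (Spec.map φ) := by rw [hmap]; infer_instance
  obtain ⟨S', _, _, hfin, -, hff, hdom⟩ := H02CA.EtaleCover.exists_dominating (R := Γ(U, ⊤)) Γ(W, ⊤)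
    (show Function.Surjective (Spec.map φ) from Scheme.Hom.surjective _)
  let a : CommRingCat.of Γ(U, ⊤) ⟶ CommRingCat.of S' := CommRingCat.ofHom (algebraMap Γ(U, ⊤) S')
  haveI : IsFinite (Spec.map a) := (IsFinite.SpecMap_iff a).2 (RingHom.finite_algebraMap.2 hfin)
  haveI : Surjective (Spec.map a) := ⟨PrimeSpectrum.comap_surjective_of_faithfullyFlat⟩
  refine ⟨Spec (CommRingCat.of S'), inferInstance, Spec.map a ≫ U.isoSpec.inv, inferInstance, inferInstance,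
    fun y => ?_⟩
  obtain ⟨g, hg, ⟨σ⟩⟩ := hdom y.asIdeal
  let L := Localization.Away g
  let l : Spec (CommRingCat.of L) ⟶ Spec (CommRingCat.of S') := Spec.map (CommRingCat.ofHom (algebraMap S' L))
  haveI : IsOpenImmersion l := IsOpenImmersion.of_isLocalization g
  refine ⟨l.opensRange, l.isoOpensRange.inv ≫ Spec.map (CommRingCat.ofHom σ.toRingHom) ≫ W.isoSpec.inv, ?_, ?_⟩
  · show y ∈ Set.range (PrimeSpectrum.comap (algebraMap S' L))
    rw [PrimeSpectrum.localization_away_comap_range L g]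
    exact hg
  · have h1 : W.isoSpec.inv ≫ f = Spec.map φ ≫ U.isoSpec.inv := by simp [hmap]
    have h2 : l.opensRange.ι = l.isoOpensRange.inv ≫ l := by
      rw [Iso.eq_inv_comp]; exact l.isoOpensRange_hom_ι
    have h3 : φ ≫ CommRingCat.ofHom σ.toRingHom = a ≫ CommRingCat.ofHom (algebraMap S' L) :=
      CommRingCat.hom_ext (RingHom.ext fun r => (σ.commutes r).trans (IsScalarTower.algebraMap_apply Γ(U, ⊤) S' L r))
    rw [h2, Category.assoc, Category.assoc, Category.assoc, h1, ← Category.assoc (Spec.map _), ← Spec.map_comp, h3,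
      Spec.map_comp, Category.assoc]

theorem isAffineOpen_inf_preimage {Y : Scheme.{u}} (g : Y ⟶ X) {U₀ : X.Opens} (f : Γ(X, U₀)) {W₀ : Y.Opens}
    (hW₀ : IsAffineOpen W₀) (e : W₀ ≤ g ⁻¹ᵁ U₀) : IsAffineOpen (W₀ ⊓ g ⁻¹ᵁ X.basicOpen f) := by
  have h : W₀ ⊓ g ⁻¹ᵁ X.basicOpen f = Y.basicOpen (g.appLE U₀ W₀ e f) := by
    rw [Scheme.Hom.appLE, CommRingCat.comp_apply, Scheme.basicOpen_res, ← Scheme.preimage_basicOpen]
  rw [h]
  exact hW₀.basicOpen _

variable [CompactSpace X] [QuasiSeparatedSpace X]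

/-- A finite surjection from an affine scheme onto an affine open extends to a finite surjection. -/
theorem exists_finite_extension (U : X.Opens) (hU : IsAffineOpen U) {P : Scheme.{u}} [IsAffine P]
    (p : P ⟶ (U : Scheme.{u})) [IsFinite p] [Surjective p] :
    ∃ (X' : Scheme.{u}) (π : X' ⟶ X), IsFinite π ∧ Surjective π ∧ ∀ x' : X', π x' ∈ U →
      ∃ (y : P) (O : X'.Opens), x' ∈ O ∧ ∀ N : P.Opens, y ∈ N →
        ∃ (O' : X'.Opens) (k : (O' : Scheme.{u}) ⟶ N), x' ∈ O' ∧ k ≫ N.ι ≫ p ≫ U.ι = O'.ι ≫ π := by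
  haveI : IsAffine (U : Scheme.{u}) := hU
  haveI : QuasiCompact (p ≫ U.ι) := inferInstance
  obtain ⟨T, j, π, hj, -, hπ, hjπ⟩ := H7Lim.exists_openImmersion_finite (p ≫ U.ι)
  have hsub : Set.range j ⊆ π ⁻¹ᵁ U := by
    rintro _ ⟨y, rfl⟩
    show π (j y) ∈ U
    rw [← Scheme.Hom.comp_apply, hjπ]
    exact (p y).2
  let j' : P ⟶ (π ⁻¹ᵁ U : Scheme.{u}) := IsOpenImmersion.lift (π ⁻¹ᵁ U).ι j
    (by rw [Scheme.Opens.range_ι]; exact hsub)
  have hj' : j' ≫ (π ⁻¹ᵁ U).ι = j := IsOpenImmersion.lift_fac _ _ _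
  have hj'p : j' ≫ (π ∣_ U) = p := by
    rw [← cancel_mono U.ι, Category.assoc, morphismRestrict_ι, ← Category.assoc, hj', hjπ]
  haveI : IsFinite (j' ≫ (π ∣_ U)) := by rw [hj'p]; infer_instance
  haveI : IsFinite j' := IsFinite.of_comp j' (π ∣_ U)
  have hclosed : closure (Set.range j) ∩ (π ⁻¹ᵁ U : Set T) ⊆ Set.range j := by
    rintro t ⟨ht, htU⟩
    have h1 : (⟨t, htU⟩ : (π ⁻¹ᵁ U : Scheme.{u})) ∈ closure (Set.range j') := by
      rw [(π ⁻¹ᵁ U).ι.isEmbedding.isInducing.closure_eq_preimage_closure_image, ← Set.range_comp]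
      show t ∈ closure (Set.range fun y => (j' ≫ (π ⁻¹ᵁ U).ι) y)
      rw [hj']
      exact ht
    rw [(j'.isClosedMap.isClosed_range).closure_eq] at h1
    obtain ⟨y, hy⟩ := h1
    exact ⟨y, by rw [← hj', Scheme.Hom.comp_apply, hy]; rfl⟩
  let C₁ : Closeds T := ⟨closure (Set.range j), isClosed_closure⟩
  let C₂ : Closeds X := ⟨(U : Set X)ᶜ, U.2.isClosed_compl⟩
  let T₁ := (Scheme.IdealSheafData.vanishingIdeal C₁).subscheme
  let i₁ : T₁ ⟶ T := (Scheme.IdealSheafData.vanishingIdeal C₁).subschemeι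
  let T₂ := (Scheme.IdealSheafData.vanishingIdeal C₂).subscheme
  let i₂ : T₂ ⟶ X := (Scheme.IdealSheafData.vanishingIdeal C₂).subschemeι
  have hi₁ : Set.range i₁ = closure (Set.range j) := by
    rw [Scheme.IdealSheafData.range_subschemeι, Scheme.IdealSheafData.coe_support_vanishingIdeal]
    rfl
  have hi₂ : Set.range i₂ = (U : Set X)ᶜ := by
    rw [Scheme.IdealSheafData.range_subschemeι, Scheme.IdealSheafData.coe_support_vanishingIdeal]
    rfl
  refine ⟨T₁ ⨿ T₂, coprod.desc (i₁ ≫ π) i₂, inferInstance, ⟨fun x => ?_⟩, fun x' hx' => ?_⟩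
  · by_cases hx : x ∈ U
    · obtain ⟨y, hy⟩ := p.surjective ⟨x, hx⟩
      obtain ⟨t, ht⟩ : j y ∈ Set.range i₁ := by
        rw [hi₁]
        exact subset_closure ⟨y, rfl⟩
      refine ⟨(coprod.inl : T₁ ⟶ T₁ ⨿ T₂) t, ?_⟩
      rw [← Scheme.Hom.comp_apply, coprod.inl_desc, Scheme.Hom.comp_apply, ht, ← Scheme.Hom.comp_apply, hjπ,
        Scheme.Hom.comp_apply, hy]
      rfl
    · obtain ⟨t, ht⟩ : x ∈ Set.range i₂ := by rw [hi₂]; exact hx
      refine ⟨(coprod.inr : T₂ ⟶ T₁ ⨿ T₂) t, ?_⟩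
      rw [← Scheme.Hom.comp_apply, coprod.inr_desc, ht]
  · have hcases : (∃ t, (coprod.inl : T₁ ⟶ T₁ ⨿ T₂) t = x') ∨ ∃ t, (coprod.inr : T₂ ⟶ T₁ ⨿ T₂) t = x' := by
      obtain ⟨s, rfl⟩ := (coprodMk T₁ T₂).surjective x'
      rcases s with t | t
      · exact Or.inl ⟨t, (coprodMk_inl _ _ t).symm⟩
      · exact Or.inr ⟨t, (coprodMk_inr _ _ t).symm⟩
    rcases hcases with ⟨t, rfl⟩ | ⟨t, rfl⟩
    swap
    · rw [← Scheme.Hom.comp_apply, coprod.inr_desc] at hx'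
      exact absurd hx' (hi₂.le ⟨t, rfl⟩)
    · rw [← Scheme.Hom.comp_apply, coprod.inl_desc, Scheme.Hom.comp_apply] at hx'
      obtain ⟨y, hy⟩ := hclosed ⟨hi₁.le ⟨t, rfl⟩, hx'⟩
      let inl : T₁ ⟶ T₁ ⨿ T₂ := coprod.inl
      refine ⟨y, inl ''ᵁ ⊤, ⟨t, trivial, rfl⟩, fun N hN => ?_⟩
      let M : T₁.Opens := i₁ ⁻¹ᵁ (j ''ᵁ N)
      refine ⟨inl ''ᵁ M, (inl.isoImage M).inv ≫ (i₁ ∣_ (j ''ᵁ N)) ≫ (j.isoImage N).inv,
        ⟨t, ⟨y, hN, hy⟩, rfl⟩, ?_⟩
      rw [show p ≫ U.ι = j ≫ π from hjπ.symm]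
      simp only [Category.assoc]
      rw [Scheme.Hom.isoImage_inv_ι_assoc, morphismRestrict_ι_assoc, ← Scheme.Hom.isoImage_inv_ι_assoc inl M]
      show _ = (inl.isoImage M).inv ≫ M.ι ≫ inl ≫ coprod.desc (i₁ ≫ π) i₂
      rw [coprod.inl_desc]

/-- Every étale covering of a quasi-compact quasi-separated scheme is refined by an open covering of a finite
surjective cover. -/
theorem exists_finite_refinement {κ : Type*} (V : κ → X.Etale)
    (hV : ∀ x : X, ∃ (k : κ) (y : (V k).left), (V k).hom y = x) :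
    ∃ (X' : Scheme.{u}) (π : X' ⟶ X), IsFinite π ∧ Surjective π ∧
      ∀ x' : X', ∃ (k : κ) (O : X'.Opens) (h : (O : Scheme.{u}) ⟶ (V k).left),
        x' ∈ O ∧ h ≫ (V k).hom = O.ι ≫ π := by
  classical
  have hloc : ∀ x : X, ∃ (U : X.Opens) (_ : x ∈ U) (X' : Scheme.{u}) (π : X' ⟶ X), IsFinite π ∧ Surjective π ∧
      ∀ x' : X', π x' ∈ U → ∃ (k : κ) (O : X'.Opens) (h : (O : Scheme.{u}) ⟶ (V k).left),
        x' ∈ O ∧ h ≫ (V k).hom = O.ι ≫ π := by
    intro x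
    obtain ⟨k, v, hv⟩ := hV x
    haveI : Etale (V k).hom := (V k).prop
    obtain ⟨U₀, hU₀, hxU₀, -⟩ := exists_isAffineOpen_mem_and_subset (X := X) (x := x) (U := ⊤) trivial
    obtain ⟨W₀, hW₀, hvW₀, hW₀U⟩ := exists_isAffineOpen_mem_and_subset (X := (V k).left) (x := v)
      (U := (V k).hom ⁻¹ᵁ U₀) (show (V k).hom v ∈ U₀ from hv.symm ▸ hxU₀)
    let D : X.Opens := ⟨(V k).hom '' (W₀ : Set (V k).left), (V k).hom.isOpenMap _ W₀.2⟩
    obtain ⟨f, hfD, hxf⟩ := hU₀.exists_basicOpen_le (V := D) ⟨x, ⟨v, hvW₀, hv⟩⟩ hxU₀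
    let U := X.basicOpen f
    let W : (V k).left.Opens := W₀ ⊓ (V k).hom ⁻¹ᵁ U
    have hW : IsAffineOpen W := isAffineOpen_inf_preimage (V k).hom f hW₀ hW₀U
    haveI : IsAffine (U : Scheme.{u}) := hU₀.basicOpen f
    haveI : IsAffine (W : Scheme.{u}) := hW
    let fW : (W : Scheme.{u}) ⟶ (U : Scheme.{u}) := (V k).hom.resLE U W inf_le_right
    haveI : Etale fW := by
      haveI : Etale (fW ≫ U.ι) := by rw [Scheme.Hom.resLE_comp_ι]; infer_instance
      exact Etale.of_comp fW U.ι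
    haveI : Surjective fW := ⟨fun z => by
      obtain ⟨w, hw, hwz⟩ := hfD z.2
      refine ⟨⟨w, hw, show (V k).hom w ∈ U from hwz.symm ▸ z.2⟩, Subtype.ext ?_⟩
      show (fW ≫ U.ι) _ = z.1
      rw [Scheme.Hom.resLE_comp_ι]
      exact hwz⟩
    obtain ⟨P, hP, p, hp, hps, hfac⟩ := exists_finite_affine fW
    obtain ⟨X', π, hπ, hπs, hext⟩ := exists_finite_extension U (hU₀.basicOpen f) p
    refine ⟨U, hxf, X', π, hπ, hπs, fun x' hx' => ?_⟩
    obtain ⟨y, O, -, hO⟩ := hext x' hx'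
    obtain ⟨N, h, hyN, hh⟩ := hfac y
    obtain ⟨O', g, hxO', hg⟩ := hO N hyN
    refine ⟨k, O', g ≫ h ≫ W.ι, hxO', ?_⟩
    rw [← hg, ← reassoc_of% hh, Scheme.Hom.resLE_comp_ι]
    simp only [Category.assoc]
  choose U hxU X₁ π₁ hπ₁ hπ₁s hfac using hloc
  obtain ⟨t, ht⟩ := isCompact_univ.elim_finite_subcover (fun x => (U x : Set X)) (fun x => (U x).2)
    fun x _ => Set.mem_iUnion.2 ⟨x, hxU x⟩
  have hprod : ∀ s : Finset X, ∃ (X' : Scheme.{u}) (π : X' ⟶ X), IsFinite π ∧ Surjective π ∧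
      ∀ x ∈ s, ∃ q : X' ⟶ X₁ x, q ≫ π₁ x = π := fun s => by
    induction s using Finset.induction with
    | empty => exact ⟨X, 𝟙 X, inferInstance, inferInstance, fun x hx => absurd hx (Finset.notMem_empty x)⟩
    | @insert a s ha ih =>
      obtain ⟨X', π, hπ, hπs, hq⟩ := ih
      haveI := hπ₁ a
      haveI := hπ₁s a
      refine ⟨pullback (π₁ a) π, pullback.fst (π₁ a) π ≫ π₁ a, inferInstance, inferInstance, fun x hx => ?_⟩
      rcases Finset.mem_insert.1 hx with rfl | hx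
      · exact ⟨pullback.fst _ _, rfl⟩
      · obtain ⟨q, hq⟩ := hq x hx
        exact ⟨pullback.snd _ _ ≫ q, by rw [Category.assoc, hq, pullback.condition]⟩
  obtain ⟨X', π, hπ, hπs, hq⟩ := hprod t
  refine ⟨X', π, hπ, hπs, fun x' => ?_⟩
  obtain ⟨a, ha, hxa⟩ := Set.mem_iUnion₂.1 (ht (Set.mem_univ (π x')))
  obtain ⟨q, hqπ⟩ := hq a ha
  obtain ⟨k, O, h, hxO, hh⟩ := hfac a (q x') (by
    show π₁ a (q x') ∈ U a
    rw [← Scheme.Hom.comp_apply, hqπ]; exact hxa)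
  refine ⟨k, q ⁻¹ᵁ O, (q ∣_ O) ≫ h, hxO, ?_⟩
  rw [Category.assoc, hh, morphismRestrict_ι_assoc, hqπ]

end Groth.Agent.H18PBC
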