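import Groth.Agent.H18PBC.GabberGlue

/-!
# Gabber's criterion for sections of étale sheaves of sets over a closed subscheme
-/

set_option autoImplicit false
set_option linter.style.haveILetI false
set_option linter.unusedSectionVars false
set_option backward.isDefEq.respectTransparency false
set_option backward.isDefEq.respectTransparency.types false

universe u

open CategoryTheory CategoryTheory.Limits AlgebraicGeometry Opposite TopologicalSpace
open scoped Groth.Agent.H18Et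

namespace Groth.Agent.H18PBC

open H15Site.SetDescent H18Et

variable {Z X T : Scheme.{u}} {i : Z ⟶ X}

/-- The pullback of a local representative to an open of `T`. -/
noncomputable abbrev repSec (G : EtDesc.Sh X) (p : T ⟶ X) {A : T.Opens} {W : X.Etale}
    (h : (A : Scheme.{u}) ⟶ W.left) (hh : h ≫ W.hom = A.ι ≫ p) (t : G.obj.obj (op W)) :
    ((EtDesc.pullSh p).obj G).obj.obj (op (openEt A)) :=
  ((EtDesc.pullSh p).obj G).obj.map (bcl p (U := openEt A) h hh).op (pullSect p G t)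

theorem map_openLE_repSec (G : EtDesc.Sh X) (p : T ⟶ X) {A B : T.Opens} (le : B ≤ A) {W : X.Etale}
    (h : (A : Scheme.{u}) ⟶ W.left) (hh : h ≫ W.hom = A.ι ≫ p) (t : G.obj.obj (op W))
    (hh' : (T.homOfLE le ≫ h) ≫ W.hom = B.ι ≫ p) :
    ((EtDesc.pullSh p).obj G).obj.map (openLE le).op (repSec G p h hh t) = repSec G p (T.homOfLE le ≫ h) hh' t :=
  by
  refine (Functor.map_comp_apply _ (bcl p (U := openEt A) h hh).op (openLE le).op _).symm.trans ?_
  refine congrArg (fun q => ((EtDesc.pullSh p).obj G).obj.map q _) ?_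
  refine (op_comp).symm.trans (congrArg Quiver.Hom.op (bc_hom_ext ?_))
  exact (Category.assoc _ _ _).trans ((congrArg (_ ≫ ·) (bcl_fst _ _ _)).trans (bcl_fst _ _ _).symm)

theorem homOfLE_comp {A B : T.Opens} (le : B ≤ A) (p : T ⟶ X) {W : X.Etale} (h : (A : Scheme.{u}) ⟶ W.left)
    (hh : h ≫ W.hom = A.ι ≫ p) : (T.homOfLE le ≫ h) ≫ W.hom = B.ι ≫ p :=
  (Category.assoc _ _ _).trans ((congrArg (_ ≫ ·) hh).trans ((Category.assoc _ _ _).symm.trans
    (congrArg (· ≫ p) (T.homOfLE_ι le))))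

theorem mem_relSet_repSec (G : EtDesc.Sh X)
    (σ : ((EtDesc.pullSh i).obj G).obj.obj (op ((EtCoh.bc i).obj (EtCoh.top X))))
    (p : T ⟶ X) {A B : T.Opens} {W₁ W₂ : X.Etale} (t₁ : G.obj.obj (op W₁)) (t₂ : G.obj.obj (op W₂))
    (h₁ : pullSect i G t₁ = ((EtDesc.pullSh i).obj G).obj.map ((EtCoh.bc i).map (toTop W₁)).op σ)
    (h₂ : pullSect i G t₂ = ((EtDesc.pullSh i).obj G).obj.map ((EtCoh.bc i).map (toTop W₂)).op σ)
    (k₁ : (A : Scheme.{u}) ⟶ W₁.left) (hk₁ : k₁ ≫ W₁.hom = A.ι ≫ p)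
    (k₂ : (B : Scheme.{u}) ⟶ W₂.left) (hk₂ : k₂ ≫ W₂.hom = B.ι ≫ p)
    (x : T) (hx : p x ∈ Set.range i) (hxa : x ∈ A) (hxb : x ∈ B) :
    x ∈ relSet _ (repSec G p k₁ hk₁ t₁) (repSec G p k₂ hk₂ t₂) := by
  let C : T.Opens := A ⊓ B
  have la : C ≤ A := inf_le_left
  have lb : C ≤ B := inf_le_right
  obtain ⟨V, g, v, hv, e⟩ := reps_agree G σ p (U := openEt C) t₁ t₂ h₁ h₂
    (T.homOfLE la ≫ k₁) (homOfLE_comp la p k₁ hk₁) (T.homOfLE lb ≫ k₂) (homOfLE_comp lb p k₂ hk₂)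
    ⟨x, hxa, hxb⟩ hx
  refine ⟨V, g ≫ openLE la, g ≫ openLE lb, v, ?_, ?_⟩
  · exact (congrArg (fun q : V.left ⟶ T => q v) (Over.w g.hom).symm).trans (congrArg C.ι hv)
  · rw [op_comp, op_comp, Functor.map_comp_apply, Functor.map_comp_apply,
      map_openLE_repSec G p la k₁ hk₁ t₁ (homOfLE_comp la p k₁ hk₁),
      map_openLE_repSec G p lb k₂ hk₂ t₂ (homOfLE_comp lb p k₂ hk₂)]
    exact e

theorem comp_map_eq_comp_tm {S : Scheme.{u}} (p : S ⟶ T) (a : T ⟶ X) (b : S ⟶ X) (w : p ≫ a = b) {U : S.Etale}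
    {U₁ : T.Etale} {V : X.Etale} (l : U ⟶ (EtCoh.bc p).obj U₁) (gk : U₁ ⟶ (EtCoh.bc a).obj V)
    (gb : U ⟶ (EtCoh.bc b).obj V)
    (h : ((l.left ≫ pullback.fst U₁.hom p) ≫ gk.left) ≫ pullback.fst V.hom a = gb.left ≫ pullback.fst V.hom b) :
    l ≫ (EtCoh.bc p).map gk = gb ≫ tm p a b w V := by
  refine bc_bc_hom_ext ?_
  refine Eq.trans ?_ ((Category.assoc gb.left _ _).trans ((congrArg (gb.left ≫ ·)
    (((Category.assoc _ _ _).symm).trans (tm_fst_fst p a b w V))))).symm |>.trans ?_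
  · refine Eq.trans ?_ h
    refine congrArg (· ≫ pullback.fst V.hom a) ?_
    refine (Category.assoc l.left _ _).trans ((congrArg (l.left ≫ ·) (bc_map_fst p gk)).trans ?_)
    exact (Category.assoc l.left _ _).symm
  · rfl

/-- The two pullbacks to the double product of a section with given local representatives. -/
theorem transfer_key {S : Scheme.{u}} (G : EtDesc.Sh X) (π : T ⟶ X) (p : S ⟶ T) (q : S ⟶ X) (w : p ≫ π = q)
    {A : T.Opens} {W : X.Etale} (k : (A : Scheme.{u}) ⟶ W.left) (hk : k ≫ W.hom = A.ι ≫ π) (t : G.obj.obj (op W))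
    (s' : ((EtDesc.pullSh π).obj G).obj.obj (op ((EtCoh.bc π).obj (EtCoh.top X))))
    (e : ((EtDesc.pullSh π).obj G).obj.map ((EtCore.bcTopIsTerminal π).from (openEt A)).op s' = repSec G π k hk t)
    {B : S.Opens} (r : (B : Scheme.{u}) ⟶ (A : Scheme.{u})) (hr : r ≫ A.ι = B.ι ≫ p)
    (hrk : (r ≫ k) ≫ W.hom = B.ι ≫ q) :
    ((EtDesc.pullSh q).obj G).obj.map ((EtCore.bcTopIsTerminal q).from (openEt B)).op
        (transfer p π q w G (EtCoh.top X) s') = repSec G q (r ≫ k) hrk t := by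
  refine map_transfer p π q w G ((EtCore.bcTopIsTerminal π).from (openEt A)) (bcl π (U := openEt A) k hk) s' t e
    _ _ (bcl p (U := openEt B) (W := openEt A) r hr) ?_ ?_
  · exact (IsTerminal.isTerminalObj (EtCoh.bc p) _ (EtCore.bcTopIsTerminal π)).hom_ext _ _
  · refine comp_map_eq_comp_tm p π q w _ _ _ ?_
    refine (Category.assoc _ _ _).trans ((congrArg (_ ≫ ·) (bcl_fst π (U := openEt A) k hk)).trans ?_)
    refine (congrArg (· ≫ k) (bcl_fst p (U := openEt B) (W := openEt A) r hr)).trans ?_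
    exact (bcl_fst q (U := openEt B) (r ≫ k) hrk).symm

variable [CompactSpace X] [QuasiSeparatedSpace X]

theorem descent_top (hCP : CP i) (G : EtDesc.Sh X)
    (σ : ((EtDesc.pullSh i).obj G).obj.obj (op ((EtCoh.bc i).obj (EtCoh.top X))))
    (π : T ⟶ X) [IsFinite π] {ι : Type u} (O : ι → T.Opens) (hO : ∀ x : T, ∃ a, x ∈ O a) (W : ι → X.Etale)
    (k : ∀ a, (O a : Scheme.{u}) ⟶ (W a).left) (hk : ∀ a, k a ≫ (W a).hom = (O a).ι ≫ π)
    (t : ∀ a, G.obj.obj (op (W a)))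
    (ht : ∀ a, pullSect i G (t a) = ((EtDesc.pullSh i).obj G).obj.map ((EtCoh.bc i).map (toTop (W a))).op σ)
    (s' : ((EtDesc.pullSh π).obj G).obj.obj (op ((EtCoh.bc π).obj (EtCoh.top X))))
    (hs' : ∀ a, ((EtDesc.pullSh π).obj G).obj.map ((EtCore.bcTopIsTerminal π).from (openEt (O a))).op s' =
      repSec G π (k a) (hk a) (t a)) :
    trans₁ π G (EtCoh.top X) s' = trans₂ π G (EtCoh.top X) s' := by
  haveI : IsFinite (((EtCoh.bc (q₀ π)).obj (EtCoh.top X)).hom ≫ q₀ π) :=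
    inferInstanceAs (IsFinite (pullback.snd (𝟙 X) (q₀ π) ≫ q₀ π))
  refine agree_eq_univ hCP (q₀ π) _ _ _ fun x hx => ?_
  let u := ((EtCoh.bc (q₀ π)).obj (EtCoh.top X)).hom x
  obtain ⟨a, hua⟩ := hO (pullback.fst π π u)
  obtain ⟨c, huc⟩ := hO (pullback.snd π π u)
  let O' : (EtDesc.X2 π).Opens := (pullback.fst π π ⁻¹ᵁ O a) ⊓ (pullback.snd π π ⁻¹ᵁ O c)
  let r₁ : (O' : Scheme.{u}) ⟶ (O a : Scheme.{u}) := (pullback.fst π π).resLE (O a) O' inf_le_left
  let r₂ : (O' : Scheme.{u}) ⟶ (O c : Scheme.{u}) := (pullback.snd π π).resLE (O c) O' inf_le_right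
  have e₁ : r₁ ≫ (O a).ι = O'.ι ≫ pullback.fst π π := Scheme.Hom.resLE_comp_ι _ _
  have e₂ : r₂ ≫ (O c).ι = O'.ι ≫ pullback.snd π π := Scheme.Hom.resLE_comp_ι _ _
  have hr₁ : (r₁ ≫ k a) ≫ (W a).hom = O'.ι ≫ q₀ π := by
    rw [Category.assoc, hk a, reassoc_of% e₁]
  have hr₂ : (r₂ ≫ k c) ≫ (W c).hom = O'.ι ≫ q₀ π := by
    rw [Category.assoc, hk c, reassoc_of% e₂, ← pullback.condition]
  have hag := reps_agree G σ (q₀ π) (U := openEt O') (t a) (t c) (ht _) (ht _) (r₁ ≫ k a) hr₁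
    (r₂ ≫ k c) hr₂ ⟨u, hua, huc⟩ hx
  have k₁ := transfer_key G π (pullback.fst π π) (q₀ π) rfl (k a) (hk a) (t a) s' (hs' a) r₁ e₁ hr₁
  have k₂ := transfer_key G π (pullback.snd π π) (q₀ π) pullback.condition.symm (k c) (hk c) (t c) s' (hs' c)
    r₂ e₂ hr₂
  replace hag := (congrArg₂ (fun y z => (⟨u, hua, huc⟩ : (O' : Scheme.{u})) ∈
    agree ((EtDesc.pullSh (q₀ π)).obj G) (U := openEt O') y z) k₁ k₂).mpr hag
  rw [mem_agree_map] at hag
  have hgx : ((EtCore.bcTopIsTerminal (q₀ π)).from (openEt O')).left.base ⟨u, hua, huc⟩ = x := by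
    have hiso : IsIso ((EtCoh.bc (q₀ π)).obj (EtCoh.top X)).hom :=
      inferInstanceAs (IsIso (pullback.snd (𝟙 X) (q₀ π)))
    refine (((EtCoh.bc (q₀ π)).obj (EtCoh.top X)).hom.homeomorph).injective ?_
    exact congrArg (fun q : (O' : Scheme.{u}) ⟶ EtDesc.X2 π => q ⟨u, hua, huc⟩)
      (Over.w ((EtCore.bcTopIsTerminal (q₀ π)).from (openEt O')).hom)
  exact hgx ▸ hag

/-- **Gabber's criterion.** -/
theorem bijective_pullSect [IsClosedImmersion i] (hCP : CP i) (G : EtDesc.Sh X) :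
    Function.Bijective (pullSect i G (U := EtCoh.top X)) := by
  classical
  refine ⟨fun s t h => ?_, fun σ => ?_⟩
  · haveI : IsFinite ((EtCoh.top X).hom ≫ 𝟙 X) := inferInstanceAs (IsFinite (𝟙 X ≫ 𝟙 X))
    refine agree_eq_univ hCP (𝟙 X) G s t fun u hu => ?_
    obtain ⟨z, hz⟩ := hu
    obtain ⟨v, hv, -⟩ := Scheme.Pullback.exists_preimage_pullback (f := (EtCoh.top X).hom) (g := i) u z hz.symm
    refine hv ▸ (mem_agree_pullSect i G s t v).1 ?_
    rw [h]
    exact ⟨_, 𝟙 _, v, rfl, rfl⟩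
  -- local lifts and the finite cover refining them
  choose W w t hw ht using exists_local_lift G σ
  let R : X.Opens := ⟨(Set.range i)ᶜ, i.isClosedEmbedding.isClosed_range.isOpen_compl⟩
  let V : Z ⊕ PUnit.{u + 1} → X.Etale := Sum.elim W fun _ => openEt R
  obtain ⟨X', π, hπ, hπs, hfac⟩ := exists_finite_refinement V fun x => by
    by_cases hx : x ∈ Set.range i
    · obtain ⟨z, rfl⟩ := hx
      exact ⟨Sum.inl z, w z, hw z⟩
    · exact ⟨Sum.inr ⟨⟩, (⟨x, hx⟩ : (R : Scheme.{u})), rfl⟩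
  let Z' : Set X' := π ⁻¹' Set.range i
  have hsel : ∀ a : Z', ∃ (k : Z) (O : X'.Opens) (h : (O : Scheme.{u}) ⟶ (W k).left),
      a.1 ∈ O ∧ h ≫ (W k).hom = O.ι ≫ π := fun a => by
    obtain ⟨k, O, h, hO, hh⟩ := hfac a.1
    rcases k with k | ⟨⟩
    · exact ⟨k, O, h, hO, hh⟩
    · exfalso
      have he : π a.1 = (h ≫ R.ι) ⟨a.1, hO⟩ :=
        (congrArg (fun q : (O : Scheme.{u}) ⟶ X => q ⟨a.1, hO⟩) hh).symm
      exact (show π a.1 ∈ (R : Set X) from he ▸ (h ⟨a.1, hO⟩).2) a.2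
  choose k Wo h hWo hh using hsel
  haveI : CompactSpace X' := QuasiCompact.compactSpace_of_compactSpace π
  haveI : QuasiSeparatedSpace X' := quasiSeparatedSpace_of_quasiSeparated π
  haveI : SpectralSpace X' := { }
  let G' := (EtDesc.pullSh π).obj G
  obtain ⟨F, O₀, hOW, hOcov, hOE⟩ := exists_compatible_refinement (X := X') (Z := Z')
    (i.isClosedEmbedding.isClosed_range.preimage π.continuous) (isConnected_preimage_inter_closure hCP π) Wo hWo
    (fun a b => relSet G' (repSec G π (h a) (hh a) (t (k a))) (repSec G π (h b) (hh b) (t (k b))))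
    (fun a b => isOpen_relSet _ _)
    (fun a b x hx hxa hxb => mem_relSet_repSec G σ π _ _ (ht _) (ht _) _ _ _ _ x hx hxa hxb)
    (fun a b x => relSet_symm) (fun a b c x => relSet_trans)
  let O : Z' → X'.Opens := O₀
  have hOW' : ∀ a, O a ≤ Wo a := hOW
  let kk : ∀ a : F, (O a.1 : Scheme.{u}) ⟶ (W (k a.1)).left := fun a => X'.homOfLE (hOW' a.1) ≫ h a.1
  have hkk : ∀ a : F, kk a ≫ (W (k a.1)).hom = (O a.1).ι ≫ π := fun a =>
    homOfLE_comp (hOW' a.1) π (h a.1) (hh a.1)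
  have hiso : IsIso ((EtCoh.bc π).obj (EtCoh.top X)).hom := inferInstanceAs (IsIso (pullback.snd (𝟙 X) π))
  obtain ⟨s', hs'⟩ := exists_glue (G := G') (EtCore.bcTopIsTerminal π) (fun a : F => O a.1)
    (fun x => by obtain ⟨a, ha, hx⟩ := hOcov x; exact ⟨⟨a, ha⟩, hx⟩)
    (fun a => repSec G π (kk a) (hkk a) (t (k a.1)))
    (fun a b x hxa hxb => by
      rw [← map_openLE_repSec G π (hOW' a.1) (h a.1) (hh a.1) (t (k a.1)) (hkk a),
        ← map_openLE_repSec G π (hOW' b.1) (h b.1) (hh b.1) (t (k b.1)) (hkk b)]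
      exact relSet_map (hOW' a.1) (hOW' b.1) hxa hxb (hOE a.1 a.2 b.1 b.2 x hxa hxb))
  have hcov : ∀ x : X', ∃ a : F, x ∈ O a.1 := fun x => by
    obtain ⟨a, ha, hx⟩ := hOcov x; exact ⟨⟨a, ha⟩, hx⟩
  have hdesc : trans₁ π G (EtCoh.top X) s' = trans₂ π G (EtCoh.top X) s' :=
    descent_top hCP G σ π (fun a : F => O a.1) hcov (fun a => W (k a.1)) kk hkk (fun a => t (k a.1))
      (fun a => ht _) s' hs'
  obtain ⟨s, hs, -⟩ := existsUnique_section (isUnivSubmersive_of_finite π) G (EtCoh.top X) s' hdesc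
  refine ⟨s, eq_of_agree_eq_univ _ _ _ fun v => ?_⟩
  let z : Z := ((EtCoh.bc i).obj (EtCoh.top X)).hom v
  obtain ⟨x', hx'⟩ := π.surjective (i z)
  obtain ⟨a, hxa⟩ := hcov x'
  let W₀ := W (k a.1)
  let y : W₀.left := kk a ⟨x', hxa⟩
  have hy : W₀.hom y = i z :=
    (congrArg (fun q : (O a.1 : Scheme.{u}) ⟶ X => q ⟨x', hxa⟩) (hkk a)).trans hx'
  have hag : y ∈ agree G (G.obj.map (toTop W₀).op s) (t (k a.1)) := by
    have h1 : (bcl π (U := openEt (O a.1)) (kk a) (hkk a)).left.base ⟨x', hxa⟩ ∈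
        agree _ (pullSect π G (G.obj.map (toTop W₀).op s)) (pullSect π G (t (k a.1))) := by
      rw [← mem_agree_map, pullSect_map, hs, ← Functor.map_comp_apply, ← op_comp,
        (EtCore.bcTopIsTerminal π).hom_ext (_ ≫ _) ((EtCore.bcTopIsTerminal π).from (openEt (O a.1))), hs']
      exact ⟨_, 𝟙 _, _, rfl, rfl⟩
    exact Eq.mp (congrArg (fun q : W₀.left => q ∈ agree G (G.obj.map (toTop W₀).op s) (t (k a.1)))
      (congrArg (fun q : (O a.1 : Scheme.{u}) ⟶ W₀.left => q ⟨x', hxa⟩) (bcl_fst π (U := openEt (O a.1)) (kk a) (hkk a))))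
      ((mem_agree_pullSect π G _ _ _).1 h1)
  obtain ⟨v', hv', hv''⟩ := Scheme.Pullback.exists_preimage_pullback (f := W₀.hom) (g := i) y z hy
  have h2 : v' ∈ agree _ (pullSect i G (G.obj.map (toTop W₀).op s)) (pullSect i G (t (k a.1))) :=
    (mem_agree_pullSect i G _ _ _).2 (hv'.symm ▸ hag)
  rw [pullSect_map, ht, mem_agree_map] at h2
  convert h2 using 1
  have hiso : IsIso ((EtCoh.bc i).obj (EtCoh.top X)).hom := inferInstanceAs (IsIso (pullback.snd (𝟙 X) i))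
  refine (((EtCoh.bc i).obj (EtCoh.top X)).hom.homeomorph).injective ?_
  exact hv''.symm.trans (congrArg (fun q : ((EtCoh.bc i).obj W₀).left ⟶ Z => q v')
    (Over.w ((EtCoh.bc i).map (toTop W₀)).hom).symm)

end Groth.Agent.H18PBC
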