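import Groth.Agent.H18PBC.TopGlue
import Groth.Agent.H18PBC.FiniteRefine
import Groth.Agent.H15Site.SetDescent.Exact
import Groth.Agent.H18Et.PushStalk
import Groth.Agent.H18Et.PushClosed
import Mathlib.AlgebraicGeometry.Morphisms.Finite

/-!
# Gabber's criterion for sections of étale sheaves of sets over a closed subscheme
-/

set_option autoImplicit false
set_option linter.style.haveILetI false
set_option linter.unusedSectionVars false
set_option backward.isDefEq.respectTransparency false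
set_option backward.isDefEq.respectTransparency.types false

universe u

open CategoryTheory CategoryTheory.Limits AlgebraicGeometry Opposite TopologicalSpace
open scoped Groth.Agent.H18Et

namespace Groth.Agent.H18PBC

open H15Site.SetDescent H18Et

variable {Z X T S : Scheme.{u}}

/-- Preimages of the closed subscheme in connected schemes finite over `X` are connected. -/
def CP (i : Z ⟶ X) : Prop :=
  ∀ (Y : Scheme.{u}) (π : Y ⟶ X), IsFinite π → ConnectedSpace Y → _root_.IsConnected (π ⁻¹' Set.range i)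

/-- An open subscheme as an object of the étale site. -/
noncomputable abbrev openEt (O : T.Opens) : T.Etale := Scheme.Etale.mk O.ι

instance subsingleton_hom_openEt (U : T.Etale) (O : T.Opens) : Subsingleton (U ⟶ openEt O) :=
  ⟨fun f g => MorphismProperty.Over.Hom.ext ((cancel_mono O.ι).1 ((Over.w f.hom).trans (Over.w g.hom).symm))⟩

/-- A map to a base change from a map on total spaces. -/
noncomputable abbrev bcl (a : T ⟶ X) {U : T.Etale} {W : X.Etale} (k : U.left ⟶ W.left)
    (hk : k ≫ W.hom = U.hom ≫ a) : U ⟶ (EtCoh.bc a).obj W :=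
  MorphismProperty.Over.homMk (pullback.lift k U.hom hk) (pullback.lift_snd _ _ _) trivial

theorem bcl_fst (a : T ⟶ X) {U : T.Etale} {W : X.Etale} (k : U.left ⟶ W.left) (hk : k ≫ W.hom = U.hom ≫ a) :
    (bcl a k hk).left ≫ pullback.fst W.hom a = k := pullback.lift_fst _ _ _

theorem bcl_map (a : T ⟶ X) {U : T.Etale} {W W' : X.Etale} (k : U.left ⟶ W.left) (hk : k ≫ W.hom = U.hom ≫ a)
    (g : W ⟶ W') (k' : U.left ⟶ W'.left) (hk' : k' ≫ W'.hom = U.hom ≫ a) (e : k ≫ g.left = k') :
    bcl a k hk ≫ (EtCoh.bc a).map g = bcl a k' hk' := by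
  refine bc_hom_ext ?_
  show ((bcl a k hk).left ≫ ((EtCoh.bc a).map g).left) ≫ pullback.fst W'.hom a = _
  refine (Category.assoc _ _ _).trans ((congrArg (_ ≫ ·) (bc_map_fst a g)).trans ?_)
  refine (Category.assoc _ _ _).symm.trans ((congrArg (· ≫ g.left) (bcl_fst a k hk)).trans ?_)
  exact e.trans (bcl_fst a k' hk').symm

theorem agree_symm (F : EtDesc.Sh T) {U : T.Etale} {s t : F.obj.obj (op U)} {u : U.left}
    (h : u ∈ agree F s t) : u ∈ agree F t s := by
  obtain ⟨V, g, v, hv, e⟩ := h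
  exact ⟨V, g, v, hv, e.symm⟩

theorem isUnivSubmersive_of_finite (π : T ⟶ X) [IsFinite π] [Surjective π] : EtDesc.IsUnivSubmersive π :=
  fun _ g => ⟨(pullback.snd π g).surjective,
    (pullback.snd π g).isClosedMap.isQuotientMap (pullback.snd π g).continuous (pullback.snd π g).surjective⟩

/-- A morphism to the terminal object. -/
noncomputable abbrev toTop (W : X.Etale) : W ⟶ EtCoh.top X := (EtCore.topIsTerminal X).from W

theorem toTop_left (W : X.Etale) : (toTop W).left = W.hom :=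
  (Category.comp_id _).symm.trans (Over.w (toTop W).hom)

/-- Transfer of a local representation. -/
theorem map_transfer (p : T ⟶ S) (a : S ⟶ X) (b : T ⟶ X) (w : p ≫ a = b) (G : EtDesc.Sh X) {V W : X.Etale}
    {U : T.Etale} {U₁ : S.Etale} (g₁ : U₁ ⟶ (EtCoh.bc a).obj V) (gk : U₁ ⟶ (EtCoh.bc a).obj W)
    (s' : ((EtDesc.pullSh a).obj G).obj.obj (op ((EtCoh.bc a).obj V))) (t : G.obj.obj (op W))
    (e : ((EtDesc.pullSh a).obj G).obj.map g₁.op s' =
      ((EtDesc.pullSh a).obj G).obj.map gk.op (pullSect a G t))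
    (g : U ⟶ (EtCoh.bc b).obj V) (gb : U ⟶ (EtCoh.bc b).obj W) (l : U ⟶ (EtCoh.bc p).obj U₁)
    (e₁ : l ≫ (EtCoh.bc p).map g₁ = g ≫ tm p a b w V) (e₂ : l ≫ (EtCoh.bc p).map gk = gb ≫ tm p a b w W) :
    ((EtDesc.pullSh b).obj G).obj.map g.op (transfer p a b w G V s') =
      ((EtDesc.pullSh b).obj G).obj.map gb.op (pullSect b G t) := by
  rw [← transfer_pullSect p a b w G t]
  unfold transfer
  rw [← Functor.map_comp_apply, ← Functor.map_comp_apply, ← op_comp, ← op_comp, ← e₁, ← e₂, op_comp, op_comp,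
    Functor.map_comp_apply, Functor.map_comp_apply]
  refine congrArg _ ?_
  rw [← NatTrans.naturality_apply (EtDesc.pullVia p a b w G).hom.hom,
    ← NatTrans.naturality_apply (EtDesc.pullVia p a b w G).hom.hom, ← pullSect_map, ← pullSect_map, e]

variable {i : Z ⟶ X}

/-- Two sections inverse image to restrictions of the same section agree over the closed subscheme after any
pullback. -/
theorem reps_agree (G : EtDesc.Sh X) (σ : ((EtDesc.pullSh i).obj G).obj.obj (op ((EtCoh.bc i).obj (EtCoh.top X))))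
    (a : T ⟶ X) {U : T.Etale} {W₁ W₂ : X.Etale} (t₁ : G.obj.obj (op W₁)) (t₂ : G.obj.obj (op W₂))
    (h₁ : pullSect i G t₁ = ((EtDesc.pullSh i).obj G).obj.map ((EtCoh.bc i).map (toTop W₁)).op σ)
    (h₂ : pullSect i G t₂ = ((EtDesc.pullSh i).obj G).obj.map ((EtCoh.bc i).map (toTop W₂)).op σ)
    (k₁ : U.left ⟶ W₁.left) (hk₁ : k₁ ≫ W₁.hom = U.hom ≫ a) (k₂ : U.left ⟶ W₂.left)
    (hk₂ : k₂ ≫ W₂.hom = U.hom ≫ a) (x : U.left) (hx : a (U.hom x) ∈ Set.range i) :
    x ∈ agree _ (((EtDesc.pullSh a).obj G).obj.map (bcl a k₁ hk₁).op (pullSect a G t₁))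
      (((EtDesc.pullSh a).obj G).obj.map (bcl a k₂ hk₂).op (pullSect a G t₂)) := by
  haveI : Etale W₁.hom := W₁.prop
  haveI : Etale W₂.hom := W₂.prop
  let P : X.Etale := Scheme.Etale.mk (pullback.fst W₁.hom W₂.hom ≫ W₁.hom)
  let p₁ : P ⟶ W₁ := MorphismProperty.Over.homMk (pullback.fst W₁.hom W₂.hom) rfl trivial
  let p₂ : P ⟶ W₂ := MorphismProperty.Over.homMk (pullback.snd W₁.hom W₂.hom) pullback.condition.symm trivial
  let m : U.left ⟶ P.left := pullback.lift k₁ k₂ (hk₁.trans hk₂.symm)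
  have hm : m ≫ P.hom = U.hom ≫ a := (pullback.lift_fst_assoc _ _ _ _).trans hk₁
  obtain ⟨z, hz⟩ := hx
  have hq : P.hom (m x) = i z := (congrArg (fun q : U.left ⟶ X => q x) hm).trans hz.symm
  obtain ⟨v, hv, -⟩ := Scheme.Pullback.exists_preimage_pullback (f := P.hom) (g := i) (m x) z hq
  have e : pullSect i G (G.obj.map p₁.op t₁) = pullSect i G (G.obj.map p₂.op t₂) := by
    rw [pullSect_map, pullSect_map, h₁, h₂, ← Functor.map_comp_apply, ← Functor.map_comp_apply, ← op_comp,
      ← op_comp, ← Functor.map_comp, ← Functor.map_comp, (EtCore.topIsTerminal X).hom_ext (p₁ ≫ toTop W₁)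
        (p₂ ≫ toTop W₂)]
  have hag : m x ∈ agree G (G.obj.map p₁.op t₁) (G.obj.map p₂.op t₂) := by
    rw [← hv, ← mem_agree_pullSect i G, e]
    exact ⟨_, 𝟙 _, v, rfl, rfl⟩
  have r₁ : bcl a m hm ≫ (EtCoh.bc a).map p₁ = bcl a k₁ hk₁ := bcl_map a m hm p₁ k₁ hk₁ (pullback.lift_fst _ _ _)
  have r₂ : bcl a m hm ≫ (EtCoh.bc a).map p₂ = bcl a k₂ hk₂ := bcl_map a m hm p₂ k₂ hk₂ (pullback.lift_snd _ _ _)
  rw [← r₁, ← r₂, op_comp, op_comp, Functor.map_comp_apply, Functor.map_comp_apply, ← pullSect_map,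
    ← pullSect_map, mem_agree_map, mem_agree_pullSect]
  exact Eq.mpr (congrArg (fun y : P.left => y ∈ agree G (G.obj.map p₁.op t₁) (G.obj.map p₂.op t₂))
    (congrArg (fun q : U.left ⟶ P.left => q x) (bcl_fst a m hm))) hag

variable [CompactSpace X] [QuasiSeparatedSpace X]

/-- Sections agreeing over the closed subscheme agree. -/
theorem agree_eq_univ (hCP : CP i) (π : T ⟶ X) {U : T.Etale} [IsFinite (U.hom ≫ π)] (F : EtDesc.Sh T)
    (s t : F.obj.obj (op U)) (h : ∀ u : U.left, π (U.hom u) ∈ Set.range i → u ∈ agree F s t) : s = t := by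
  refine eq_of_agree_eq_univ F s t fun u => ?_
  by_contra hu
  haveI : CompactSpace U.left := QuasiCompact.compactSpace_of_compactSpace (U.hom ≫ π)
  obtain ⟨c, hc, hcl⟩ := IsClosed.exists_closed_singleton (isOpen_agree F s t).isClosed_compl ⟨u, hu⟩
  let C : Closeds U.left := ⟨{c}, hcl⟩
  let Y := (Scheme.IdealSheafData.vanishingIdeal C).subscheme
  let j : Y ⟶ U.left := (Scheme.IdealSheafData.vanishingIdeal C).subschemeι
  have hj : Set.range j = {c} := by
    rw [Scheme.IdealSheafData.range_subschemeι, Scheme.IdealSheafData.coe_support_vanishingIdeal]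
    rfl
  haveI : Subsingleton Y := ⟨fun y y' => j.isEmbedding.injective
    ((Set.mem_singleton_iff.1 (hj ▸ Set.mem_range_self y : j y ∈ ({c} : Set U.left))).trans
      (Set.mem_singleton_iff.1 (hj ▸ Set.mem_range_self y' : j y' ∈ ({c} : Set U.left))).symm)⟩
  haveI : Nonempty Y := ⟨(hj.ge (Set.mem_singleton c)).choose⟩
  haveI : ConnectedSpace Y := { toNonempty := inferInstance }
  obtain ⟨y, hy⟩ := (hCP Y (j ≫ U.hom ≫ π) inferInstance inferInstance).nonempty
  refine hc ?_
  have hyc : j y = c := Set.mem_singleton_iff.1 (hj ▸ Set.mem_range_self y : j y ∈ ({c} : Set U.left))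
  refine h c ?_
  rw [← hyc]
  exact hy

theorem exists_local_lift [IsClosedImmersion i] (G : EtDesc.Sh X)
    (σ : ((EtDesc.pullSh i).obj G).obj.obj (op ((EtCoh.bc i).obj (EtCoh.top X)))) (z : Z) :
    ∃ (W : X.Etale) (w : W.left) (t : G.obj.obj (op W)), W.hom w = i z ∧
      pullSect i G t = ((EtDesc.pullSh i).obj G).obj.map ((EtCoh.bc i).map (toTop W)).op σ := by
  let H := (EtDesc.pushSh i).obj ((EtDesc.pullSh i).obj G)
  let η : G ⟶ H := (EtDesc.adjSh i).unit.app G
  let ξ := geomPt z ≫ i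
  have hbase : ξ.base default = i z := geomPt_comp_base i z
  obtain ⟨x₀, -⟩ := exists_fiber_over (U := EtCoh.top X) (i z) ξ (by exact hbase)
  obtain ⟨p, hp⟩ := (bijective_stalk_unitSh (liftsEtaleUniv_of_isClosedImmersion i) G (geomPt z)).2
    (germ ξ H (EtCoh.top X) x₀ σ)
  obtain ⟨W₀, w₀, t₀, rfl⟩ := germ_surjective ξ G p
  replace hp := (germ_naturality ξ η W₀ w₀ t₀).symm.trans hp
  obtain ⟨W, a, b, w, -, hw⟩ := germ_eq_germ ξ H x₀ w₀ σ (η.hom.app (op W₀) t₀) hp
  refine ⟨W, ptOf w, G.obj.map a.op t₀, ?_, ?_⟩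
  · refine Eq.trans ?_ hbase
    exact (Scheme.pointSmallEtaleFiberObjToPreimage ξ rfl w).2
  · rw [pullSect_map, (EtCore.topIsTerminal X).hom_ext (toTop W) b]
    exact hw

end Groth.Agent.H18PBC
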