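import Groth.Agent.H18PBC.GabberBasic

/-!
# Gabber's criterion: auxiliary constructions on a finite cover
-/

set_option autoImplicit false
set_option linter.style.haveILetI false
set_option linter.unusedSectionVars false
set_option backward.isDefEq.respectTransparency false
set_option backward.isDefEq.respectTransparency.types false

universe u

open CategoryTheory CategoryTheory.Limits AlgebraicGeometry Opposite TopologicalSpace
open scoped Groth.Agent.H18Et

namespace Groth.Agent.H18PBC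

open H15Site.SetDescent H18Et

variable {Z X T : Scheme.{u}}

/-- Inclusion of opens in the étale site. -/
noncomputable abbrev openLE {O O' : T.Opens} (h : O ≤ O') : openEt O ⟶ openEt O' :=
  MorphismProperty.Over.homMk (T.homOfLE h) (T.homOfLE_ι h) trivial

theorem isConnected_preimage_inter_closure {i : Z ⟶ X} (hCP : CP i) (π : T ⟶ X) [IsFinite π] (x : T) :
    _root_.IsConnected (π ⁻¹' Set.range i ∩ closure {x}) := by
  let C : Closeds T := ⟨closure {x}, isClosed_closure⟩
  let Y := (Scheme.IdealSheafData.vanishingIdeal C).subscheme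
  let j : Y ⟶ T := (Scheme.IdealSheafData.vanishingIdeal C).subschemeι
  have hj : Set.range j = closure {x} := by
    rw [Scheme.IdealSheafData.range_subschemeι, Scheme.IdealSheafData.coe_support_vanishingIdeal]
    rfl
  have hY : ConnectedSpace Y := by
    have h' : _root_.IsConnected (closure {x} : Set T) := isIrreducible_singleton.closure.isConnected
    rw [← hj] at h'
    haveI : ConnectedSpace (Set.range j) := isConnected_iff_connectedSpace.1 h'
    exact j.isEmbedding.toHomeomorph.symm.surjective.connectedSpace j.isEmbedding.toHomeomorph.symm.continuous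
  haveI : IsFinite (j ≫ π) := inferInstance
  have h2 := (hCP Y (j ≫ π) inferInstance hY).image j j.continuous.continuousOn
  have e : j '' ((j ≫ π) ⁻¹' Set.range i) = π ⁻¹' Set.range i ∩ closure {x} := by
    rw [← hj, ← Set.image_preimage_eq_inter_range]
    rfl
  exact e ▸ h2

variable (G : EtDesc.Sh T)

/-- The locus over which two sections on opens agree étale locally. -/
def relSet {A B : T.Opens} (s : G.obj.obj (op (openEt A))) (t : G.obj.obj (op (openEt B))) : Set T :=
  {x | ∃ (V : T.Etale) (g₁ : V ⟶ openEt A) (g₂ : V ⟶ openEt B) (v : V.left),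
    V.hom v = x ∧ G.obj.map g₁.op s = G.obj.map g₂.op t}

variable {G}

theorem isOpen_relSet {A B : T.Opens} (s : G.obj.obj (op (openEt A))) (t : G.obj.obj (op (openEt B))) :
    IsOpen (relSet G s t) := isOpen_iff_forall_mem_open.2 (by
  rintro _ ⟨V, g₁, g₂, v, rfl, e⟩
  haveI : Etale V.hom := V.prop
  exact ⟨Set.range V.hom, fun _ ⟨v', hv'⟩ => ⟨V, g₁, g₂, v', hv', e⟩, V.hom.isOpenMap.isOpen_range, v, rfl⟩)

theorem relSet_symm {A B : T.Opens} {s : G.obj.obj (op (openEt A))} {t : G.obj.obj (op (openEt B))} {x : T}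
    (h : x ∈ relSet G s t) : x ∈ relSet G t s := by
  obtain ⟨V, g₁, g₂, v, hv, e⟩ := h
  exact ⟨V, g₂, g₁, v, hv, e.symm⟩

theorem relSet_trans {A B C : T.Opens} {r : G.obj.obj (op (openEt A))} {s : G.obj.obj (op (openEt B))}
    {t : G.obj.obj (op (openEt C))} {x : T} (h : x ∈ relSet G r s) (h' : x ∈ relSet G s t) : x ∈ relSet G r t := by
  obtain ⟨V, g₁, g₂, v, rfl, e⟩ := h
  obtain ⟨V', g₁', g₂', v', hv', e'⟩ := h'
  haveI : Etale V.hom := V.prop
  haveI : Etale V'.hom := V'.prop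
  obtain ⟨q, hq, -⟩ := Scheme.Pullback.exists_preimage_pullback (f := V.hom) (g := V'.hom) v v' hv'.symm
  let Q : T.Etale := Scheme.Etale.mk (pullback.fst V.hom V'.hom ≫ V.hom)
  let q₁ : Q ⟶ V := MorphismProperty.Over.homMk (pullback.fst V.hom V'.hom) rfl trivial
  let q₂ : Q ⟶ V' := MorphismProperty.Over.homMk (pullback.snd V.hom V'.hom) pullback.condition.symm trivial
  refine ⟨Q, q₁ ≫ g₁, q₂ ≫ g₂', q, congrArg V.hom hq, ?_⟩
  rw [op_comp, Functor.map_comp_apply, e, ← Functor.map_comp_apply, ← op_comp,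
    Subsingleton.elim (q₁ ≫ g₂) (q₂ ≫ g₁'), op_comp, Functor.map_comp_apply, e', ← Functor.map_comp_apply,
    ← op_comp]

/-- Restrictions of related sections agree. -/
theorem agree_of_relSet {A B : T.Opens} {s : G.obj.obj (op (openEt A))} {t : G.obj.obj (op (openEt B))}
    {Q : T.Etale} (f₁ : Q ⟶ openEt A) (f₂ : Q ⟶ openEt B) (u : Q.left) (h : Q.hom u ∈ relSet G s t) :
    u ∈ agree G (G.obj.map f₁.op s) (G.obj.map f₂.op t) := by
  obtain ⟨V, g₁, g₂, v, hv, e⟩ := h
  haveI : Etale Q.hom := Q.prop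
  haveI : Etale V.hom := V.prop
  obtain ⟨q, hq, -⟩ := Scheme.Pullback.exists_preimage_pullback (f := Q.hom) (g := V.hom) u v hv.symm
  let P : T.Etale := Scheme.Etale.mk (pullback.fst Q.hom V.hom ≫ Q.hom)
  let p₁ : P ⟶ Q := MorphismProperty.Over.homMk (pullback.fst Q.hom V.hom) rfl trivial
  let p₂ : P ⟶ V := MorphismProperty.Over.homMk (pullback.snd Q.hom V.hom) pullback.condition.symm trivial
  refine ⟨P, p₁, q, hq, ?_⟩
  rw [← Functor.map_comp_apply, ← Functor.map_comp_apply, ← op_comp, ← op_comp,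
    Subsingleton.elim (p₁ ≫ f₁) (p₂ ≫ g₁), Subsingleton.elim (p₁ ≫ f₂) (p₂ ≫ g₂),
    op_comp, op_comp, Functor.map_comp_apply, Functor.map_comp_apply, e]

theorem relSet_map {A B A' B' : T.Opens} (la : A' ≤ A) (lb : B' ≤ B) {s : G.obj.obj (op (openEt A))}
    {t : G.obj.obj (op (openEt B))} {x : T} (hxa : x ∈ A') (hxb : x ∈ B') (h : x ∈ relSet G s t) :
    x ∈ relSet G (G.obj.map (openLE la).op s) (G.obj.map (openLE lb).op t) := by
  let C : T.Opens := A' ⊓ B'
  have la' : C ≤ A' := inf_le_left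
  have lb' : C ≤ B' := inf_le_right
  obtain ⟨P, g, p, hp, e⟩ := agree_of_relSet (openLE (la'.trans la)) (openLE (lb'.trans lb)) (Q := openEt C)
    ⟨x, hxa, hxb⟩ h
  refine ⟨P, g ≫ openLE la', g ≫ openLE lb', p,
    (congrArg (fun q : P.left ⟶ T => q p) (Over.w g.hom).symm).trans (congrArg C.ι hp), ?_⟩
  rw [← Functor.map_comp_apply, ← Functor.map_comp_apply] at e
  rw [← Functor.map_comp_apply, ← Functor.map_comp_apply, ← op_comp, ← op_comp,
    Subsingleton.elim ((g ≫ openLE la') ≫ openLE la) (g ≫ openLE (la'.trans la)),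
    Subsingleton.elim ((g ≫ openLE lb') ≫ openLE lb) (g ≫ openLE (lb'.trans lb))]
  exact e

theorem exists_glue {U₀ : T.Etale} (hU₀ : IsTerminal U₀) [IsIso U₀.hom] {ι : Type u} (O : ι → T.Opens)
    (hcov : ∀ x : T, ∃ a, x ∈ O a) (sf : ∀ a, G.obj.obj (op (openEt (O a))))
    (hrel : ∀ a b x, x ∈ O a → x ∈ O b → x ∈ relSet G (sf a) (sf b)) :
    ∃ s : G.obj.obj (op U₀), ∀ a, G.obj.map (hU₀.from (openEt (O a))).op s = sf a := by
  let gO : ∀ a, openEt (O a) ⟶ U₀ := fun a => hU₀.from _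
  have hcovU : Sieve.ofArrows (fun a => openEt (O a)) gO ∈ T.smallEtaleTopology U₀ := by
    refine mem_topology_of_forall_point _ fun u => ?_
    obtain ⟨a, hxa⟩ := hcov (U₀.hom u)
    refine ⟨_, gO a, ⟨U₀.hom u, hxa⟩, Sieve.ofArrows_mk _ _ _, U₀.hom.homeomorph.injective ?_⟩
    show U₀.hom ((gO a).left ⟨U₀.hom u, hxa⟩) = U₀.hom u
    exact congrArg (fun q : (O a : Scheme.{u}) ⟶ T => q ⟨U₀.hom u, hxa⟩) (Over.w (gO a).hom)
  have hsheaf : Presieve.IsSheafFor G.obj (Presieve.ofArrows (fun a => openEt (O a)) gO) :=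
    (Presieve.isSheafFor_iff_generate _).2 ((isSheaf_iff_isSheaf_of_type _ _).1 G.property _ hcovU)
  obtain ⟨s, hs, -⟩ := (Presieve.isSheafFor_arrows_iff _ _).1 hsheaf sf fun a c Q f₁ f₂ _ => by
    refine eq_of_agree_eq_univ _ _ _ fun u => agree_of_relSet f₁ f₂ u (hrel a c _ ?_ ?_)
    · exact (congrArg (fun q : Q.left ⟶ T => q u) (Over.w f₁.hom)) ▸ (f₁.left u).2
    · exact (congrArg (fun q : Q.left ⟶ T => q u) (Over.w f₂.hom)) ▸ (f₂.left u).2
  exact ⟨s, hs⟩

end Groth.Agent.H18PBC
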