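import Groth.Agent.H18Et.GalExact
import Groth.Agent.H18Et.FEtFibre
import Groth.Agent.H18Et.FEtRestrictApps
import Groth.Agent.H18Et.FEtSepLevel
import Groth.Agent.H18Et.TopInvariance

/-!
# Connected covers with a section over the algebraic closure come from the base field
-/

set_option autoImplicit false
set_option linter.style.haveILetI false
set_option backward.isDefEq.respectTransparency false

universe u v w

open CategoryTheory CategoryTheory.Limits AlgebraicGeometry CategoryTheory.PreGaloisCategory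

open scoped FintypeCatDiscrete

namespace Groth.Agent.H18PBC.SectionExact

open H18Et

/-- With surjective map of fundamental groups, a quotient of an inflated object is inflated. -/
theorem exists_iso_of_surjection {C C' : Type u} [Category.{v} C] [Category.{v} C'] [GaloisCategory C]
    [GaloisCategory C'] (H : C ⥤ C') (F' : C' ⥤ FintypeCat.{w}) [FiberFunctor F'] [FiberFunctor (H ⋙ F')]
    (hs : Function.Surjective (Pi1X.autWhisker H F')) {V : C} {U : C'} (q : H.obj V ⟶ U)
    (hq : Function.Surjective (F'.map q)) : ∃ U₀ : C, Nonempty (H.obj U₀ ≅ U) := by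
  classical
  have key : ∀ (τ : Aut F') (v : (H ⋙ F').obj V),
      τ • (F'.map q v) = F'.map q ((Pi1X.autWhisker H F' τ) • v) := fun τ v => GalExact.smul_map F' τ q v
  let r : F'.obj U → (H ⋙ F').obj V := Function.surjInv hq
  have hr : ∀ t, F'.map q (r t) = t := Function.surjInv_eq hq
  letI act : MulAction (Aut (H ⋙ F')) (F'.obj U) :=
    { smul := fun σ t => F'.map q (σ • r t)
      one_smul := fun t => by
        show F'.map q ((1 : Aut (H ⋙ F')) • r t) = t
        rw [one_smul]
        exact hr t
      mul_smul := fun σ σ' t => by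
        show F'.map q ((σ * σ') • r t) = F'.map q (σ • r (F'.map q (σ' • r t)))
        obtain ⟨τ, rfl⟩ := hs σ
        refine Eq.trans ?_ (key τ _)
        rw [hr]
        refine Eq.trans ?_ (key τ _).symm
        rw [mul_smul] }
  have hact : ∀ (σ : Aut (H ⋙ F')) (v : (H ⋙ F').obj V), σ • (F'.map q v) = F'.map q (σ • v) := by
    intro σ v
    obtain ⟨τ, rfl⟩ := hs σ
    show F'.map q (Pi1X.autWhisker H F' τ • r (F'.map q v)) = _
    refine (key τ _).symm.trans (Eq.trans ?_ (key τ v))
    exact congrArg (τ • ·) (hr _)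
  obtain ⟨U₀, φ, hb, hφ⟩ := GalExact.exists_lift (H ⋙ F') (F'.obj U) fun t => by
    refine Subgroup.isOpen_mono (H₁ := MulAction.stabilizer (Aut (H ⋙ F')) (r t)) (fun σ hσ => ?_)
      (stabilizer_isOpen (Aut (H ⋙ F')) (r t))
    rw [MulAction.mem_stabilizer_iff] at hσ ⊢
    rw [← hr t, hact, hσ]
  obtain ⟨e, -⟩ := GalExact.exists_iso F' (X := H.obj U₀) (Y := U) φ hb fun τ x => by
    refine (hφ (Pi1X.autWhisker H F' τ) x).trans ?_
    show F'.map q (Pi1X.autWhisker H F' τ • r (φ x)) = τ • φ x
    exact (key τ _).symm.trans (congrArg (τ • ·) (hr _))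
  exact ⟨U₀, ⟨e⟩⟩

/-- A connected scheme gives a connected object. -/
theorem isConnected_of_connectedSpace {X : Scheme.{u}} (U : FEt.Cat X) [ConnectedSpace U.left]
    (F : FEt.Cat X ⥤ FintypeCat.{u}) [FiberFunctor F] (hU : Nonempty (F.obj U))
    (hF : ∀ Z : FEt.Cat X, IsEmpty Z.left → IsEmpty (F.obj Z)) : IsConnected U where
  notInitial hI := by
    obtain ⟨x⟩ := hU
    exact not_initial_of_inhabited F x hI
  noTrivialComponent Z i _ hZ := by
    haveI := FEtGalois.mono_left i
    obtain ⟨h1, h2⟩ := FEtGalois.isFinite_etale_left i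
    have hopen : IsOpenImmersion i.left := IsOpenImmersion.of_flat_of_mono i.left
    have hne : (Set.range i.left).Nonempty := by
      by_contra hcon
      haveI : IsEmpty Z.left := ⟨fun z => hcon ⟨_, z, rfl⟩⟩
      exact hZ ((initial_iff_fiber_empty F Z).2 (hF Z inferInstance)).some
    have hsurj := (FEtGalois.isClopen_range i).eq_univ hne
    haveI : IsIso i.left := by
      rw [isIso_iff_isOpenImmersion_and_surjective]
      exact ⟨hopen, ⟨Set.range_eq_univ.mp hsurj⟩⟩
    haveI : IsIso ((MorphismProperty.Over.forget FEt.prop ⊤ X ⋙ Over.forget X).map i) := ‹IsIso i.left›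
    exact isIso_of_reflects_iso i (MorphismProperty.Over.forget FEt.prop ⊤ X ⋙ Over.forget X)

/-- A connected cover with a section over the algebraic closure comes from the base field. -/
theorem exists_iso_of_section {k : Type u} [Field k] {X : Scheme.{u}} (f : X ⟶ Spec (CommRingCat.of k))
    [CompactSpace X] [QuasiSeparatedSpace X]
    [hconn : ConnectedSpace ↥(pullback f (Spec.map (CommRingCat.ofHom (algebraMap k (AlgebraicClosure k)))))]
    (U : FEt.Cat X) [ConnectedSpace U.left]
    (σ : pullback f (Spec.map (CommRingCat.ofHom (algebraMap k (AlgebraicClosure k)))) ⟶ U.left)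
    (hσ : σ ≫ U.hom = pullback.fst f _) :
    ∃ T : FEt.Cat (Spec (CommRingCat.of k)), Nonempty ((FEt.restrict f).obj T ≅ U) := by
  let d := pullback.fst f (Spec.map (CommRingCat.ofHom (algebraMap k (AlgebraicClosure k))))
  haveI : Surjective (Spec.map (CommRingCat.ofHom (algebraMap k (AlgebraicClosure k)))) :=
    ⟨fun x => ⟨(⟨⊥, Ideal.isPrime_bot⟩ : PrimeSpectrum (AlgebraicClosure k)),
      @Subsingleton.elim _ (inferInstanceAs (Subsingleton (PrimeSpectrum k))) _ x⟩⟩
  haveI : Surjective d := MorphismProperty.pullback_fst (P := @Surjective) _ _ inferInstance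
  haveI : ConnectedSpace X := d.surjective.connectedSpace d.continuous
  haveI : IsFinite U.hom := U.prop.1
  haveI : Etale U.hom := U.prop.2
  -- descend the section to a finite separable level
  obtain ⟨L, hL, τ₀, c, hτ₀, -, -, -⟩ := FEtFieldLimit.exists_finite_hom f U.hom σ hσ
  haveI := hL
  let t := FEtSepLevel.toSep (L := L) f
  let p := pullback.fst f (FEtSepLevel.sepMap k L)
  have htp : t ≫ p = pullback.fst f (Spec.map (CommRingCat.ofHom (algebraMap k L))) :=
    FEtSepLevel.toSep_fst f
  obtain ⟨s, hs, -⟩ := TopInv.exists_section (pullback.snd U.hom p) t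
    (pullback.lift τ₀ t (by rw [hτ₀, htp])) (pullback.lift_snd _ _ _)
  let V : FEt.Cat (Spec (CommRingCat.of k)) := MorphismProperty.Over.mk ⊤ (FEtSepLevel.sepMap k L)
    ⟨inferInstance, inferInstance⟩
  let q : (FEt.restrict f).obj V ⟶ U := MorphismProperty.Over.homMk
    ((pullbackSymmetry (FEtSepLevel.sepMap k L) f).hom ≫ s ≫ pullback.fst U.hom p) (by
      show ((pullbackSymmetry (FEtSepLevel.sepMap k L) f).hom ≫ s ≫ pullback.fst U.hom p) ≫ U.hom =
        pullback.snd (FEtSepLevel.sepMap k L) f
      rw [Category.assoc, Category.assoc, pullback.condition, reassoc_of% hs]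
      exact pullbackSymmetry_hom_comp_fst _ _) trivial
  -- Galois categories
  obtain ⟨x⟩ := (inferInstance : Nonempty X)
  let Ω := AlgebraicClosure (X.residueField x)
  let ξ : Spec (CommRingCat.of Ω) ⟶ X :=
    Spec.map (CommRingCat.ofHom (algebraMap (X.residueField x) Ω)) ≫ X.fromSpecResidueField x
  haveI : ConnectedSpace ↥(Spec (CommRingCat.of k)) :=
    { toPreconnectedSpace := inferInstance, toNonempty := inferInstance }
  letI := FEtFibre.galoisCategory ξ
  letI := FEtFibre.galoisCategory (ξ ≫ f)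
  haveI := FEtGalois.fiberFunctor ξ
  haveI := FEtGlobal.preservesFiniteLimits_restrict f
  haveI := FEtGlobal.preservesFiniteColimits_restrict f
  haveI := GalExact.exists_fiberFunctor_comp (FEt.restrict f) (FEtGalois.fibF ξ)
  haveI : Nonempty X := ⟨x⟩
  haveI hfull : (FEt.restrict f).Full := FEtRestrict.full f (FEtRestrictApps.meetsClopens_over_field f)
    (FEtRestrictApps.clopensDescend_over_field f)
  -- points of `V`
  obtain ⟨φ, hφ⟩ : ∃ φ : CommRingCat.of k ⟶ CommRingCat.of Ω, Spec.map φ = ξ ≫ f :=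
    ⟨Spec.preimage (ξ ≫ f), Spec.map_preimage _⟩
  letI : Algebra k Ω := φ.hom.toAlgebra
  let ψ : (separableClosure k L) →ₐ[k] Ω := IsAlgClosed.lift
  have hψ : Spec.map (CommRingCat.ofHom ψ.toRingHom) ≫ FEtSepLevel.sepMap k L = ξ ≫ f := by
    rw [← hφ, ← Spec.map_comp]
    exact congrArg Spec.map (CommRingCat.hom_ext (RingHom.ext fun z => ψ.commutes z))
  let pt : FEt.fiberObj ξ ((FEt.restrict f).obj V) :=
    ⟨pullback.lift (Spec.map (CommRingCat.ofHom ψ.toRingHom)) ξ hψ, pullback.lift_snd _ _ _⟩
  haveI : Nonempty ((FEtGalois.fibF ξ).obj ((FEt.restrict f).obj V)) := ⟨pt⟩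
  haveI : IsConnected U := isConnected_of_connectedSpace U (FEtGalois.fibF ξ)
    ⟨(FEtGalois.fibF ξ).map q pt⟩ fun Z hZ => ⟨fun s => hZ.false ((show FEt.fiberObj ξ Z from s).1 default)⟩
  exact exists_iso_of_surjection (FEt.restrict f) (FEtGalois.fibF ξ)
    (GalExact.surjective_of_full (FEt.restrict f) (FEtGalois.fibF ξ)) q
    (surjective_of_nonempty_fiber_of_isConnected (FEtGalois.fibF ξ) q)

end Groth.Agent.H18PBC.SectionExact
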