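import Groth.Agent.H18PBC.PairEquiv
import Groth.Agent.H18PBC.SectionExact
import Groth.Agent.H18Et.FEtRestrictApps
import Groth.Agent.S0239
import Groth.Agent.S0269

/-!
# Finite étale covers over a henselian local base and of the geometric closed fibre
-/

set_option autoImplicit false
set_option linter.style.haveILetI false
set_option backward.isDefEq.respectTransparency false

universe u

open CategoryTheory CategoryTheory.Limits AlgebraicGeometry

namespace Groth.Agent.H18PBC.GeomFibre

open H18Et H18Et.FEtLimit

variable {A : Type u} [CommRing A] (I : Ideal A) [HenselianRing A I] {k : Type u} [Field k]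
  {X : Scheme.{u}} (f : X ⟶ Spec (CommRingCat.of A)) [IsProper f]

theorem geomFibre_iso {A k K : Type u} [CommRing A] [CommRing k] [CommRing K] (π : A →+* k) (ι : k →+* K)
    {X : Scheme.{u}} (f : X ⟶ Spec (CommRingCat.of A)) (ξ : Spec (CommRingCat.of K) ⟶ Spec (CommRingCat.of A))
    (hξ : ξ = Spec.map (CommRingCat.ofHom (ι.comp π))) :
    IsPullback (pullback.fst (pullback.snd f (Spec.map (CommRingCat.ofHom π))) (Spec.map (CommRingCat.ofHom ι)) ≫
        pullback.fst f (Spec.map (CommRingCat.ofHom π)))
      (pullback.snd (pullback.snd f (Spec.map (CommRingCat.ofHom π))) (Spec.map (CommRingCat.ofHom ι))) f ξ := by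
  have h := (IsPullback.of_hasPullback (pullback.snd f (Spec.map (CommRingCat.ofHom π)))
    (Spec.map (CommRingCat.ofHom ι))).paste_horiz (IsPullback.of_hasPullback f (Spec.map (CommRingCat.ofHom π)))
  rw [Approx.specMap_comp_ofHom] at h
  exact hξ ▸ h

variable [IsLocalRing A] [HenselianRing A (IsLocalRing.maximalIdeal A)]
  (ξ : Spec (CommRingCat.of (AlgebraicClosure (IsLocalRing.ResidueField A))) ⟶ Spec (CommRingCat.of A))
  (hξ : ξ = Spec.map (CommRingCat.ofHom ((algebraMap (IsLocalRing.ResidueField A)
    (AlgebraicClosure (IsLocalRing.ResidueField A))).comp (IsLocalRing.residue A))))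

local notation "κ₀" => IsLocalRing.ResidueField A
local notation "rA" => Spec.map (CommRingCat.ofHom (IsLocalRing.residue A))
local notation "η₀" => Spec.map (CommRingCat.ofHom (algebraMap κ₀ (AlgebraicClosure κ₀)))

omit [HenselianRing A I] in
theorem isEquivalence_closed : (FEt.restrict (pullback.fst f rA)).IsEquivalence :=
  PairEquiv.isEquivalence (IsLocalRing.maximalIdeal A) f

include hξ in
omit [HenselianRing A I] [IsProper f] in
theorem connectedSpace_geom [hc : ConnectedSpace ↥(pullback f ξ)] :
    ConnectedSpace ↥(pullback (pullback.snd f rA) η₀) :=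
  (geomFibre_iso _ _ f ξ hξ).isoPullback.inv.homeomorph.surjective.connectedSpace
    (geomFibre_iso _ _ f ξ hξ).isoPullback.inv.continuous

omit [HenselianRing A I] in
include hξ in
/-- Every cover of the geometric closed fibre is open-closed in a restricted cover. -/
theorem exists_openClosed [ConnectedSpace ↥(pullback f ξ)] (V : FEt.Cat (pullback f ξ)) :
    ∃ (U : FEt.Cat X) (ι : V ⟶ (FEt.restrict (pullback.fst f ξ)).obj U),
      IsOpenImmersion ι.left ∧ IsClosedImmersion ι.left := by
  haveI := connectedSpace_geom f ξ hξ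
  haveI := isEquivalence_closed f
  haveI : IsProper (pullback.snd f rA) := MorphismProperty.pullback_snd _ _ inferInstance
  haveI : CompactSpace ↥(pullback f rA) := QuasiCompact.compactSpace_of_compactSpace (pullback.snd f rA)
  haveI : QuasiSeparatedSpace ↥(pullback f rA) := quasiSeparatedSpace_of_quasiSeparated (pullback.snd f rA)
  let h := geomFibre_iso (IsLocalRing.residue A) (algebraMap κ₀ (AlgebraicClosure κ₀)) f ξ hξ
  let e := h.isoPullback
  obtain ⟨Uk, ι, ho, hc⟩ := Groth.Agent.S0269.result κ₀ (pullback.snd f rA) ((FEt.restrict e.hom).obj V)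
  let U := (FEt.restrict (pullback.fst f rA)).objPreimage Uk
  let m := (FEt.restrict e.inv).map ι
  let a : V ≅ (FEt.restrict e.inv).obj ((FEt.restrict e.hom).obj V) :=
    (Approx.restrictInvIso e.inv_hom_id V).symm
  let b : (FEt.restrict e.inv).obj ((FEt.restrict (pullback.fst (pullback.snd f rA) η₀)).obj Uk) ≅
      (FEt.restrict (pullback.fst f ξ)).obj U :=
    (FEt.restrict e.inv).mapIso ((FEt.restrict _).mapIso
      ((FEt.restrict (pullback.fst f rA)).objObjPreimageIso Uk).symm ≪≫ restrictCompIso _ _ _ rfl U) ≪≫
      restrictCompIso _ _ _ h.isoPullback_inv_fst U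
  haveI : IsIso a.hom.left := (MorphismProperty.Over.forget FEt.prop ⊤ _ ⋙ Over.forget _).map_isIso a.hom
  haveI : IsIso b.hom.left := (MorphismProperty.Over.forget FEt.prop ⊤ _ ⋙ Over.forget _).map_isIso b.hom
  have hm1 : IsOpenImmersion m.left :=
    MorphismProperty.of_isPullback (FEtRestrict.isPullback_map e.inv ι) ho
  have hm2 : IsClosedImmersion m.left :=
    MorphismProperty.of_isPullback (FEtRestrict.isPullback_map e.inv ι) hc
  refine ⟨U, a.hom ≫ m ≫ b.hom, ?_, ?_⟩
  · exact MorphismProperty.comp_mem @IsOpenImmersion a.hom.left (m.left ≫ b.hom.left) inferInstance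
      (MorphismProperty.comp_mem @IsOpenImmersion m.left b.hom.left hm1 inferInstance)
  · exact MorphismProperty.comp_mem @IsClosedImmersion a.hom.left (m.left ≫ b.hom.left) inferInstance
      (MorphismProperty.comp_mem @IsClosedImmersion m.left b.hom.left hm2 inferInstance)

omit [HenselianRing A I] in
include hξ in
/-- Connected geometric closed fibre: pulling back covers from the base is fully faithful. -/
theorem fullyFaithful [ConnectedSpace ↥(pullback f ξ)] :
    (FEt.restrict f).Full ∧ (FEt.restrict f).Faithful := by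
  haveI := connectedSpace_geom f ξ hξ
  haveI := isEquivalence_closed f
  haveI : (FEt.restrict rA).IsEquivalence := Groth.Agent.S0239.result A (IsLocalRing.maximalIdeal A)
  let fk := pullback.snd f rA
  haveI : Nonempty ↥(pullback f rA) :=
    Nonempty.map (pullback.fst fk η₀) inferInstance
  haveI := FEtRestrict.faithful fk (FEtRestrictApps.meetsClopens_over_field fk)
  haveI := FEtRestrict.full fk (FEtRestrictApps.meetsClopens_over_field fk)
    (FEtRestrictApps.clopensDescend_over_field fk)
  let e : FEt.restrict rA ⋙ FEt.restrict fk ≅ FEt.restrict f ⋙ FEt.restrict (pullback.fst f rA) :=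
    (MorphismProperty.Over.pullbackComp (P := FEt.prop.{u}) (Q := ⊤) fk rA).symm ≪≫
      MorphismProperty.Over.pullbackCongr pullback.condition.symm ≪≫
      MorphismProperty.Over.pullbackComp (P := FEt.prop.{u}) (Q := ⊤) (pullback.fst f rA) f
  haveI : (FEt.restrict f ⋙ FEt.restrict (pullback.fst f rA)).Full := Functor.Full.of_iso e
  haveI : (FEt.restrict f ⋙ FEt.restrict (pullback.fst f rA)).Faithful := Functor.Faithful.of_iso e
  exact ⟨Functor.Full.of_comp_faithful (FEt.restrict f) (FEt.restrict (pullback.fst f rA)),
    Functor.Faithful.of_comp (FEt.restrict f) (FEt.restrict (pullback.fst f rA))⟩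

omit [HenselianRing A I] in
include hξ in
/-- A connected cover with a section over the geometric closed fibre comes from the base. -/
theorem exists_iso_of_section [ConnectedSpace ↥(pullback f ξ)] (X' : FEt.Cat X) [ConnectedSpace X'.left]
    (σ : pullback f ξ ⟶ X'.left) (hσ : σ ≫ X'.hom = pullback.fst f ξ) :
    ∃ T : FEt.Cat (Spec (CommRingCat.of A)), Nonempty ((FEt.restrict f).obj T ≅ X') := by
  haveI := connectedSpace_geom f ξ hξ
  haveI := isEquivalence_closed f
  haveI : (FEt.restrict rA).IsEquivalence := Groth.Agent.S0239.result A (IsLocalRing.maximalIdeal A)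
  haveI : IsFinite X'.hom := X'.prop.1
  haveI : IsProper (pullback.snd f rA) := MorphismProperty.pullback_snd _ _ inferInstance
  haveI : CompactSpace ↥(pullback f rA) := QuasiCompact.compactSpace_of_compactSpace (pullback.snd f rA)
  haveI : QuasiSeparatedSpace ↥(pullback f rA) := quasiSeparatedSpace_of_quasiSeparated (pullback.snd f rA)
  let fk := pullback.snd f rA
  let U := (FEt.restrict (pullback.fst f rA)).obj X'
  haveI : ConnectedSpace U.left := by
    haveI : ConnectedSpace ↥(pullback (X'.hom ≫ f) rA) :=
      (H9Hens.ProperPairApps.connectedSpace_iff (pullback.fst (X'.hom ≫ f) rA).continuous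
        (H9Hens.ProperPairApps.uniqueLift_fibre (IsLocalRing.maximalIdeal A) (X'.hom ≫ f))).1 ‹ConnectedSpace ↥X'.left›
    let i := (pullbackRightPullbackFstIso f rA X'.hom).inv
    show ConnectedSpace ↥(pullback X'.hom (pullback.fst f rA))
    exact i.homeomorph.surjective.connectedSpace i.continuous
  let h := geomFibre_iso (IsLocalRing.residue A) (algebraMap κ₀ (AlgebraicClosure κ₀)) f ξ hξ
  obtain ⟨T₀, ⟨e₀⟩⟩ := SectionExact.exists_iso_of_section fk U
    (pullback.lift (h.isoPullback.hom ≫ σ) (pullback.fst fk η₀)
      (by rw [Category.assoc, hσ, h.isoPullback_hom_fst]))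
    (pullback.lift_snd _ _ _)
  refine ⟨(FEt.restrict rA).objPreimage T₀, ⟨(FEt.restrict (pullback.fst f rA)).preimageIso ?_⟩⟩
  exact Approx.restrictEqIso pullback.condition _ ≪≫
    (FEt.restrict fk).mapIso ((FEt.restrict rA).objObjPreimageIso T₀) ≪≫ e₀

end Groth.Agent.H18PBC.GeomFibre
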