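import Groth.Agent.H21Weil.HomScheme
import Groth.Agent.H06Unram.EtaleLift
import Groth.Agent.H13AlgSp.DegreeStrata
import Groth.Agent.H13AlgSp.GeomFinrank
import Groth.Agent.H8Props.FormallyEtale
import Groth.Agent.H18Et.FEtGalois

/-!
# The internal Hom of finite étale covers
-/

set_option autoImplicit false
set_option linter.style.haveILetI false
set_option backward.isDefEq.respectTransparency false

noncomputable section

universe u

open CategoryTheory CategoryTheory.Limits MonoidalCategory CartesianMonoidalCategory AlgebraicGeometry TopologicalSpace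

namespace Groth.Agent.H18PBC.InternalHom

open H7Weight

variable {X : Scheme.{u}} (U V : FEt.Cat X)

/-- The base of `U` as an object of `Over X`. -/
abbrev ov (U : FEt.Cat X) : Over X := Over.mk (U.hom : U.left ⟶ X)

/-- Morphisms of base changes are morphisms over `X`. -/
def homBcEquiv (T : Over X) :
    ((FEt.restrict T.hom).obj U ⟶ (FEt.restrict T.hom).obj V) ≃ (ov U ⊗ T ⟶ ov V) where
  toFun φ := Over.homMk (φ.left ≫ pullback.fst V.hom T.hom) (by
    have h : φ.left ≫ pullback.snd V.hom T.hom = pullback.snd U.hom T.hom := Over.w φ.hom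
    show (φ.left ≫ pullback.fst V.hom T.hom) ≫ V.hom = pullback.fst U.hom T.hom ≫ U.hom
    rw [Category.assoc, pullback.condition, reassoc_of% h, pullback.condition])
  invFun ψ := MorphismProperty.Over.homMk (pullback.lift ψ.left (pullback.snd U.hom T.hom) (by
      rw [← pullback.condition]
      exact Over.w ψ))
    (pullback.lift_snd _ _ _) trivial
  left_inv φ := by
    ext1
    exact pullback.hom_ext (pullback.lift_fst _ _ _) ((pullback.lift_snd _ _ _).trans (Over.w φ.hom).symm)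
  right_inv ψ := Over.OverMorphism.ext (pullback.lift_fst _ _ _)

variable {M : Over X} (ev : ov U ⊗ M ⟶ ov V)

/-- The representing bijection. -/
def pointsEquiv (huniv : ∀ (T : Over X) (φ : ov U ⊗ T ⟶ ov V), ∃! v : T ⟶ M, (ov U ◁ v) ≫ ev = φ)
    {T : Scheme.{u}} (g : T ⟶ X) :
    {s : T ⟶ M.left // s ≫ M.hom = g} ≃ ((FEt.restrict g).obj U ⟶ (FEt.restrict g).obj V) :=
  ((⟨fun s => Over.homMk s.1 s.2, fun v => ⟨v.left, Over.w v⟩, fun _ => rfl, fun _ => rfl⟩ :
      {s : T ⟶ M.left // s ≫ M.hom = g} ≃ (Over.mk g ⟶ M)).trans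
    (Equiv.ofBijective (fun v => (ov U ◁ v) ≫ ev)
      (Function.bijective_iff_existsUnique _ |>.2 fun φ => huniv (Over.mk g) φ))).trans
    (homBcEquiv U V (Over.mk g)).symm

theorem isFormallyEtaleHom [IsFinite U.hom] [Etale V.hom]
    (huniv : ∀ (T : Over X) (φ : ov U ⊗ T ⟶ ov V), ∃! v : T ⟶ M, (ov U ◁ v) ≫ ev = φ) :
    MoreMor.IsFormallyEtaleHom M.hom := by
  intro A _ I hI a b hab
  let q := Spec.map (CommRingCat.ofHom (Ideal.Quotient.mk I))
  let T : Over X := Over.mk b
  let T₀ : Over X := Over.mk (q ≫ b)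
  let κ : T₀ ⟶ T := Over.homMk q rfl
  haveI : IsClosedImmersion q := IsClosedImmersion.spec_of_surjective _ Ideal.Quotient.mk_surjective
  haveI : Surjective q := ⟨fun p => by
    show p ∈ Set.range (PrimeSpectrum.comap (Ideal.Quotient.mk I))
    rw [range_comap_of_surjective _ _ Ideal.Quotient.mk_surjective, Ideal.mk_ker]
    intro x hx
    have := Ideal.pow_mem_pow hx 2
    rw [hI, Ideal.mem_bot] at this
    exact p.2.mem_of_pow_mem 2 (by simp [this])⟩
  let K := (ov U ◁ κ).left
  have hK1 : K ≫ pullback.fst U.hom b = pullback.fst U.hom (q ≫ b) :=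
    congrArg CommaMorphism.left (whiskerLeft_fst (ov U) κ)
  have hK2 : K ≫ pullback.snd U.hom b = pullback.snd U.hom (q ≫ b) ≫ q :=
    congrArg CommaMorphism.left (whiskerLeft_snd (ov U) κ)
  have hsq : IsPullback K (pullback.snd U.hom (q ≫ b)) (pullback.snd U.hom b) q := by
    refine IsPullback.of_right ?_ hK2 (IsPullback.of_hasPullback U.hom b)
    rw [hK1]
    exact IsPullback.of_hasPullback U.hom (q ≫ b)
  haveI : IsClosedImmersion K := MorphismProperty.of_isPullback (P := @IsClosedImmersion) hsq.flip ‹_›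
  haveI : Surjective K := MorphismProperty.of_isPullback (P := @Surjective) hsq.flip ‹_›
  let la : T₀ ⟶ M := Over.homMk a hab.symm
  let φ₀ : ov U ⊗ T₀ ⟶ ov V := (ov U ◁ la) ≫ ev
  obtain ⟨f, ⟨hf, hf₀⟩, hfu⟩ := H06Unram.existsUnique_lift V.hom (ov U ⊗ T).hom K φ₀.left
    ((Over.w φ₀).trans (Over.w (ov U ◁ κ)).symm)
  obtain ⟨v, hv, hvu⟩ := huniv T (Over.homMk f hf)
  have hκ : κ ≫ v = la := by
    obtain ⟨_, -, hu⟩ := huniv T₀ φ₀
    refine (hu _ ?_).trans (hu la rfl).symm
    show (ov U ◁ (κ ≫ v)) ≫ ev = φ₀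
    rw [whiskerLeft_comp, Category.assoc, hv]
    exact Over.OverMorphism.ext hf₀
  refine ⟨v.left, ⟨congrArg CommaMorphism.left hκ, Over.w v⟩, fun l hl => ?_⟩
  let v' : T ⟶ M := Over.homMk l hl.2
  have hκ' : κ ≫ v' = la := Over.OverMorphism.ext hl.1
  refine congrArg CommaMorphism.left (hvu v' (Over.OverMorphism.ext ?_) : v' = v)
  refine hfu _ ⟨Over.w ((ov U ◁ v') ≫ ev), ?_⟩
  refine congrArg CommaMorphism.left (?_ : (ov U ◁ κ) ≫ (ov U ◁ v') ≫ ev = φ₀)
  rw [← Category.assoc, ← whiskerLeft_comp, hκ']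

theorem card_pts [IsFinite U.hom]
    (huniv : ∀ (T : Over X) (φ : ov U ⊗ T ⟶ ov V), ∃! v : T ⟶ M, (ov U ◁ v) ≫ ev = φ)
    {Ω : Type u} [Field Ω] [IsAlgClosed Ω] (η : Spec (CommRingCat.of Ω) ⟶ X) :
    Finite (Pts M.hom η) ∧ Nat.card (Pts M.hom η) = Nat.card (Pts V.hom η) ^ Nat.card (Pts U.hom η) := by
  let F := H18Et.FEtGalois.fibF (𝟙 (Spec (CommRingCat.of Ω)))
  let h : (F.obj ((FEt.restrict η).obj U) ⟶ F.obj ((FEt.restrict η).obj V)) ≃
      (FEt.fiberObj (𝟙 (Spec (CommRingCat.of Ω))) ((FEt.restrict η).obj U) →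
        FEt.fiberObj (𝟙 (Spec (CommRingCat.of Ω))) ((FEt.restrict η).obj V)) :=
    { toFun := fun f x => f x
      invFun := fun g => FintypeCat.homMk g
      left_inv := fun f => rfl
      right_inv := fun g => rfl }
  let e : Pts M.hom η ≃ (FEt.fiberObj η U → FEt.fiberObj η V) :=
    (pointsEquiv U V ev huniv η).trans ((((Functor.FullyFaithful.ofFullyFaithful F).homEquiv).trans h).trans
      ((H18Et.FEtGalois.restrictPtsEquiv η U).arrowCongr (H18Et.FEtGalois.restrictPtsEquiv η V)))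
  haveI : Finite (FEt.fiberObj η U) := H18Et.FEtGalois.finite_fiberObj η U
  haveI : Finite (FEt.fiberObj η V) := H18Et.FEtGalois.finite_fiberObj η V
  exact ⟨Finite.of_equiv _ e.symm, (Nat.card_congr e).trans Nat.card_fun⟩

theorem exists_internalHom :
    ∃ W : FEt.Cat X, ∀ (T : Scheme.{u}) (g : T ⟶ X),
      Nonempty ({s : T ⟶ W.left // s ≫ W.hom = g} ≃ ((FEt.restrict g).obj U ⟶ (FEt.restrict g).obj V)) := by
  haveI : IsFinite U.hom := U.prop.1
  haveI : Etale U.hom := U.prop.2
  haveI : IsFinite V.hom := V.prop.1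
  haveI : Etale V.hom := V.prop.2
  haveI : IsFinite (ov U).hom := U.prop.1
  haveI : Flat (ov U).hom := inferInstanceAs (Flat U.hom)
  haveI : LocallyOfFinitePresentation (ov U).hom := inferInstanceAs (LocallyOfFinitePresentation U.hom)
  haveI : IsAffineHom (ov V).hom := inferInstanceAs (IsAffineHom V.hom)
  obtain ⟨M, ev, hM, -, hfp, huniv⟩ := H21Weil.exists_mapScheme (ov U) (ov V)
  haveI := hM
  haveI : LocallyOfFinitePresentation M.hom := hfp (inferInstanceAs (LocallyOfFinitePresentation V.hom))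
  haveI : Etale M.hom := by
    rw [HasRingHomProperty.iff_appLE (P := @Etale)]
    intro O W e
    letI := (M.hom.appLE O.1 W.1 e).hom.toAlgebra
    have h1 := (H8Props.FormallyEtale.isFormallyEtaleHom_iff M.hom).1 (isFormallyEtaleHom U V ev huniv) W.1 O.1 W.2 O.2 e
    have h2 : (M.hom.appLE O.1 W.1 e).hom.FinitePresentation := M.hom.finitePresentation_appLE O.2 W.2 e
    exact { formallyEtale := h1, finitePresentation := h2 }
  have hfinite : IsFinite M.hom := by
    refine (IsZariskiLocalAtTarget.iff_of_iSup_eq_top (P := @IsFinite)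
      (fun p : ℕ × ℕ => (⟨U.hom.finrank ⁻¹' {p.1} ∩ V.hom.finrank ⁻¹' {p.2},
        ((U.hom.isLocallyConstant_finrank).isOpen_fiber p.1).inter ((V.hom.isLocallyConstant_finrank).isOpen_fiber p.2)⟩ : Opens X))
      (eq_top_iff.2 fun x _ => Opens.mem_iSup.2 ⟨(U.hom.finrank x, V.hom.finrank x), rfl, rfl⟩)).2 fun p => ?_
    set O : X.Opens := ⟨U.hom.finrank ⁻¹' {p.1} ∩ V.hom.finrank ⁻¹' {p.2}, _⟩
    let f := M.hom ∣_ O
    have hpts : ∀ (Ω : Type u) [Field Ω] [IsAlgClosed Ω] (η : Spec (CommRingCat.of Ω) ⟶ O.toScheme),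
        Finite (Pts f η) ∧ Nat.card (Pts f η) = p.2 ^ p.1 := by
      intro Ω _ _ η
      obtain ⟨hfin, hcard⟩ := card_pts U V ev huniv (η ≫ O.ι)
      have e := ptsBaseChange (isPullback_morphismRestrict M.hom O).flip η
      haveI := hfin
      refine ⟨Finite.of_equiv _ e.symm, ?_⟩
      rw [Nat.card_congr e, hcard, ← H13AlgSp.Degree.finrank_eq_natCard_pts U.hom,
        ← H13AlgSp.Degree.finrank_eq_natCard_pts V.hom]
      obtain ⟨h1, h2⟩ := (pt η).2
      exact congrArg₂ (· ^ ·) h2 h1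
    have hfib : ∀ t : O.toScheme, (f ⁻¹' {t}).Finite := fun t => by
      obtain ⟨Ω, _, _, η, hη⟩ := exists_geomPt' t
      haveI := (hpts Ω η).1
      refine (Set.finite_range fun s : Pts f η => pt s.1).subset fun m hm => ?_
      exact exists_pts f η m (hη.symm ▸ hm)
    haveI : IsSeparated f := inferInstance
    refine H13AlgSp.Degree.isFinite_of_deg_const f hfib (p.2 ^ p.1) fun t => ?_
    haveI := H13AlgSp.Degree.isFinite_fiber f t (hfib t)
    haveI : Etale (f.fiberToSpecResidueField t) := MorphismProperty.pullback_snd (P := @Etale) f _ inferInstance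
    obtain ⟨Ω, _, _, η', hη'⟩ := exists_geomPt' (V := Spec (O.toScheme.residueField t)) (IsLocalRing.closedPoint _)
    show (f.fiberToSpecResidueField t).finrank _ = _
    rw [← hη', H13AlgSp.Degree.finrank_eq_natCard_pts, ← (hpts Ω (η' ≫ O.toScheme.fromSpecResidueField t)).2]
    exact Nat.card_congr (ptsBaseChange (IsPullback.of_hasPullback f (O.toScheme.fromSpecResidueField t)) η')
  exact ⟨MorphismProperty.Over.mk ⊤ M.hom ⟨hfinite, ‹Etale M.hom›⟩, fun T g => ⟨pointsEquiv U V ev huniv g⟩⟩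

end Groth.Agent.H18PBC.InternalHom
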