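import Groth.Agent.H18PBC.LimStage

/-!
# Local representatives of sections on a limit
-/

set_option autoImplicit false
set_option linter.style.haveILetI false
set_option linter.unusedSectionVars false
set_option backward.isDefEq.respectTransparency false
set_option backward.isDefEq.respectTransparency.types false

universe u

open CategoryTheory CategoryTheory.Limits AlgebraicGeometry Opposite TopologicalSpace
open scoped Groth.Agent.H18Et

namespace Groth.Agent.H18PBC.LimSec

open H15Site.SetDescent H18Et H7Lim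

variable {X : Scheme.{u}} {I : Type u} [SmallCategory I] {T : I ⥤ X.Etale} (c : Cone (sch T)) (g : c.pt ⟶ X)
  (hg : ∀ i, prj c i ≫ (T.obj i).hom = g)

include hg in
theorem emb_w {i : I} {U : X.Etale} (u : U ⟶ T.obj i) :
    pullback.fst u.left (prj c i) ≫ U.hom = pullback.snd u.left (prj c i) ≫ g :=
  (congrArg (pullback.fst u.left (prj c i) ≫ ·) (Over.w u.hom).symm).trans
    ((pullback.condition_assoc (T.obj i).hom).trans (congrArg (pullback.snd u.left (prj c i) ≫ ·) (hg i)))

/-- The limit part of an object over a member inside its base change. -/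
noncomputable def emb {i : I} {U : X.Etale} (u : U ⟶ T.obj i) :
    (pullback u.left (prj c i) : Scheme.{u}) ⟶ ((EtCoh.bc g).obj U).left :=
  pullback.lift (pullback.fst u.left (prj c i)) (pullback.snd u.left (prj c i)) (emb_w c g hg u)

theorem emb_fst {i : I} {U : X.Etale} (u : U ⟶ T.obj i) :
    emb c g hg u ≫ pullback.fst U.hom g = pullback.fst u.left (prj c i) := pullback.lift_fst _ _ _

/-- The canonical lift of the limit into the base change of a member. -/
noncomputable def iT (i : I) : (EtCoh.bc g).obj (EtCoh.top X) ⟶ (EtCoh.bc g).obj (T.obj i) :=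
  MorphismProperty.Over.homMk
    (pullback.lift (((EtCoh.bc g).obj (EtCoh.top X)).hom ≫ prj c i) ((EtCoh.bc g).obj (EtCoh.top X)).hom
      ((Category.assoc _ _ _).trans (congrArg (_ ≫ ·) (hg i))))
    (pullback.lift_snd _ _ _) trivial

variable (G : EtDesc.Sh X) (σ : ((EtDesc.pullSh g).obj G).obj.obj (op ((EtCoh.bc g).obj (EtCoh.top X))))

/-- The image in the limit of a section on a member. -/
noncomputable def phi (i : I) (s : G.obj.obj (op (T.obj i))) :
    ((EtDesc.pullSh g).obj G).obj.obj (op ((EtCoh.bc g).obj (EtCoh.top X))) :=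
  ((EtDesc.pullSh g).obj G).obj.map (iT c g hg i).op (pullSect g G s)

theorem phi_map {i k : I} (a : k ⟶ i) (s : G.obj.obj (op (T.obj i))) :
    phi c g hg G k (G.obj.map (T.map a).op s) = phi c g hg G i s := by
  rw [phi, phi, pullSect_map, ← Functor.map_comp_apply, ← op_comp]
  refine congrArg (fun m => ((EtDesc.pullSh g).obj G).obj.map (Quiver.Hom.op m) _) (bc_hom_ext ?_)
  refine (Category.assoc _ _ _).trans ((congrArg (_ ≫ ·) (bc_map_fst g (T.map a))).trans ?_)
  refine (Category.assoc _ _ _).symm.trans ((congrArg (· ≫ (T.map a).left) (pullback.lift_fst _ _ _)).trans ?_)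
  refine (Category.assoc _ _ _).trans ((congrArg (_ ≫ ·) (prj_w c a)).trans ?_)
  exact (pullback.lift_fst _ _ _).symm

/-- `r` represents `σ` on the limit part of `U`. -/
def Rep {i : I} {U : X.Etale} (u : U ⟶ T.obj i) (r : G.obj.obj (op U)) : Prop :=
  ∀ q : (pullback u.left (prj c i) : Scheme.{u}),
    emb c g hg u q ∈ agree _ (restTop g G σ U) (pullSect g G r)

theorem restTop_map {U U' : X.Etale} (m : U' ⟶ U) :
    ((EtDesc.pullSh g).obj G).obj.map ((EtCoh.bc g).map m).op (restTop g G σ U) = restTop g G σ U' := by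
  rw [← Functor.map_comp_apply, ← op_comp, ← Functor.map_comp,
    (EtCore.topIsTerminal X).hom_ext (m ≫ toTop U) (toTop U')]

theorem agree_emb_map {i k : I} (a : k ⟶ i) {U U' : X.Etale} (u : U ⟶ T.obj i) (u' : U' ⟶ T.obj k) (m : U' ⟶ U)
    (w : m ≫ u = u' ≫ T.map a) (r : G.obj.obj (op U)) (q : (pullback u'.left (prj c k) : Scheme.{u}))
    (q' : (pullback u.left (prj c i) : Scheme.{u}))
    (hq : pullback.map u'.left (prj c k) u.left (prj c i) m.left (𝟙 _) (T.map a).left
      ((congrArg (fun z => z.left) w).symm) ((prj_w c a).trans (Category.id_comp _).symm) q = q') :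
    emb c g hg u' q ∈ agree _ (restTop g G σ U') (pullSect g G (G.obj.map m.op r)) ↔
      emb c g hg u q' ∈ agree _ (restTop g G σ U) (pullSect g G r) := by
  rw [← restTop_map c g G σ m, pullSect_map, mem_agree_map, ← hq]
  refine iff_of_eq (congrArg (fun z => z ∈ agree _ (restTop g G σ U) (pullSect g G r)) ?_)
  refine congrArg (fun z : (pullback u'.left (prj c k) : Scheme.{u}) ⟶ ((EtCoh.bc g).obj U).left => z q)
    (show emb c g hg u' ≫ ((EtCoh.bc g).map m).left = _ ≫ emb c g hg u from pullback.hom_ext ?_ ?_)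
  · refine (Category.assoc _ _ _).trans ((congrArg (_ ≫ ·) (bc_map_fst g m)).trans ?_)
    refine (Category.assoc _ _ _).symm.trans ((congrArg (· ≫ m.left) (emb_fst c g hg u')).trans ?_)
    exact ((Category.assoc _ _ _).trans ((congrArg (_ ≫ ·) (emb_fst c g hg u)).trans (pullback.lift_fst _ _ _))).symm
  · refine (Category.assoc _ _ _).trans ((congrArg (_ ≫ ·) (Over.w ((EtCoh.bc g).map m).hom)).trans ?_)
    refine (pullback.lift_snd _ _ _).trans ?_
    exact ((Category.assoc _ _ _).trans ((congrArg (_ ≫ ·) (pullback.lift_snd _ _ _)).trans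
      ((pullback.lift_snd _ _ _).trans (Category.comp_id _)))).symm

theorem Rep.map {i k : I} (a : k ⟶ i) {U U' : X.Etale} {u : U ⟶ T.obj i} {u' : U' ⟶ T.obj k} (m : U' ⟶ U)
    (w : m ≫ u = u' ≫ T.map a) {r : G.obj.obj (op U)} (h : Rep c g hg G σ u r) :
    Rep c g hg G σ u' (G.obj.map m.op r) :=
  fun q => (agree_emb_map c g hg G σ a u u' m w r q _ rfl).2 (h _)

theorem Rep.fst_mem_agree {i : I} {U : X.Etale} {u : U ⟶ T.obj i} {r r' : G.obj.obj (op U)}
    (h : Rep c g hg G σ u r) (h' : Rep c g hg G σ u r') (q : (pullback u.left (prj c i) : Scheme.{u})) :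
    pullback.fst u.left (prj c i) q ∈ agree G r r' := by
  have h1 := agree_trans _ (agree_symm _ (h q)) (h' q)
  rw [mem_agree_pullSect] at h1
  exact Eq.mp (congrArg (fun z : U.left => z ∈ agree G r r')
    (congrArg (fun z : (pullback u.left (prj c i) : Scheme.{u}) ⟶ U.left => z q) (emb_fst c g hg u))) h1

variable [IsCofiltered I] (hc : IsLimit c) [∀ ⦃a b : I⦄ (f : a ⟶ b), IsAffineHom ((sch T).map f)]
  [∀ a, CompactSpace ((sch T).obj a)]

/-- A point of the limit as a point of the base change of the terminal object. -/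
noncomputable def topPt : c.pt ⟶ ((EtCoh.bc g).obj (EtCoh.top X)).left :=
  pullback.lift g (𝟙 _) ((Category.comp_id g).trans (Category.id_comp g).symm)

include hc in
/-- Sections of a member with equal images in the limit agree at a later stage. -/
theorem phi_inj (i : I) (s t : G.obj.obj (op (T.obj i))) (h : phi c g hg G i s = phi c g hg G i t) :
    ∃ (k : I) (a : k ⟶ i), G.obj.map (T.map a).op s = G.obj.map (T.map a).op t := by
  haveI : CompactSpace (T.obj i).left := inferInstanceAs (CompactSpace ((sch T).obj i))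
  obtain ⟨k, a, hk⟩ := eq_stage c hc G (𝟙 (T.obj i)) s t fun q => by
    let y : ((EtCoh.bc g).obj (EtCoh.top X)).left := topPt c g (pullback.snd (𝟙 (T.obj i) : _ ⟶ _).left (prj c i) q)
    have hy : y ∈ agree _ (phi c g hg G i s) (phi c g hg G i t) := h ▸ ⟨_, 𝟙 _, y, rfl, rfl⟩
    rw [phi, phi, mem_agree_map, mem_agree_pullSect] at hy
    refine Eq.mp (congrArg (fun z : (T.obj i).left => z ∈ agree G s t) ?_) hy
    have e1 : pullback.snd (𝟙 (T.obj i) : _ ⟶ _).left (prj c i) ≫ topPt c g ≫ (iT c g hg i).left ≫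
        pullback.fst (T.obj i).hom g = pullback.fst (𝟙 (T.obj i) : _ ⟶ _).left (prj c i) := by
      refine (congrArg (pullback.snd _ _ ≫ ·) ((congrArg (topPt c g ≫ ·) (pullback.lift_fst _ _ _)).trans
        ((Category.assoc _ _ _).symm.trans ((congrArg (· ≫ prj c i) (pullback.lift_snd _ _ _)).trans
          (Category.id_comp _))))).trans ?_
      exact pullback.condition.symm.trans (Category.comp_id _)
    exact congrArg (fun z : (pullback (𝟙 (T.obj i) : _ ⟶ _).left (prj c i) : Scheme.{u}) ⟶ (T.obj i).left => z q) e1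
  refine ⟨k, a, eq_later G (𝟙 (T.obj i)) a (𝟙 k) s t hk (T.map a) (𝟙 _) ?_⟩
  rw [Category.id_comp, Category.comp_id, Category.id_comp]

/-- The graph of the projection, as points of the limit part of a member. -/
theorem agree_phi_of_rep {i : I} {r : G.obj.obj (op (T.obj i))} (h : Rep c g hg G σ (𝟙 (T.obj i)) r) :
    phi c g hg G i r = σ := by
  refine eq_of_agree_eq_univ _ _ _ fun y => ?_
  have e : ((EtDesc.pullSh g).obj G).obj.map (iT c g hg i).op (restTop g G σ (T.obj i)) = σ := by
    rw [← Functor.map_comp_apply, ← op_comp, (EtCore.bcTopIsTerminal g).hom_ext (_ ≫ _) (𝟙 _), op_id,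
      CategoryTheory.Functor.map_id]
    rfl
  refine agree_symm _ ?_
  have k : y ∈ agree _ (((EtDesc.pullSh g).obj G).obj.map (iT c g hg i).op (restTop g G σ (T.obj i)))
      (phi c g hg G i r) := by
    rw [phi, mem_agree_map]
    let l := ((EtCoh.bc g).obj (EtCoh.top X)).hom
    let q : ((EtCoh.bc g).obj (EtCoh.top X)).left ⟶ pullback (𝟙 (T.obj i) : _ ⟶ _).left (prj c i) :=
      pullback.lift (l ≫ prj c i) l (Category.comp_id _)
    refine Eq.mp (congrArg (fun z : ((EtCoh.bc g).obj (T.obj i)).left => z ∈ agree _ (restTop g G σ (T.obj i))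
      (pullSect g G r)) ?_) (h (q y))
    refine congrArg (fun z : ((EtCoh.bc g).obj (EtCoh.top X)).left ⟶ ((EtCoh.bc g).obj (T.obj i)).left => z y)
      (show q ≫ emb c g hg (𝟙 (T.obj i)) = (iT c g hg i).left from pullback.hom_ext ?_ ?_)
    · refine (Category.assoc _ _ _).trans ((congrArg (_ ≫ ·) (emb_fst c g hg _)).trans ?_)
      exact (pullback.lift_fst _ _ _).trans (pullback.lift_fst _ _ _).symm
    · refine (Category.assoc _ _ _).trans ((congrArg (_ ≫ ·) (pullback.lift_snd _ _ _)).trans ?_)
      exact (pullback.lift_snd _ _ _).trans (pullback.lift_snd _ _ _).symm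
  rwa [e] at k

include hc in
/-- Near every point the section has a representative at some stage. -/
theorem exists_rep_at (l : c.pt) : ∃ (i : I) (U : X.Etale) (_ : IsAffine U.left) (u : U ⟶ T.obj i)
    (r : G.obj.obj (op U)), (∃ v : U.left, u.left v = prj c i l) ∧ Rep c g hg G σ u r ∧
      ∃ q : (pullback u.left (prj c i) : Scheme.{u}), pullback.snd u.left (prj c i) q = l := by
  haveI : ∀ (p r : I) (f : p ⟶ r), IsAffineHom ((sch T).map f) := fun p r f => inferInstance
  obtain ⟨i₀⟩ := (IsCofiltered.nonempty : Nonempty I)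
  let η := geomPt l
  obtain ⟨z, -⟩ := exists_fiber_over (U := EtCoh.top X) ((η ≫ g) default) (η ≫ g) rfl
  obtain ⟨W, gW, w, t, -, hw⟩ := exists_rep_near (f := g) G (EtCoh.top X) σ η z
  rw [show gW = toTop W from (EtCore.topIsTerminal X).hom_ext _ _] at hw
  haveI : Etale W.hom := W.prop
  haveI : Etale (T.obj i₀).hom := (T.obj i₀).prop
  let U₀ : X.Etale := Scheme.Etale.mk (pullback.snd W.hom (T.obj i₀).hom ≫ (T.obj i₀).hom)
  let u₀ : U₀ ⟶ T.obj i₀ := MorphismProperty.Over.homMk (pullback.snd W.hom (T.obj i₀).hom) rfl trivial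
  let m₀ : U₀ ⟶ W := MorphismProperty.Over.homMk (pullback.fst W.hom (T.obj i₀).hom) pullback.condition trivial
  let r₀ := G.obj.map m₀.op t
  let Cn := pbCone (sch T) c i₀ u₀.left
  let A : Set Cn.pt := (emb c g hg u₀).base ⁻¹' agree _ (restTop g G σ U₀) (pullSect g G r₀)
  let w₀ : Spec (CommRingCat.of _) ⟶ pullback W.hom g := ((fiberCompIso g η).inv.app W w).left
  have hw₀ : w₀ ≫ pullback.snd W.hom g = η := Over.w ((fiberCompIso g η).inv.app W w)
  let a₀ : Spec (CommRingCat.of _) ⟶ U₀.left :=
    pullback.lift (w₀ ≫ pullback.fst W.hom g) (η ≫ prj c i₀)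
      (by rw [Category.assoc, pullback.condition, reassoc_of% hw₀, Category.assoc, hg i₀])
  let b₀ : Spec (CommRingCat.of _) ⟶ Cn.pt := pullback.lift a₀ η (pullback.lift_snd _ _ _)
  have hb : b₀ ≫ emb c g hg u₀ ≫ ((EtCoh.bc g).map m₀).left = w₀ := by
    refine pullback.hom_ext ?_ ?_
    · refine (Category.assoc _ _ _).trans ((congrArg (_ ≫ ·) ((Category.assoc _ _ _).trans
        ((congrArg (_ ≫ ·) (bc_map_fst g m₀)).trans ((Category.assoc _ _ _).symm.trans
          (congrArg (· ≫ m₀.left) (emb_fst c g hg u₀)))))).trans ?_)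
      refine (Category.assoc _ _ _).symm.trans ((congrArg (· ≫ m₀.left) (pullback.lift_fst _ _ _)).trans ?_)
      exact pullback.lift_fst _ _ _
    · refine (Category.assoc _ _ _).trans ((congrArg (_ ≫ ·) ((Category.assoc _ _ _).trans
        ((congrArg (_ ≫ ·) (Over.w ((EtCoh.bc g).map m₀).hom)).trans (pullback.lift_snd _ _ _)))).trans ?_)
      exact (pullback.lift_snd _ _ _).trans hw₀.symm
  have hA : b₀ default ∈ A := by
    show emb c g hg u₀ (b₀ default) ∈ agree _ _ _
    rw [← restTop_map c g G σ m₀, pullSect_map, mem_agree_map]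
    exact Eq.mpr (congrArg (fun z : ((EtCoh.bc g).obj W).left => z ∈ agree _ (restTop g G σ W) (pullSect g G t))
      (congrArg (fun z : Spec (CommRingCat.of _) ⟶ ((EtCoh.bc g).obj W).left => z default) hb)) hw
  obtain ⟨_, ⟨j, V, hV, rfl⟩, hqV, hVA⟩ := Opens.isBasis_iff_nbhd.1
    (isBasis_preimage_isAffineOpen (pbDiagram (sch T) i₀ u₀.left) Cn (isLimitPbCone (sch T) i₀ u₀.left hc))
    (show b₀ default ∈ (⟨A, (isOpen_agree _ _ _).preimage (emb c g hg u₀).continuous⟩ : Opens Cn.pt) from hA)
  let S := st u₀ j.hom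
  haveI : Etale S.hom := S.prop
  let U : X.Etale := openObj (W := S) V
  let u : U ⟶ T.obj j.left := openHom (W := S) V ≫ ps u₀ j.hom
  let m : U ⟶ U₀ := openHom (W := S) V ≫ pf u₀ j.hom
  have hm : m ≫ u₀ = u ≫ T.map j.hom := by rw [Category.assoc, pf_comp, ← Category.assoc]
  refine ⟨j.left, U, hV, u, G.obj.map m.op r₀, ?_, fun q => ?_, ?_⟩
  · refine ⟨(⟨_, hqV⟩ : (V : Scheme.{u})), ?_⟩
    have e : b₀ ≫ Cn.π.app j ≫ (ps u₀ j.hom).left = η ≫ prj c j.left := by
      refine (congrArg (b₀ ≫ ·) (pullback.lift_snd _ _ _)).trans ?_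
      exact (Category.assoc _ _ _).symm.trans (congrArg (· ≫ prj c j.left) (pullback.lift_snd _ _ _))
    exact (congrArg (fun z : Spec (CommRingCat.of _) ⟶ (T.obj j.left).left => z default) e).trans
      (congrArg (prj c j.left) (geomPt_base l))
  · let μ : pullback u.left (prj c j.left) ⟶ Cn.pt :=
      pullback.map u.left (prj c j.left) u₀.left (prj c i₀) m.left (𝟙 _) (T.map j.hom).left
        ((congrArg (fun z => z.left) hm).symm) ((prj_w c j.hom).trans (Category.id_comp _).symm)
    refine (agree_emb_map c g hg G σ j.hom u₀ u m hm r₀ q _ rfl).2 (hVA ?_)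
    have e : μ ≫ Cn.π.app j = pullback.fst u.left (prj c j.left) ≫ V.ι := by
      refine pullback.hom_ext ?_ ?_
      · refine (Category.assoc _ _ _).trans ((congrArg (_ ≫ ·) ((pullback.lift_fst _ _ _).trans
          (Category.comp_id _))).trans ?_)
        exact (pullback.lift_fst _ _ _).trans (Category.assoc _ _ _).symm
      · refine (Category.assoc _ _ _).trans ((congrArg (_ ≫ ·) (pullback.lift_snd _ _ _)).trans ?_)
        refine (Category.assoc _ _ _).symm.trans ((congrArg (· ≫ prj c j.left) (pullback.lift_snd _ _ _)).trans ?_)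
        refine ((Category.assoc _ _ _).trans (congrArg (_ ≫ ·) (Category.id_comp _))).trans ?_
        exact pullback.condition.symm.trans (Category.assoc _ _ _).symm
    show Cn.π.app j (μ q) ∈ V
    exact Eq.mpr (congrArg (fun z => z ∈ V)
      (congrArg (fun z : pullback u.left (prj c j.left) ⟶ S.left => z q) e)) (pullback.fst u.left (prj c j.left) q).2
  · have e : b₀ ≫ Cn.π.app j ≫ (ps u₀ j.hom).left = η ≫ prj c j.left := by
      refine (congrArg (b₀ ≫ ·) (pullback.lift_snd _ _ _)).trans ?_
      exact (Category.assoc _ _ _).symm.trans (congrArg (· ≫ prj c j.left) (pullback.lift_snd _ _ _))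
    obtain ⟨q, -, hq⟩ := Scheme.Pullback.exists_preimage_pullback (f := u.left) (g := prj c j.left)
      (⟨_, hqV⟩ : (V : Scheme.{u})) l
      ((congrArg (fun z : Spec (CommRingCat.of _) ⟶ (T.obj j.left).left => z default) e).trans
        (congrArg (prj c j.left) (geomPt_base l)))
    exact ⟨q, hq⟩

end Groth.Agent.H18PBC.LimSec
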