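import Groth.Agent.H18PBC.GeomConn
import Groth.Agent.H7Lim.Basic

/-!
# Cofiltered systems in the étale site: eventual equality of sections
-/

set_option autoImplicit false
set_option linter.style.haveILetI false
set_option linter.unusedSectionVars false
set_option backward.isDefEq.respectTransparency false
set_option backward.isDefEq.respectTransparency.types false

universe u

open CategoryTheory CategoryTheory.Limits AlgebraicGeometry Opposite TopologicalSpace
open scoped Groth.Agent.H18Et

namespace Groth.Agent.H18PBC.LimSec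

open H15Site.SetDescent H18Et H7Lim

variable {X : Scheme.{u}} {I : Type u} [SmallCategory I] (T : I ⥤ X.Etale)

/-- The diagram of schemes underlying a diagram in the étale site. -/
noncomputable def sch : I ⥤ Scheme.{u} where
  obj i := (T.obj i).left
  map a := (T.map a).left
  map_id i := by rw [T.map_id]; rfl
  map_comp a b := by rw [T.map_comp]; rfl

variable {T}

/-- Base change of an étale object over a member to a later stage. -/
noncomputable def st {i k : I} {U : X.Etale} (u : U ⟶ T.obj i) (a : k ⟶ i) : X.Etale :=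
  haveI : Etale (pullback.snd u.left (T.map a).left) :=
    MorphismProperty.pullback_snd _ _ (etale_left u)
  haveI : Etale (T.obj k).hom := (T.obj k).prop
  Scheme.Etale.mk (pullback.snd u.left (T.map a).left ≫ (T.obj k).hom)

/-- The projection to the later stage. -/
noncomputable def ps {i k : I} {U : X.Etale} (u : U ⟶ T.obj i) (a : k ⟶ i) : st u a ⟶ T.obj k :=
  MorphismProperty.Over.homMk (pullback.snd u.left (T.map a).left) rfl trivial

theorem pf_w {i k : I} {U : X.Etale} (u : U ⟶ T.obj i) (a : k ⟶ i) :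
    pullback.fst u.left (T.map a).left ≫ U.hom = pullback.snd u.left (T.map a).left ≫ (T.obj k).hom :=
  (congrArg (pullback.fst u.left (T.map a).left ≫ ·) (Over.w u.hom).symm).trans
    ((pullback.condition_assoc (T.obj i).hom).trans
      (congrArg (pullback.snd u.left (T.map a).left ≫ ·) (Over.w (T.map a).hom)))

/-- The projection to the original object. -/
noncomputable def pf {i k : I} {U : X.Etale} (u : U ⟶ T.obj i) (a : k ⟶ i) : st u a ⟶ U :=
  MorphismProperty.Over.homMk (pullback.fst u.left (T.map a).left) (pf_w u a) trivial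

theorem pf_comp {i k : I} {U : X.Etale} (u : U ⟶ T.obj i) (a : k ⟶ i) : pf u a ≫ u = ps u a ≫ T.map a :=
  MorphismProperty.Over.Hom.ext pullback.condition

/-- Maps into a later stage. -/
noncomputable def stLift {i k : I} {U Q : X.Etale} (u : U ⟶ T.obj i) (a : k ⟶ i) (f : Q ⟶ U) (g : Q ⟶ T.obj k)
    (h : f ≫ u = g ≫ T.map a) : Q ⟶ st u a :=
  MorphismProperty.Over.homMk (pullback.lift f.left g.left (congrArg (fun m => m.left) h))
    ((Category.assoc _ _ _).symm.trans ((congrArg (· ≫ (T.obj k).hom) (pullback.lift_snd _ _ _)).trans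
      (Over.w g.hom))) trivial

theorem stLift_pf {i k : I} {U Q : X.Etale} (u : U ⟶ T.obj i) (a : k ⟶ i) (f : Q ⟶ U) (g : Q ⟶ T.obj k)
    (h : f ≫ u = g ≫ T.map a) : stLift u a f g h ≫ pf u a = f :=
  MorphismProperty.Over.Hom.ext (pullback.lift_fst _ _ _)

theorem stLift_ps {i k : I} {U Q : X.Etale} (u : U ⟶ T.obj i) (a : k ⟶ i) (f : Q ⟶ U) (g : Q ⟶ T.obj k)
    (h : f ≫ u = g ≫ T.map a) : stLift u a f g h ≫ ps u a = g :=
  MorphismProperty.Over.Hom.ext (pullback.lift_snd _ _ _)

variable (c : Cone (sch T))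

/-- The projection from the limit. -/
noncomputable abbrev prj (i : I) : c.pt ⟶ (T.obj i).left := c.π.app i

theorem prj_w {i k : I} (a : k ⟶ i) : prj c k ≫ (T.map a).left = prj c i := c.w a

variable [IsCofiltered I] (hc : IsLimit c) [∀ ⦃a b : I⦄ (f : a ⟶ b), IsAffineHom ((sch T).map f)]
  [∀ a, CompactSpace ((sch T).obj a)] (G : EtDesc.Sh X)

include hc in
/-- An open subset of a quasi-compact object containing its limit part contains a stage. -/
theorem exists_stage_top {i : I} {U : X.Etale} [CompactSpace U.left] (u : U ⟶ T.obj i) (A : Set U.left)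
    (hA : IsOpen A) (h : ∀ q : (pullback u.left (prj c i) : Scheme.{u}), pullback.fst u.left (prj c i) q ∈ A) :
    ∃ (k : I) (a : k ⟶ i), ∀ v : (st u a).left, (pf u a).left v ∈ A := by
  haveI : ∀ (p r : I) (f : p ⟶ r), IsAffineHom ((sch T).map f) := fun p r f => inferInstance
  let Dg := pbDiagram (sch T) i u.left
  let Cn := pbCone (sch T) c i u.left
  haveI : ∀ j, CompactSpace (Dg.obj j) := fun j => @compactSpace_pbDiagram_obj I _ (sch T) i U.left u.left _ ‹_› j
  let j₀ : Over i := Over.mk (𝟙 i)
  let O : (Dg.obj j₀).Opens := ⟨(pullback.fst u.left ((sch T).map (𝟙 i))).base ⁻¹' A,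
    hA.preimage (pullback.fst u.left ((sch T).map (𝟙 i))).continuous⟩
  have hO : Cn.π.app j₀ ⁻¹ᵁ O = ⊤ := by
    refine Opens.ext (Set.eq_univ_of_forall fun w => ?_)
    have e : Cn.π.app j₀ ≫ pullback.fst u.left ((sch T).map (𝟙 i)) = pullback.fst u.left (c.π.app i) :=
      (pullback.lift_fst _ _ _).trans (Category.comp_id _)
    exact Eq.mpr (congrArg (· ∈ A) (congrArg (fun q : Cn.pt ⟶ U.left => q w) e)) (h w)
  obtain ⟨j₁, f, hf⟩ := exists_map_eq_top Dg Cn (isLimitPbCone (sch T) i u.left hc) O hO
  refine ⟨j₁.left, j₁.hom, fun v => ?_⟩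
  have e : Dg.map f ≫ pullback.fst u.left ((sch T).map (𝟙 i)) = pullback.fst u.left ((sch T).map j₁.hom) :=
    (pullback.lift_fst _ _ _).trans (Category.comp_id _)
  exact Eq.mp (congrArg (· ∈ A) (congrArg (fun q : Dg.obj j₁ ⟶ U.left => q v) e)) (hf.ge (Set.mem_univ v))

include hc in
/-- Sections agreeing on the limit part agree at a stage. -/
theorem eq_stage {i : I} {U : X.Etale} [CompactSpace U.left] (u : U ⟶ T.obj i) (s t : G.obj.obj (op U))
    (h : ∀ q : (pullback u.left (prj c i) : Scheme.{u}), pullback.fst u.left (prj c i) q ∈ agree G s t) :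
    ∃ (k : I) (a : k ⟶ i), G.obj.map (pf u a).op s = G.obj.map (pf u a).op t := by
  obtain ⟨k, a, ha⟩ := exists_stage_top c hc u (agree G s t) (isOpen_agree G s t) h
  exact ⟨k, a, eq_of_agree_eq_univ G _ _ fun v => (mem_agree_map G (pf u a) s t v).2 (ha v)⟩

/-- Restriction equality propagates to later stages. -/
theorem eq_later {i k l : I} {U : X.Etale} (u : U ⟶ T.obj i) (a : k ⟶ i) (b : l ⟶ k) (s t : G.obj.obj (op U))
    (h : G.obj.map (pf u a).op s = G.obj.map (pf u a).op t) {Q : X.Etale} (f : Q ⟶ U) (g : Q ⟶ T.obj l)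
    (w : f ≫ u = g ≫ T.map (b ≫ a)) : G.obj.map f.op s = G.obj.map f.op t := by
  have w' : f ≫ u = (g ≫ T.map b) ≫ T.map a := by rw [w, T.map_comp, Category.assoc]
  rw [← stLift_pf u a f (g ≫ T.map b) w', op_comp, Functor.map_comp_apply, Functor.map_comp_apply, h]

end Groth.Agent.H18PBC.LimSec
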