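import Groth.Agent.H18PBC.SpectralSections
import Groth.Agent.H9Hens.ProperPairApps

/-!
# Proper schemes over henselian pairs: point closures meet the closed fibre in connected sets
-/

set_option autoImplicit false
set_option backward.isDefEq.respectTransparency false

universe u

open CategoryTheory CategoryTheory.Limits AlgebraicGeometry

namespace Groth.Agent.H18PBC

theorem spectralSpace_scheme (X : Scheme.{u}) [CompactSpace X] [QuasiSeparatedSpace X] : SpectralSpace X :=
  { }

theorem isConnected_inter_closure {A : Type u} [CommRing A] (I : Ideal A) [HenselianRing A I] {X : Scheme.{u}}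
    (f : X ⟶ Spec (CommRingCat.of A)) [IsProper f] (x : X) :
    IsConnected ((f ⁻¹' PrimeSpectrum.zeroLocus (I : Set A)) ∩ closure {x}) := by
  let C : TopologicalSpace.Closeds X := ⟨closure {x}, isClosed_closure⟩
  let Y := (Scheme.IdealSheafData.vanishingIdeal C).subscheme
  let i : Y ⟶ X := (Scheme.IdealSheafData.vanishingIdeal C).subschemeι
  have hi : Set.range i = closure {x} := by
    rw [Scheme.IdealSheafData.range_subschemeι, Scheme.IdealSheafData.coe_support_vanishingIdeal]
    rfl
  have hY : ConnectedSpace Y := by
    have h := isIrreducible_singleton.closure.isConnected (α := X) (s := closure {x})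
    rw [← hi] at h
    haveI : ConnectedSpace (Set.range i) := isConnected_iff_connectedSpace.1 h
    exact i.isEmbedding.toHomeomorph.symm.surjective.connectedSpace i.isEmbedding.toHomeomorph.symm.continuous
  have hP : ConnectedSpace ↥((i ≫ f) ⁻¹' PrimeSpectrum.zeroLocus (I : Set A)) :=
    (H9Hens.ProperPairApps.connectedSpace_iff continuous_subtype_val
      (H9Hens.ProperPair.uniqueLift_proper I (i ≫ f))).1 hY
  have h2 := (isConnected_iff_connectedSpace.2 hP).image i i.continuous.continuousOn
  have e : i '' ((i ≫ f) ⁻¹' PrimeSpectrum.zeroLocus (I : Set A)) =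
      (f ⁻¹' PrimeSpectrum.zeroLocus (I : Set A)) ∩ closure {x} := by
    rw [← hi, ← Set.image_preimage_eq_inter_range]
    rfl
  exact e ▸ h2

theorem bijective_unit_proper {A : Type u} [CommRing A] (I : Ideal A) [HenselianRing A I] {X : Scheme.{u}}
    (f : X ⟶ Spec (CommRingCat.of A)) [IsProper f] (Z : Set X) (hZ : Z = f ⁻¹' PrimeSpectrum.zeroLocus (I : Set A))
    (F : TopCat.Sheaf (Type u) X.carrier) :
    Function.Bijective
      (((TopCat.Sheaf.pullbackPushforwardAdjunction (Type u)
        (TopCat.ofHom ⟨(Subtype.val : Z → X), continuous_subtype_val⟩)).unit.app F).hom.app (Opposite.op ⊤)) := by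
  haveI : CompactSpace X := QuasiCompact.compactSpace_of_compactSpace f
  haveI : QuasiSeparatedSpace X := quasiSeparatedSpace_of_quasiSeparated f
  haveI : SpectralSpace X := spectralSpace_scheme X
  subst hZ
  exact bijective_unit F ((PrimeSpectrum.isClosed_zeroLocus _).preimage f.continuous)
    (isConnected_inter_closure I f)

end Groth.Agent.H18PBC
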