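import Groth.Agent.H18PBC.TopGerms
import Groth.Agent.H28Top.Spectral
import Mathlib.Topology.LocallyConstant.Basic
import Mathlib.Topology.Sheaves.SheafCondition.UniqueGluing

/-!
# Sections over a closed subset of a spectral space meeting every point closure in a connected set
-/

set_option autoImplicit false
set_option backward.isDefEq.respectTransparency false

universe u

open CategoryTheory CategoryTheory.Limits Opposite TopologicalSpace
open Topology (IsConstructible)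

namespace Groth.Agent.H18PBC

variable {X : TopCat.{u}} (F : TopCat.Sheaf (Type u) X)

/-- A germ of a sheaf of sets. -/
noncomputable abbrev gm {U : Opens X} (x : X) (hx : x ∈ U) (s : F.obj.obj (op U)) :
    TopCat.Presheaf.stalk F.obj x :=
  TopCat.Presheaf.germ F.obj U x hx s

/-- Where two sections agree. -/
def eqLoc {U V : Opens X} (s : F.obj.obj (op U)) (t : F.obj.obj (op V)) : Set X :=
  {x | ∃ (hx : x ∈ U) (hx' : x ∈ V), gm F x hx s = gm F x hx' t}

theorem isOpen_eqLoc {U V : Opens X} (s : F.obj.obj (op U)) (t : F.obj.obj (op V)) : IsOpen (eqLoc F s t) := by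
  refine isOpen_iff_mem_nhds.2 fun x ⟨hx, hx', e⟩ => ?_
  obtain ⟨W, hxW, iU, iV, hW⟩ := TopCat.Presheaf.germ_eq F.obj x hx hx' s t e
  refine Filter.mem_of_superset (W.isOpen.mem_nhds hxW) fun y hy => ⟨iU.le hy, iV.le hy, ?_⟩
  rw [gm, gm, ← TopCat.Presheaf.germ_res_apply F.obj iU y hy s,
    ← TopCat.Presheaf.germ_res_apply F.obj iV y hy t]
  exact congrArg _ hW

theorem specializes_gm {U : Opens X} {x z : X} (h : x ⤳ z) (hz : z ∈ U) (s : F.obj.obj (op U)) :
    TopCat.Presheaf.stalkSpecializes F.obj h (gm F z hz s) = gm F x (h.mem_open U.isOpen hz) s :=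
  TopCat.Presheaf.germ_stalkSpecializes_apply F.obj hz h s

/-- A family of germs on a closed subset extends to a global section. -/
theorem exists_global [SpectralSpace X] {Z : Set X} (hZ : IsClosed Z)
    (hconn : ∀ x : X, IsConnected (Z ∩ closure {x})) (g : ∀ z : Z, TopCat.Presheaf.stalk F.obj z.1)
    (hloc : ∀ z : Z, ∃ (W : Opens X) (_ : z.1 ∈ W) (f : F.obj.obj (op W)),
      ∀ (z' : Z) (hz' : z'.1 ∈ W), gm F z'.1 hz' f = g z') :
    ∃ s : F.obj.obj (op (⊤ : Opens X)), ∀ z : Z, gm F z.1 (U := ⊤) trivial s = g z := by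
  classical
  choose W hW f hf using hloc
  have hz : ∀ x : X, ∃ z : Z, x ⤳ z.1 := fun x => by
    obtain ⟨z, hzZ, hzx⟩ := (hconn x).nonempty
    exact ⟨⟨z, hzZ⟩, specializes_iff_mem_closure.2 hzx⟩
  choose zx hzx using hz
  let h : ∀ x : X, TopCat.Presheaf.stalk F.obj x := fun x =>
    TopCat.Presheaf.stalkSpecializes F.obj (hzx x) (g (zx x))
  have hh : ∀ (x : X) (z : Z) (hxz : x ⤳ z.1), h x = TopCat.Presheaf.stalkSpecializes F.obj hxz (g z) := by
    intro x z hxz
    haveI := isConnected_iff_connectedSpace.1 (hconn x)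
    let φ : ↥(Z ∩ closure {x}) → TopCat.Presheaf.stalk F.obj x := fun w =>
      TopCat.Presheaf.stalkSpecializes F.obj (specializes_iff_mem_closure.2 w.2.2) (g ⟨w.1, w.2.1⟩)
    have hφ : IsLocallyConstant φ := by
      refine (IsLocallyConstant.iff_exists_open φ).2 fun w => ?_
      refine ⟨Subtype.val ⁻¹' (W ⟨w.1, w.2.1⟩ : Set X), (W _).isOpen.preimage continuous_subtype_val,
        hW ⟨w.1, w.2.1⟩, fun w' hw' => ?_⟩
      simp only [φ]
      rw [← hf ⟨w.1, w.2.1⟩ ⟨w.1, w.2.1⟩ (hW ⟨w.1, w.2.1⟩), ← hf ⟨w.1, w.2.1⟩ ⟨w'.1, w'.2.1⟩ hw',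
        specializes_gm, specializes_gm]
    exact hφ.apply_eq_of_preconnectedSpace ⟨(zx x).1, (zx x).2, specializes_iff_mem_closure.1 (hzx x)⟩
      ⟨z.1, z.2, specializes_iff_mem_closure.1 hxz⟩
  have hV : ∀ a : Z, ∃ V : Set X, IsOpen V ∧ IsCompact V ∧ a.1 ∈ V ∧ V ⊆ W a := fun a => by
    obtain ⟨V, ⟨h1, h2⟩, h3, h4⟩ :=
      PrespectralSpace.isTopologicalBasis.exists_subset_of_mem_open (hW a) (W a).isOpen
    exact ⟨V, h1, h2, h3, h4⟩
  choose V hVo hVc hVmem hVW using hV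
  obtain ⟨t, ht⟩ := hZ.isCompact.elim_finite_subcover V hVo fun z hzZ => Set.mem_iUnion.2 ⟨⟨z, hzZ⟩, hVmem _⟩
  let B : Z → Z → Set X := fun a b =>
    ((V a ∩ V b) ∩ (eqLoc F (f a) (f b))ᶜ) ∩ {x | ∃ e ∈ Z ∩ V b, x ⤳ e}
  have hB : ∀ a b, @IsClosed X (constructibleTopology X) (B a b) := fun a b => by
    refine @IsClosed.inter X _ _ (constructibleTopology X) ?_
      (H28Top.isClosed_constr_generalization ((hVc b).inter_left hZ))
    refine @IsClosed.inter X _ _ (constructibleTopology X) ?_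
      (H28Top.isClosed_constr_of_isClosed (isOpen_eqLoc F _ _).isClosed_compl)
    exact H28Top.isClosed_constr_of_compactOpen ((hVo a).inter (hVo b))
      (QuasiSeparatedSpace.inter_isCompact (V a) (V b) (hVo a) (hVc a) (hVo b) (hVc b))
  let O : t → Opens X := fun a => ⟨V a.1 ∩ ⋂ b : t, (closure (B a.1 b.1))ᶜ,
    (hVo a.1).inter (isOpen_iInter_of_finite fun b => isClosed_closure.isOpen_compl)⟩
  have hval : ∀ (a : t) (x : X) (hx : x ∈ O a), h x = gm F x (hVW a.1 hx.1) (f a.1) := by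
    intro a x hx
    obtain ⟨b, hb, hzb⟩ := Set.mem_iUnion₂.1 (ht (zx x).2)
    have hxb : h x = gm F x ((hzx x).mem_open (W b).isOpen (hVW b hzb)) (f b) := by
      show TopCat.Presheaf.stalkSpecializes F.obj (hzx x) (g (zx x)) = _
      rw [← hf b (zx x) (hVW b hzb), specializes_gm]
    by_contra hne
    refine Set.mem_iInter.1 hx.2 ⟨b, hb⟩ (subset_closure ?_)
    refine ⟨⟨⟨hx.1, (hzx x).mem_open (hVo b) hzb⟩, ?_⟩, ⟨(zx x).1, ⟨(zx x).2, hzb⟩, hzx x⟩⟩
    rintro ⟨h1, h2, e⟩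
    exact hne (hxb.trans e.symm)
  have hcov : (⊤ : Opens X) ≤ iSup O := by
    intro x _
    obtain ⟨a, ha, hza⟩ := Set.mem_iUnion₂.1 (ht (zx x).2)
    refine Opens.mem_iSup.2 ⟨⟨a, ha⟩, (hzx x).mem_open (hVo a) hza, Set.mem_iInter.2 fun b hb => ?_⟩
    obtain ⟨e, ⟨⟨⟨hea, heb⟩, hne⟩, ⟨w, ⟨hwZ, hwb⟩, hew⟩⟩, hex⟩ :=
      H28Top.exists_specializes_of_mem_closure (hB a b.1) hb
    refine hne ⟨hVW a hea, hVW b.1 heb, ?_⟩
    have h1 := hh e (zx x) (hex.trans (hzx x))
    rw [← hf a (zx x) (hVW a hza), specializes_gm] at h1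
    have h2 := hh e ⟨w, hwZ⟩ hew
    rw [← hf b.1 ⟨w, hwZ⟩ (hVW b.1 hwb), specializes_gm] at h2
    exact h1.symm.trans h2
  let sf : ∀ a : t, F.obj.obj (op (O a)) := fun a => F.obj.map (homOfLE (show O a ≤ W a.1 from fun x hx => hVW a.1 hx.1)).op (f a.1)
  have hsf : ∀ (a : t) (x : X) (hx : x ∈ O a), gm F x hx (sf a) = h x := fun a x hx =>
    (TopCat.Presheaf.germ_res_apply F.obj _ x hx (f a.1)).trans (hval a x hx).symm
  have hcomp : TopCat.Presheaf.IsCompatible F.obj O sf := fun a b => by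
    refine TopCat.Presheaf.section_ext F _ _ _ fun y hy => ?_
    refine (TopCat.Presheaf.germ_res_apply F.obj _ y hy (sf a)).trans
      (Eq.trans ?_ (TopCat.Presheaf.germ_res_apply F.obj _ y hy (sf b)).symm)
    exact (hsf a y hy.1).trans (hsf b y hy.2).symm
  obtain ⟨s, hs, -⟩ := TopCat.Sheaf.existsUnique_gluing' F O ⊤ (fun a => homOfLE le_top) hcov sf hcomp
  refine ⟨s, fun z => ?_⟩
  obtain ⟨a, ha⟩ := Opens.mem_iSup.1 (hcov (show z.1 ∈ (⊤ : Opens X) from trivial))
  refine (TopCat.Presheaf.germ_res_apply F.obj (homOfLE le_top) z.1 ha s).symm.trans ?_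
  refine (congrArg _ (hs a)).trans ((hsf a z.1 ha).trans ?_)
  rw [hh z.1 z specializes_rfl, TopCat.Presheaf.stalkSpecializes_refl]
  rfl

theorem bijective_unit [SpectralSpace X] {Z : Set X} (hZ : IsClosed Z)
    (hconn : ∀ x : X, IsConnected (Z ∩ closure {x})) :
    Function.Bijective
      (((TopCat.Sheaf.pullbackPushforwardAdjunction (Type u)
        (TopCat.ofHom ⟨(Subtype.val : Z → X), continuous_subtype_val⟩)).unit.app F).hom.app (op ⊤)) := by
  let i : TopCat.of Z ⟶ X := TopCat.ofHom ⟨(Subtype.val : Z → X), continuous_subtype_val⟩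
  let G := (TopCat.Sheaf.pullback (Type u) i).obj F
  have hi : Topology.IsInducing i := Topology.IsInducing.subtypeVal
  refine ⟨fun s t hst => ?_, fun s => ?_⟩
  · refine TopCat.Presheaf.section_ext F ⊤ s t fun x _ => ?_
    obtain ⟨z, hzZ, hzx⟩ := (hconn x).nonempty
    have hxz : x ⤳ z := specializes_iff_mem_closure.2 hzx
    have e : gm F z (U := ⊤) trivial s = gm F z (U := ⊤) trivial t := by
      refine (bijective_cmap i hi F (⟨z, hzZ⟩ : Z)).1 ?_
      refine (cmap_germ i F (⟨z, hzZ⟩ : Z) (U := ⊤) trivial s).trans (Eq.trans ?_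
        (cmap_germ i F (⟨z, hzZ⟩ : Z) (U := ⊤) trivial t).symm)
      exact congrArg _ hst
    have e' := congrArg (TopCat.Presheaf.stalkSpecializes F.obj hxz) e
    rw [specializes_gm, specializes_gm] at e'
    exact e'
  · choose g hg using fun z : Z => (bijective_cmap i hi F z).2
      (TopCat.Presheaf.germ G.obj ((Opens.map i).obj ⊤) z trivial s)
    obtain ⟨s', hs'⟩ := exists_global F hZ hconn g fun z => by
      obtain ⟨U, hzU, f, hf⟩ := TopCat.Presheaf.germ_exist (x := z.1) F.obj (g z)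
      have h1 : TopCat.Presheaf.germ G.obj ((Opens.map i).obj U) z hzU ((unitMap i F).hom.app (op U) f) =
          TopCat.Presheaf.germ G.obj ((Opens.map i).obj ⊤) z trivial s := by
        rw [← hg z, ← hf]
        exact (cmap_germ i F z hzU f).symm
      obtain ⟨W', hzW', iU, iT, hW'⟩ := TopCat.Presheaf.germ_eq G.obj z _ _ _ _ h1
      obtain ⟨W, hWo, hWW'⟩ := isOpen_induced_iff.1 W'.isOpen
      refine ⟨U ⊓ ⟨W, hWo⟩, ⟨hzU, hWW'.symm.subset hzW'⟩, F.obj.map (homOfLE inf_le_left).op f, fun z' hz' => ?_⟩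
      refine (bijective_cmap i hi F z').1 ?_
      rw [hg z', gm, TopCat.Presheaf.germ_res_apply]
      refine (cmap_germ i F z' hz'.1 f).trans ?_
      rw [← TopCat.Presheaf.germ_res_apply G.obj iU z' (hWW'.subset hz'.2),
        ← TopCat.Presheaf.germ_res_apply G.obj iT z' (hWW'.subset hz'.2)]
      exact congrArg _ hW'
    refine ⟨s', TopCat.Presheaf.section_ext G ((Opens.map i).obj ⊤) _ _ fun z hz => ?_⟩
    refine (cmap_germ i F z (U := ⊤) trivial s').symm.trans ?_
    exact (congrArg (cmap i F z) (hs' z)).trans (hg z)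

end Groth.Agent.H18PBC
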