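import Groth.Agent.H13AlgSp.GeomFinrank
import Groth.Agent.H25FinCov.Cover
import Groth.Prelude.Def_Pi1
import Mathlib.AlgebraicGeometry.Limits

/-!
# A cover of degree `n` is split by a cover of degree `n!`
-/

set_option autoImplicit false
set_option linter.style.haveILetI false
set_option backward.isDefEq.respectTransparency false

noncomputable section

universe u

open CategoryTheory CategoryTheory.Limits AlgebraicGeometry TopologicalSpace

namespace Groth.Agent.H18PBC.SplitCover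

open H7Weight

theorem exists_geomPt {S : Scheme.{u}} (s : S) :
    ∃ (Ω : Type u) (_ : Field Ω) (_ : IsAlgClosed Ω) (η : Spec (CommRingCat.of Ω) ⟶ S), pt η = s :=
  H7Weight.exists_geomPt' s

/-- A finite étale morphism with all geometric fibres of cardinality `n`. -/
def HasDeg {U S : Scheme.{u}} (π : U ⟶ S) (n : ℕ) : Prop :=
  ∀ (Ω : Type u) [Field Ω] [IsAlgClosed Ω] (η : Spec (CommRingCat.of Ω) ⟶ S), Nat.card (Pts π η) = n

theorem hasDeg_of_rank {U S : Scheme.{u}} (π : U ⟶ S) [IsFinite π] [Etale π] (n : ℕ)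
    (h : FlatMod.IsFinLocFreeOfRank n ((Coh.push π).obj (Coh.structureModule U))) : HasDeg π n := by
  intro Ω _ _ η
  have hc : FinCov.IsCover π n := H25FinCov.isCover_of_basis π n fun y => by
    obtain ⟨W, hyW, ⟨e⟩⟩ := h y
    obtain ⟨V, hV, hyV, hle⟩ := exists_isAffineOpen_mem_and_subset (U := W) (x := y) hyW
    exact ⟨V, hV, hyV, H8Props.FinLocFree.exists_basis_of_chart _ e hle⟩
  rw [← H13AlgSp.Degree.finrank_eq_natCard_pts π η]
  exact hc.2 _

theorem rank_of_hasDeg {U S : Scheme.{u}} (π : U ⟶ S) [IsFinite π] [Etale π] (n : ℕ) (h : HasDeg π n) :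
    FlatMod.IsFinLocFreeOfRank n ((Coh.push π).obj (Coh.structureModule U)) := by
  refine H25FinCov.isFinLocFreeOfRank_of_isCover π n ⟨⟨inferInstance, inferInstance, inferInstance⟩, fun y => ?_⟩
  obtain ⟨Ω, _, _, η, rfl⟩ := exists_geomPt y
  rw [H13AlgSp.Degree.finrank_eq_natCard_pts π η]
  exact h Ω η

theorem surjective_of_hasDeg {U S : Scheme.{u}} (π : U ⟶ S) (n : ℕ) (h : HasDeg π n) (hn : 0 < n) :
    Surjective π := by
  refine ⟨fun s => ?_⟩
  obtain ⟨Ω, _, _, η, rfl⟩ := exists_geomPt s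
  haveI : Nonempty (Pts π η) := (Nat.card_pos_iff.1 ((h Ω η).symm ▸ hn)).1
  exact ⟨pt (Classical.arbitrary (Pts π η)).1, Pts.map_pt _⟩

/-- Geometric points of the complement of the diagonal. -/
theorem card_offDiag {U S : Scheme.{u}} (π : U ⟶ S) [IsFinite π] [Etale π] (m : ℕ) (h : HasDeg π (m + 1)) :
    ∃ (Z : Scheme.{u}) (p : Z ⟶ U) (q : Z ⟶ U), IsFinite p ∧ Etale p ∧ p ≫ π = q ≫ π ∧ HasDeg p m ∧
      ∀ (Ω : Type u) [Field Ω] [IsAlgClosed Ω] (y : Spec (CommRingCat.of Ω) ⟶ U),
        Set.InjOn (fun z : Pts p y => z.1 ≫ q) Set.univ ∧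
          (∀ z : Pts p y, z.1 ≫ q ≠ y) ∧
          ∀ y' : Pts π (y ≫ π), y'.1 ≠ y → ∃ z : Pts p y, z.1 ≫ q = y'.1 := by
  let Δ := pullback.diagonal π
  have hΔo : IsOpenImmersion Δ := inferInstance
  have hΔc : IsClosedImmersion Δ := inferInstance
  let Z : (pullback π π).Opens := ⟨(Set.range Δ)ᶜ, Δ.isClosedEmbedding.isClosed_range.isOpen_compl⟩
  haveI : IsClosedImmersion Z.ι := IsClosedImmersion.of_isPreimmersion Z.ι (by
    rw [Scheme.Opens.range_ι]; exact Δ.isOpenEmbedding.isOpen_range.isClosed_compl)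
  haveI : IsFinite (pullback.fst π π) := MorphismProperty.pullback_fst _ _ ‹IsFinite π›
  haveI : Etale (pullback.fst π π) := MorphismProperty.pullback_fst _ _ ‹Etale π›
  let p : Z.toScheme ⟶ U := Z.ι ≫ pullback.fst π π
  let q : Z.toScheme ⟶ U := Z.ι ≫ pullback.snd π π
  have hpq : p ≫ π = q ≫ π := by simp [p, q, pullback.condition]
  -- the three properties
  have key : ∀ (Ω : Type u) [Field Ω] [IsAlgClosed Ω] (y : Spec (CommRingCat.of Ω) ⟶ U),
      Set.InjOn (fun z : Pts p y => z.1 ≫ q) Set.univ ∧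
        (∀ z : Pts p y, z.1 ≫ q ≠ y) ∧
        ∀ y' : Pts π (y ≫ π), y'.1 ≠ y → ∃ z : Pts p y, z.1 ≫ q = y'.1 := by
    intro Ω _ _ y
    refine ⟨fun z _ z' _ e => Subtype.ext ?_, fun z e => ?_, fun y' hy' => ?_⟩
    · rw [← cancel_mono Z.ι]
      apply pullback.hom_ext
      · simpa [p, Category.assoc] using z.2.trans z'.2.symm
      · simpa [q, Category.assoc] using e
    · have h1 : z.1 ≫ Z.ι = y ≫ Δ := by
        apply pullback.hom_ext
        · simpa [p, Δ, Category.assoc] using z.2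
        · simpa [q, Δ, Category.assoc] using e
      refine (z.1 (IsLocalRing.closedPoint Ω)).2 ⟨y (IsLocalRing.closedPoint Ω), ?_⟩
      rw [← Scheme.Hom.comp_apply, ← h1]
      rfl
    · let l : Spec (CommRingCat.of Ω) ⟶ pullback π π := pullback.lift y y'.1 y'.2.symm
      have hl : Set.range l ⊆ Set.range Z.ι := by
        rintro _ ⟨a, rfl⟩
        rw [Scheme.Opens.range_ι]
        intro ha
        refine hy' ?_
        have hr : Set.range l ⊆ Set.range Δ := by
          rintro _ ⟨b, rfl⟩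
          rwa [@Subsingleton.elim _ (inferInstanceAs (Subsingleton (PrimeSpectrum Ω))) b a]
        have h1 := IsOpenImmersion.lift_fac Δ l hr
        have e1 := congrArg (· ≫ pullback.fst π π) h1
        have e2 := congrArg (· ≫ pullback.snd π π) h1
        simp only [Δ, l, Category.assoc, pullback.diagonal_fst, pullback.diagonal_snd, Category.comp_id,
          pullback.lift_fst, pullback.lift_snd] at e1 e2
        exact e2.symm.trans e1
      refine ⟨⟨IsOpenImmersion.lift Z.ι l hl, ?_⟩, ?_⟩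
      · simp [p, IsOpenImmersion.lift_fac_assoc, l]
      · simp [q, IsOpenImmersion.lift_fac_assoc, l]
  refine ⟨Z.toScheme, p, q, inferInstanceAs (IsFinite (Z.ι ≫ _)), inferInstanceAs (Etale (Z.ι ≫ _)), hpq, ?_, key⟩
  intro Ω _ _ y
  obtain ⟨hinj, hne, hsurj⟩ := key Ω y
  haveI : Finite (Pts π (y ≫ π)) := H13AlgSp.Degree.finite_pts_of_isFinite π _
  let e : Pts p y → {y' : Pts π (y ≫ π) // y' ≠ ⟨y, rfl⟩} := fun z =>
    ⟨⟨z.1 ≫ q, by rw [Category.assoc, ← hpq, ← Category.assoc, z.2]⟩, fun e => hne z (congrArg Subtype.val e)⟩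
  have he : Function.Bijective e := by
    refine ⟨fun z z' e => hinj trivial trivial (congrArg (fun w => w.1.1) e), fun y' => ?_⟩
    obtain ⟨z, hz⟩ := hsurj y'.1 (fun e => y'.2 (Subtype.ext e))
    exact ⟨z, Subtype.ext (Subtype.ext hz)⟩
  classical
  haveI := Fintype.ofFinite (Pts π (y ≫ π))
  have := h Ω (y ≫ π)
  rw [Nat.card_eq_fintype_card] at this
  rw [Nat.card_congr (Equiv.ofBijective e he), Nat.card_eq_fintype_card, Fintype.card_subtype_compl,
    Fintype.card_subtype_eq, this]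
  omega

/-- A cover of degree `n` acquires `n` pointwise distinct sections on a cover of degree `n!`. -/
theorem exists_sections : ∀ (n : ℕ) {U S : Scheme.{u}} (π : U ⟶ S) [IsFinite π] [Etale π], HasDeg π n →
    ∃ (T : Scheme.{u}) (t : T ⟶ S) (σ : Fin n → (T ⟶ U)), IsFinite t ∧ Etale t ∧ HasDeg t n.factorial ∧
      (∀ i, σ i ≫ π = t) ∧
      ∀ (Ω : Type u) [Field Ω] [IsAlgClosed Ω] (x : Spec (CommRingCat.of Ω) ⟶ T)
        (s : Spec (CommRingCat.of Ω) ⟶ U), s ≫ π = x ≫ t → ∃! i, x ≫ σ i = s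
  | 0, U, S, π, _, _, h => by
    refine ⟨S, 𝟙 S, Fin.elim0, inferInstance, inferInstance, fun Ω _ _ η => ?_, fun i => i.elim0, fun Ω _ _ x s hs => ?_⟩
    · haveI : Subsingleton (Pts (𝟙 S) η) := ⟨fun a b => Subtype.ext (by
        rw [← Category.comp_id a.1, ← Category.comp_id b.1]; exact a.2.trans b.2.symm)⟩
      haveI : Nonempty (Pts (𝟙 S) η) := ⟨⟨η, Category.comp_id η⟩⟩
      rw [Nat.factorial_zero, Nat.card_unique]
    · haveI : Finite (Pts π (x ≫ 𝟙 S)) := H13AlgSp.Degree.finite_pts_of_isFinite π _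
      haveI : IsEmpty (Pts π (x ≫ 𝟙 S)) :=
        ((Nat.card_eq_zero.1 (h Ω (x ≫ 𝟙 S))).resolve_right (not_infinite_iff_finite.2 ‹_›))
      exact isEmptyElim (⟨s, hs⟩ : Pts π (x ≫ 𝟙 S))
  | m + 1, U, S, π, _, _, h => by
    obtain ⟨Z, p, q, hp, hp', hpq, hdeg, hkey⟩ := card_offDiag π m h
    haveI := hp
    haveI := hp'
    obtain ⟨T, t, σ, ht, ht', hdt, hσ, hbij⟩ := exists_sections m p hdeg
    haveI := ht
    haveI := ht'
    refine ⟨T, t ≫ π, Fin.cons t (fun i => σ i ≫ q), inferInstance, inferInstance, ?_, ?_, ?_⟩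
    · intro Ω _ _ η
      let e : Pts (t ≫ π) η ≃ Σ y : Pts π η, Pts t y.1 :=
        { toFun := fun x => ⟨⟨x.1 ≫ t, by rw [Category.assoc, x.2]⟩, ⟨x.1, rfl⟩⟩
          invFun := fun y => ⟨y.2.1, by rw [← Category.assoc, y.2.2, y.1.2]⟩
          left_inv := fun x => rfl
          right_inv := by
            rintro ⟨⟨y, hy⟩, x, hx⟩
            dsimp at hx
            subst hx
            rfl }
      haveI : Finite (Pts π η) := H13AlgSp.Degree.finite_pts_of_isFinite π η
      haveI := Fintype.ofFinite (Pts π η)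
      haveI : ∀ y : Pts π η, Finite (Pts t y.1) := fun y => H13AlgSp.Degree.finite_pts_of_isFinite t _
      have hcard := h Ω η
      rw [Nat.card_eq_fintype_card] at hcard
      rw [Nat.card_congr e, Nat.card_sigma, Finset.sum_congr rfl (fun y _ => hdt Ω y.1), Finset.sum_const,
        Finset.card_univ, hcard, smul_eq_mul, Nat.factorial_succ]
    · intro i
      refine Fin.cases ?_ (fun j => ?_) i
      · simp
      · simp only [Fin.cons_succ, Category.assoc, ← hpq]
        rw [← Category.assoc, hσ]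
    · intro Ω _ _ x s hs
      have hs' : s ≫ π = (x ≫ t) ≫ π := by rw [hs, Category.assoc]
      obtain ⟨hinj, hne, hsurj⟩ := hkey Ω (x ≫ t)
      have hz : ∀ j : Fin m, (x ≫ σ j) ≫ p = x ≫ t := fun j => by rw [Category.assoc, hσ]
      by_cases hst : s = x ≫ t
      · refine ⟨0, by simp [hst], fun i hi => ?_⟩
        refine Fin.cases (fun _ => rfl) (fun j hj => ?_) i hi
        exact (hne ⟨x ≫ σ j, hz j⟩ (by simpa [hst] using hj)).elim
      · obtain ⟨z, hz'⟩ := hsurj ⟨s, hs'⟩ hst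
        obtain ⟨j, hj, huniq⟩ := hbij Ω x z.1 z.2
        refine ⟨j.succ, ?_, fun i hi => ?_⟩
        · simp only [Fin.cons_succ]
          rw [← Category.assoc, hj]
          exact hz'
        · refine Fin.cases (fun h0 => ?_) (fun j' hj' => ?_) i hi
          · exact (hst (by simpa using h0.symm)).elim
          · refine congrArg Fin.succ (huniq j' ?_)
            have e : (⟨x ≫ σ j', hz j'⟩ : Pts p (x ≫ t)) = z :=
              hinj trivial trivial (by simpa using hj'.trans hz'.symm)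
            exact congrArg Subtype.val e

/-- A cover with pointwise distinct and exhaustive sections is split. -/
theorem isSplit_of_sections {S : Scheme.{u}} (Y T : FEt.Cat S) (n : ℕ) (σ : Fin n → (T.left ⟶ Y.left))
    (hσ : ∀ i, σ i ≫ Y.hom = T.hom)
    (hbij : ∀ (Ω : Type u) [Field Ω] [IsAlgClosed Ω] (x : Spec (CommRingCat.of Ω) ⟶ T.left)
        (s : Spec (CommRingCat.of Ω) ⟶ Y.left), s ≫ Y.hom = x ≫ T.hom → ∃! i, x ≫ σ i = s) :
    Pi1.IsSplit ((FEt.restrict T.hom).obj Y) := by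
  haveI : IsFinite Y.hom := Y.prop.1
  haveI : Etale Y.hom := Y.prop.2
  haveI : Etale (pullback.snd Y.hom T.hom) := MorphismProperty.pullback_snd _ _ ‹Etale Y.hom›
  let c : ULift.{u} (Fin n) → (T.left ⟶ pullback Y.hom T.hom) := fun i =>
    pullback.lift (σ i.down) (𝟙 T.left) ((hσ i.down).trans (Category.id_comp _).symm)
  have hc1 : ∀ i, c i ≫ pullback.fst Y.hom T.hom = σ i.down := fun i => pullback.lift_fst _ _ _
  have hc2 : ∀ i, c i ≫ pullback.snd Y.hom T.hom = 𝟙 T.left := fun i => pullback.lift_snd _ _ _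
  haveI : ∀ i, IsOpenImmersion (c i) := fun i => by
    haveI : IsSplitMono (c i) := IsSplitMono.mk' ⟨pullback.snd Y.hom T.hom, hc2 i⟩
    haveI : Etale (c i) := by
      refine MorphismProperty.of_postcomp (W := @Etale) (W' := @Etale) (c i)
        (pullback.snd Y.hom T.hom) inferInstance ?_
      rw [hc2 i]
      infer_instance
    exact IsOpenImmersion.of_flat_of_mono (c i)
  haveI : IsOpenImmersion (Limits.Sigma.desc c) := by
    refine isOpenImmersion_sigmaDesc _ c fun i j hij => Set.disjoint_iff_forall_ne.mpr ?_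
    rintro _ ⟨a, rfl⟩ _ ⟨b, rfl⟩ e
    have hab : a = b := by
      have e2 := congrArg (pullback.snd Y.hom T.hom) e
      rw [← Scheme.Hom.comp_apply, ← Scheme.Hom.comp_apply, hc2, hc2] at e2
      simpa using e2
    subst hab
    obtain ⟨Ω, _, _, x, rfl⟩ := exists_geomPt a
    have hr : Set.range (x ≫ c j) ⊆ Set.range (c i) := by
      rintro _ ⟨v, rfl⟩
      rw [@Subsingleton.elim _ (inferInstanceAs (Subsingleton (PrimeSpectrum Ω))) v (IsLocalRing.closedPoint Ω)]
      exact ⟨pt x, e⟩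
    have hl := IsOpenImmersion.lift_fac (c i) (x ≫ c j) hr
    have hlx : IsOpenImmersion.lift (c i) (x ≫ c j) hr = x := by
      have := congrArg (· ≫ pullback.snd Y.hom T.hom) hl
      rw [Category.assoc, Category.assoc, hc2, hc2, Category.comp_id, Category.comp_id] at this
      exact this
    rw [hlx] at hl
    have h1 := congrArg (· ≫ pullback.fst Y.hom T.hom) hl
    simp only [Category.assoc, hc1] at h1
    obtain ⟨i₀, -, huniq⟩ := hbij Ω x (x ≫ σ i.down) (by rw [Category.assoc, hσ])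
    exact hij (ULift.ext _ _ ((huniq i.down rfl).trans (huniq j.down h1.symm).symm))
  haveI : Surjective (Limits.Sigma.desc c) := Surjective.sigmaDesc_of_union_range_eq_univ
    (Set.eq_univ_of_forall fun z => by
      obtain ⟨Ω, _, _, s, rfl⟩ := exists_geomPt z
      obtain ⟨i, hi, -⟩ := hbij Ω (s ≫ pullback.snd Y.hom T.hom) (s ≫ pullback.fst Y.hom T.hom) (by
        simp [Category.assoc, pullback.condition])
      have hs : s = (s ≫ pullback.snd Y.hom T.hom) ≫ c ⟨i⟩ := by
        apply pullback.hom_ext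
        · rw [Category.assoc _ (c ⟨i⟩), hc1]; exact hi.symm
        · rw [Category.assoc _ (c ⟨i⟩), hc2, Category.comp_id]
      exact Set.mem_iUnion.mpr ⟨⟨i⟩, pt (s ≫ pullback.snd Y.hom T.hom), (congrArg pt hs).symm⟩)
  haveI : IsIso (Limits.Sigma.desc c) :=
    (isIso_iff_isOpenImmersion_and_surjective _).mpr ⟨inferInstance, inferInstance⟩
  refine ⟨ULift.{u} (Fin n), inferInstance, (asIso (Limits.Sigma.desc c)).symm, fun i => ?_⟩
  show Limits.Sigma.ι (fun _ => T.left) i ≫ Limits.Sigma.desc c ≫ pullback.snd Y.hom T.hom = 𝟙 T.left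
  rw [Limits.Sigma.ι_desc_assoc, hc2]

end Groth.Agent.H18PBC.SplitCover
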