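import Groth.Agent.H18PBC.FibreLimit

/-!
# The stalk of a proper direct image is the group of sections on the geometric fibre
-/

set_option autoImplicit false
set_option linter.style.haveILetI false
set_option linter.unusedSectionVars false
set_option backward.isDefEq.respectTransparency false
set_option backward.isDefEq.respectTransparency.types false

universe u

open CategoryTheory CategoryTheory.Limits AlgebraicGeometry Opposite
open scoped Groth.Agent.H18Et

namespace Groth.Agent.H18PBC.Fibre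

open H15Site.SetDescent H18Et LimSec

variable {X Y : Scheme.{u}} {Ω : Type u} [Field Ω] [IsSepClosed Ω] (f : X ⟶ Y)
  (ξ : Spec (CommRingCat.of Ω) ⟶ Y)

theorem jz_w {V : Y.Etale} (z : (Scheme.pointSmallEtale ξ).fiber.obj V) :
    (((EtCoh.bc (pullback.fst f ξ)).obj (EtCoh.top X)).hom ≫ pullback.snd f ξ ≫ z.left) ≫ V.hom =
      (((EtCoh.bc (pullback.fst f ξ)).obj (EtCoh.top X)).hom ≫ pullback.fst f ξ) ≫ f := by
  refine (Category.assoc _ _ _).trans (Eq.trans ?_ (Category.assoc _ _ _).symm)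
  refine congrArg (_ ≫ ·) ?_
  exact (Category.assoc _ _ _).trans ((congrArg (_ ≫ ·) (Over.w z)).trans pullback.condition.symm)

/-- The geometric fibre inside the base change of a pointed neighbourhood. -/
noncomputable def jz {V : Y.Etale} (z : (Scheme.pointSmallEtale ξ).fiber.obj V) :
    (EtCoh.bc (pullback.fst f ξ)).obj (EtCoh.top X) ⟶ (EtCoh.bc (pullback.fst f ξ)).obj ((EtCoh.bc f).obj V) :=
  MorphismProperty.Over.homMk
    (pullback.lift
      (pullback.lift (((EtCoh.bc (pullback.fst f ξ)).obj (EtCoh.top X)).hom ≫ pullback.snd f ξ ≫ z.left)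
        (((EtCoh.bc (pullback.fst f ξ)).obj (EtCoh.top X)).hom ≫ pullback.fst f ξ) (jz_w f ξ z))
      ((EtCoh.bc (pullback.fst f ξ)).obj (EtCoh.top X)).hom (pullback.lift_snd _ _ _))
    (pullback.lift_snd _ _ _) trivial

theorem jz_fst_fst {V : Y.Etale} (z : (Scheme.pointSmallEtale ξ).fiber.obj V) :
    ((jz f ξ z).left ≫ pullback.fst ((EtCoh.bc f).obj V).hom (pullback.fst f ξ)) ≫ pullback.fst V.hom f =
      ((EtCoh.bc (pullback.fst f ξ)).obj (EtCoh.top X)).hom ≫ pullback.snd f ξ ≫ z.left :=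
  (congrArg (· ≫ pullback.fst V.hom f) (pullback.lift_fst _ _ _)).trans (pullback.lift_fst _ _ _)

theorem jz_map {V V' : Y.Etale} (g : V' ⟶ V) (z : (Scheme.pointSmallEtale ξ).fiber.obj V') :
    jz f ξ z ≫ (EtCoh.bc (pullback.fst f ξ)).map ((EtCoh.bc f).map g) =
      jz f ξ ((Scheme.pointSmallEtale ξ).fiber.map g z) := by
  refine bc_bc_hom_ext ?_
  refine Eq.trans ?_ (jz_fst_fst f ξ _).symm
  show (((jz f ξ z).left ≫ ((EtCoh.bc (pullback.fst f ξ)).map ((EtCoh.bc f).map g)).left) ≫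
    pullback.fst _ _) ≫ pullback.fst V.hom f = _
  refine (congrArg (· ≫ pullback.fst V.hom f) ((Category.assoc _ _ _).trans
    ((congrArg (_ ≫ ·) (bc_map_fst (pullback.fst f ξ) ((EtCoh.bc f).map g))).trans (Category.assoc _ _ _).symm))).trans ?_
  refine (Category.assoc _ _ _).trans ((congrArg (_ ≫ ·) (bc_map_fst f g)).trans ?_)
  refine (Category.assoc _ _ _).symm.trans ((congrArg (· ≫ g.left) (jz_fst_fst f ξ z)).trans ?_)
  exact (Category.assoc _ _ _).trans (congrArg (_ ≫ ·) (Category.assoc _ _ _))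

/-- Restriction to the geometric fibre, on sections of a sheaf of sets. -/
noncomputable def resS (G : EtDesc.Sh X) {V : Y.Etale} (z : (Scheme.pointSmallEtale ξ).fiber.obj V)
    (s : G.obj.obj (op ((EtCoh.bc f).obj V))) :
    ((EtDesc.pullSh (pullback.fst f ξ)).obj G).obj.obj (op ((EtCoh.bc (pullback.fst f ξ)).obj (EtCoh.top X))) :=
  ((EtDesc.pullSh (pullback.fst f ξ)).obj G).obj.map (jz f ξ z).op (pullSect (pullback.fst f ξ) G s)

variable [IsProper f]

/-- The map from the geometric fibre to `X` over the strictly henselian local scheme. -/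
noncomputable abbrev tF : pullback f ξ ⟶ XA f ξ :=
  pullback.lift (pullback.snd f ξ ≫ Spec.map (Groth.Agent.H18Et.valueHom ξ)) (pullback.fst f ξ)
    (by rw [Category.assoc, Nbhd.valueHom_toBase, pullback.condition])

theorem tF_snd : tF f ξ ≫ pullback.snd (Nbhd.toBase ξ) f = pullback.fst f ξ := pullback.lift_snd _ _ _

theorem compat_of_graph {T S : Scheme.{u}} (p : T ⟶ S) (a : S ⟶ X) (b : T ⟶ X) (w : p ≫ a = b) {W : X.Etale}
    (m : (EtCoh.bc a).obj (EtCoh.top X) ⟶ (EtCoh.bc a).obj W)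
    (m' : (EtCoh.bc b).obj (EtCoh.top X) ⟶ (EtCoh.bc b).obj W) (α : S ⟶ W.left) (β : T ⟶ W.left)
    (hm : m.left ≫ pullback.fst W.hom a = ((EtCoh.bc a).obj (EtCoh.top X)).hom ≫ α)
    (hm' : m'.left ≫ pullback.fst W.hom b = ((EtCoh.bc b).obj (EtCoh.top X)).hom ≫ β) (h : p ≫ α = β) :
    m' ≫ tm p a b w W = tm p a b w (EtCoh.top X) ≫ (EtCoh.bc p).map m := by
  refine bc_bc_hom_ext ?_
  show ((m'.left ≫ (tm p a b w W).left) ≫ pullback.fst ((EtCoh.bc a).obj W).hom p) ≫ pullback.fst W.hom a =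
    (((tm p a b w (EtCoh.top X)).left ≫ ((EtCoh.bc p).map m).left) ≫ pullback.fst ((EtCoh.bc a).obj W).hom p) ≫
      pullback.fst W.hom a
  refine ((Category.assoc _ _ _).trans ((Category.assoc m'.left _ _).trans ((congrArg (m'.left ≫ ·)
    ((Category.assoc _ _ _).symm.trans (tm_fst_fst p a b w W))).trans hm'))).trans ?_
  refine Eq.symm ((congrArg (· ≫ pullback.fst W.hom a) ((Category.assoc _ _ _).trans
    ((congrArg (_ ≫ ·) (bc_map_fst p m)).trans (Category.assoc _ _ _).symm))).trans ?_)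
  refine (Category.assoc _ _ _).trans ((congrArg (_ ≫ ·) hm).trans ?_)
  refine (Category.assoc _ _ _).symm.trans ((congrArg (· ≫ α) ?_).trans ((Category.assoc _ _ _).trans
    (congrArg (_ ≫ ·) h)))
  exact (congrArg (· ≫ _) (fst_fst_transferMor _ _ _ _ w)).trans (pullback.lift_snd _ _ _)

theorem tF_piX (i : Nbhd.NI ξ) :
    tF f ξ ≫ prj (coneX f ξ) i = pullback.lift (pullback.snd f ξ ≫ (Nbhd.zb ξ i).left) (pullback.fst f ξ)
      ((Category.assoc _ _ _).trans ((congrArg (_ ≫ ·) (Over.w (Nbhd.zb ξ i))).trans pullback.condition.symm)) := by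
  refine pullback.hom_ext ?_ ?_
  · refine (Category.assoc _ _ _).trans ((congrArg (_ ≫ ·) (pullback.lift_fst _ _ _)).trans ?_)
    refine (Category.assoc _ _ _).symm.trans ((congrArg (· ≫ (Nbhd.cone ξ).π.app i) (pullback.lift_fst _ _ _)).trans ?_)
    refine (Category.assoc _ _ _).trans ((congrArg (_ ≫ ·) (Nbhd.valueHom_π ξ i)).trans ?_)
    exact (pullback.lift_fst _ _ _).symm
  · refine (Category.assoc _ _ _).trans ((congrArg (_ ≫ ·) (coneX_hom f ξ i)).trans ?_)
    exact (tF_snd f ξ).trans (pullback.lift_snd _ _ _).symm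

theorem transfer_phi (G : EtDesc.Sh X) (i : Nbhd.NI ξ) (s : G.obj.obj (op ((TX f ξ).obj i))) :
    transfer (tF f ξ) (pullback.snd (Nbhd.toBase ξ) f) (pullback.fst f ξ) (tF_snd f ξ) G (EtCoh.top X)
        (phi (coneX f ξ) (pullback.snd (Nbhd.toBase ξ) f) (coneX_hom f ξ) G i s) =
      resS f ξ G (Nbhd.zb ξ i) s := by
  refine (transfer_map_compat (tF f ξ) _ _ (tF_snd f ξ) G
    (iT (coneX f ξ) (pullback.snd (Nbhd.toBase ξ) f) (coneX_hom f ξ) i) (jz f ξ (Nbhd.zb ξ i)) ?_ _).trans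
    (congrArg _ (transfer_pullSect (tF f ξ) (pullback.snd (Nbhd.toBase ξ) f) (pullback.fst f ξ) (tF_snd f ξ) G s))
  refine compat_of_graph (tF f ξ) _ _ (tF_snd f ξ) _ _ (prj (coneX f ξ) i)
    (pullback.lift (pullback.snd f ξ ≫ (Nbhd.zb ξ i).left) (pullback.fst f ξ)
      ((Category.assoc _ _ _).trans ((congrArg (_ ≫ ·) (Over.w (Nbhd.zb ξ i))).trans pullback.condition.symm)))
    (pullback.lift_fst _ _ _) ?_ ?_
  · refine (pullback.lift_fst _ _ _).trans (pullback.hom_ext ?_ ?_)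
    · exact (pullback.lift_fst _ _ _).trans ((congrArg (_ ≫ ·) (pullback.lift_fst _ _ _)).symm.trans
        (Category.assoc _ _ _).symm)
    · exact (pullback.lift_snd _ _ _).trans ((congrArg (_ ≫ ·) (pullback.lift_snd _ _ _)).symm.trans
        (Category.assoc _ _ _).symm)
  · exact tF_piX f ξ i

theorem instances_TX : (∀ ⦃a b : Nbhd.NI ξ⦄ (g : a ⟶ b), IsAffineHom ((sch (TX f ξ)).map g)) ∧
    (∀ a, CompactSpace ((sch (TX f ξ)).obj a)) ∧ (∀ a, QuasiSeparatedSpace ((sch (TX f ξ)).obj a)) := by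
  refine ⟨fun a b g => ?_, fun a => ?_, fun a => ?_⟩
  · haveI : IsAffineHom ((Nbhd.nb ξ).map g).left := isAffineHom_of_isAffine _
    exact MorphismProperty.of_isPullback (P := @IsAffineHom) (EtCoh.isPullback_bc_map f ((Nbhd.nb ξ).map g)).flip
      inferInstance
  · haveI : CompactSpace ↥((𝟭 Scheme.{u}).obj ((Nbhd.nb ξ).obj a).left) :=
      inferInstanceAs (CompactSpace ((Nbhd.nb ξ).obj a).left)
    show CompactSpace (pullback ((Nbhd.nb ξ).obj a).hom f : Scheme.{u})
    exact QuasiCompact.compactSpace_of_compactSpace (pullback.fst ((Nbhd.nb ξ).obj a).hom f)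
  · haveI : QuasiSeparatedSpace ↥((𝟭 Scheme.{u}).obj ((Nbhd.nb ξ).obj a).left) :=
      inferInstanceAs (QuasiSeparatedSpace ((Nbhd.nb ξ).obj a).left)
    show QuasiSeparatedSpace (pullback ((Nbhd.nb ξ).obj a).hom f : Scheme.{u})
    exact quasiSeparatedSpace_of_quasiSeparated (pullback.fst ((Nbhd.nb ξ).obj a).hom f)

/-- Every section on the geometric fibre comes from a neighbourhood, uniquely near the point. -/
theorem resS_bijective (G : EtDesc.Sh X) :
    (∀ σ, ∃ (i : Nbhd.NI ξ) (s : G.obj.obj (op ((TX f ξ).obj i))), resS f ξ G (Nbhd.zb ξ i) s = σ) ∧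
    (∀ (i : Nbhd.NI ξ) (s t : G.obj.obj (op ((TX f ξ).obj i))),
      resS f ξ G (Nbhd.zb ξ i) s = resS f ξ G (Nbhd.zb ξ i) t →
      ∃ (k : Nbhd.NI ξ) (a : k ⟶ i), G.obj.map ((TX f ξ).map a).op s = G.obj.map ((TX f ξ).map a).op t) := by
  obtain ⟨h1, h2, h3⟩ := instances_TX f ξ
  haveI := h1; haveI := h2; haveI := h3
  have hT := bijective_transfer (tF f ξ) (pullback.snd (Nbhd.toBase ξ) f) (pullback.fst f ξ) (tF_snd f ξ) G
    (bijective_pullSect_fibre f ξ _)
  obtain ⟨hs, hi⟩ := phi_bijective (coneX f ξ) (pullback.snd (Nbhd.toBase ξ) f) (coneX_hom f ξ) G (isLimitConeX f ξ)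
  refine ⟨fun σ => ?_, fun i s t e => hi i s t (hT.1 ?_)⟩
  · obtain ⟨x, rfl⟩ := hT.2 σ
    obtain ⟨i, s, rfl⟩ := hs x
    exact ⟨i, s, (transfer_phi f ξ G i s).symm⟩
  · rw [transfer_phi, transfer_phi, e]

variable [EtCoh.BCCont f] [EtCoh.BCCont (pullback.fst f ξ)] (F : EtCoh.Ab X)

/-- Restriction to the geometric fibre, on sections of an abelian sheaf. -/
noncomputable def resA {V : Y.Etale} (z : (Scheme.pointSmallEtale ξ).fiber.obj V) :
    ((EtCoh.push f).obj F).obj.obj (op V) ⟶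
      ((EtCoh.pull (pullback.fst f ξ)).obj F).obj.obj (op ((EtCoh.bc (pullback.fst f ξ)).obj (EtCoh.top X))) :=
  ((EtCoh.pullPushAdj (pullback.fst f ξ)).unit.app F).hom.app (op ((EtCoh.bc f).obj V)) ≫
    ((EtCoh.pull (pullback.fst f ξ)).obj F).obj.map (jz f ξ z).op

theorem resA_w {V V' : Y.Etale} (g : V' ⟶ V) (z : (Scheme.pointSmallEtale ξ).fiber.obj V') :
    ((EtCoh.push f).obj F).obj.map g.op ≫ resA f ξ F z = resA f ξ F ((Scheme.pointSmallEtale ξ).fiber.map g z) := by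
  show F.obj.map ((EtCoh.bc f).map g).op ≫ _ ≫ _ = _ ≫ _
  refine (Category.assoc _ _ _).symm.trans ((congrArg (· ≫ _)
    (((EtCoh.pullPushAdj (pullback.fst f ξ)).unit.app F).hom.naturality ((EtCoh.bc f).map g).op)).trans ?_)
  refine (Category.assoc _ _ _).trans (congrArg (_ ≫ ·) ?_)
  refine ((EtCoh.pull (pullback.fst f ξ)).obj F).obj.map_comp _ _ |>.symm.trans ?_
  exact congrArg ((EtCoh.pull (pullback.fst f ξ)).obj F).obj.map
    ((op_comp).symm.trans (congrArg Quiver.Hom.op (jz_map f ξ g z)))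

/-- The canonical map from the stalk to the sections on the geometric fibre. -/
noncomputable def stalkRes : (EtCoh.stalk ξ).obj ((EtCoh.push f).obj F) ⟶
    ((EtCoh.pull (pullback.fst f ξ)).obj F).obj.obj (op ((EtCoh.bc (pullback.fst f ξ)).obj (EtCoh.top X))) :=
  (Scheme.pointSmallEtale ξ).presheafFiberDesc (fun _ z => resA f ξ F z) fun _ _ g z => resA_w f ξ F g z

theorem stalkRes_germ {V : Y.Etale} (z : (Scheme.pointSmallEtale ξ).fiber.obj V)
    (s : EtCoh.sect ((EtCoh.push f).obj F) V) :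
    stalkRes f ξ F (germ ξ ((EtCoh.push f).obj F) V z s) = resA f ξ F z s :=
  ConcreteCategory.congr_hom ((Scheme.pointSmallEtale ξ).toPresheafFiber_presheafFiberDesc
    (P := ((EtCoh.push f).obj F).obj) (fun _ z => resA f ξ F z) (fun _ _ g z => resA_w f ξ F g z) V z) s

theorem resA_eq {V : Y.Etale} (z : (Scheme.pointSmallEtale ξ).fiber.obj V)
    (s : EtCoh.sect ((EtCoh.push f).obj F) V) :
    resA f ξ F z s = (pullCmp (pullback.fst f ξ) F).hom.app
      (op ((EtCoh.bc (pullback.fst f ξ)).obj (EtCoh.top X))) (resS f ξ (und F) z s) := by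
  unfold resS
  refine Eq.trans ?_ (NatTrans.naturality_apply (pullCmp (pullback.fst f ξ) F).hom (jz f ξ z).op _).symm
  exact congrArg (((EtCoh.pull (pullback.fst f ξ)).obj F).obj.map (jz f ξ z).op)
    (pullCmp_pullSect (pullback.fst f ξ) F (U := (EtCoh.bc f).obj V) s).symm

theorem exists_germ_index (p : ToType ((EtCoh.stalk ξ).obj ((EtCoh.push f).obj F))) :
    ∃ (i : Nbhd.NI ξ) (s : EtCoh.sect ((EtCoh.push f).obj F) ((Nbhd.nb ξ).obj i)),
      germ ξ ((EtCoh.push f).obj F) ((Nbhd.nb ξ).obj i) (Nbhd.zb ξ i) s = p := by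
  obtain ⟨V, z, s, rfl⟩ := germ_surjective ξ ((EtCoh.push f).obj F) p
  obtain ⟨i, ⟨g, hg⟩⟩ := Nbhd.exists_index ξ ⟨V, z⟩
  refine ⟨i, ((EtCoh.push f).obj F).obj.map g.op s, ?_⟩
  refine ((Scheme.pointSmallEtale ξ).toPresheafFiber_w_apply g (Nbhd.zb ξ i) ((EtCoh.push f).obj F).obj s).trans ?_
  exact congrArg (fun y => germ ξ ((EtCoh.push f).obj F) V y s) hg

theorem stalkRes_bijective : Function.Bijective (stalkRes f ξ F) := by
  haveI := isIso_pullCmp (pullback.fst f ξ) F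
  have hc : Function.Bijective ((pullCmp (pullback.fst f ξ) F).hom.app
      (op ((EtCoh.bc (pullback.fst f ξ)).obj (EtCoh.top X)))) :=
    (isIso_iff_bijective _).1 (inferInstance :
      IsIso (((sheafToPresheaf _ _).map (pullCmp (pullback.fst f ξ) F)).app
        (op ((EtCoh.bc (pullback.fst f ξ)).obj (EtCoh.top X)))))
  obtain ⟨hs, hi⟩ := resS_bijective f ξ (und F)
  refine ⟨(injective_iff_map_eq_zero (stalkRes f ξ F).hom).2 fun p hp => ?_, fun σ => ?_⟩
  · obtain ⟨i, s, rfl⟩ := exists_germ_index f ξ F p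
    have e : resA f ξ F (Nbhd.zb ξ i) s = resA f ξ F (Nbhd.zb ξ i) 0 := by
      rw [← stalkRes_germ, map_zero]
      exact hp
    rw [resA_eq, resA_eq] at e
    let z₀ : EtCoh.sect F ((TX f ξ).obj i) := 0
    obtain ⟨k, a, hk⟩ := hi i s z₀ (hc.1 e)
    have hk' : ((EtCoh.push f).obj F).obj.map ((Nbhd.nb ξ).map a).op s = 0 := hk.trans (map_zero (F.obj.map ((TX f ξ).map a).op).hom)
    have hw := (Scheme.pointSmallEtale ξ).toPresheafFiber_w_apply ((Nbhd.nb ξ).map a) (Nbhd.zb ξ k)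
      ((EtCoh.push f).obj F).obj s
    rw [hk', map_zero, Nbhd.zb_map] at hw
    exact hw.symm
  · obtain ⟨τ, rfl⟩ := hc.2 σ
    obtain ⟨i, s, rfl⟩ := hs τ
    exact ⟨germ ξ ((EtCoh.push f).obj F) ((Nbhd.nb ξ).obj i) (Nbhd.zb ξ i) s,
      (stalkRes_germ f ξ F (V := (Nbhd.nb ξ).obj i) _ s).trans (resA_eq f ξ F (V := (Nbhd.nb ξ).obj i) _ s)⟩

end Groth.Agent.H18PBC.Fibre
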