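import Groth.Agent.H28Top.Spectral
import Mathlib.Topology.Sets.Opens
import Mathlib.Topology.Connected.Clopen

/-!
# A finite compatible refinement near a closed subset meeting point closures in connected sets
-/

set_option autoImplicit false

universe u

open TopologicalSpace

namespace Groth.Agent.H18PBC

variable {X : Type u} [TopologicalSpace X]

/-- Given opens around the points of `Z` and open equivalence loci between them containing the points of `Z`,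
one may shrink to finitely many opens covering `X` on whose overlaps the loci are everything. -/
theorem exists_compatible_refinement [SpectralSpace X] {Z : Set X} (hZ : IsClosed Z)
    (hconn : ∀ x : X, IsConnected (Z ∩ closure {x})) (W : Z → Opens X) (hW : ∀ a : Z, a.1 ∈ W a)
    (E : Z → Z → Set X) (hEo : ∀ a b, IsOpen (E a b))
    (hEZ : ∀ a b, ∀ z : X, z ∈ Z → z ∈ W a → z ∈ W b → z ∈ E a b)
    (hsymm : ∀ a b, ∀ x ∈ E a b, x ∈ E b a)
    (htrans : ∀ a b c, ∀ x ∈ E a b, x ∈ E b c → x ∈ E a c) :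
    ∃ (t : Finset Z) (O : Z → Opens X), (∀ a, O a ≤ W a) ∧ (∀ x : X, ∃ a ∈ t, x ∈ O a) ∧
      ∀ a ∈ t, ∀ c ∈ t, ∀ x, x ∈ O a → x ∈ O c → x ∈ E a c := by
  classical
  have key : ∀ (x : X) (z w : Z), x ⤳ z.1 → x ⤳ w.1 → x ∈ E z w := by
    intro x z w hxz hxw
    haveI := isConnected_iff_connectedSpace.1 (hconn x)
    let T : Set ↥(Z ∩ closure {x}) := {v | x ∈ E z ⟨v.1, v.2.1⟩}
    have hstep : ∀ v v' : ↥(Z ∩ closure {x}), v'.1 ∈ W ⟨v.1, v.2.1⟩ → x ∈ E ⟨v.1, v.2.1⟩ ⟨v'.1, v'.2.1⟩ :=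
      fun v v' hv' => (specializes_iff_mem_closure.2 v'.2.2).mem_open (hEo _ _) (hEZ _ _ v'.1 v'.2.1 hv' (hW _))
    have hT : IsClopen T := by
      refine ⟨isOpen_compl_iff.1 (isOpen_iff_forall_mem_open.2 fun v hv => ?_),
        isOpen_iff_forall_mem_open.2 fun v hv => ?_⟩
      · exact ⟨Subtype.val ⁻¹' (W ⟨v.1, v.2.1⟩ : Set X), fun v' hv' h => hv (htrans _ _ _ _ h (hsymm _ _ _ (hstep v v' hv'))),
          (W _).isOpen.preimage continuous_subtype_val, hW _⟩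
      · exact ⟨Subtype.val ⁻¹' (W ⟨v.1, v.2.1⟩ : Set X), fun v' hv' => htrans _ _ _ _ hv (hstep v v' hv'),
          (W _).isOpen.preimage continuous_subtype_val, hW _⟩
    have hzT : (⟨z.1, z.2, specializes_iff_mem_closure.1 hxz⟩ : ↥(Z ∩ closure {x})) ∈ T :=
      hxz.mem_open (hEo _ _) (hEZ _ _ z.1 z.2 (hW _) (hW _))
    have h := hT.eq_univ ⟨_, hzT⟩
    exact Set.eq_univ_iff_forall.1 h ⟨w.1, w.2, specializes_iff_mem_closure.1 hxw⟩
  have hzx : ∀ x : X, ∃ z : Z, x ⤳ z.1 := fun x => by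
    obtain ⟨z, hzZ, hz⟩ := (hconn x).nonempty
    exact ⟨⟨z, hzZ⟩, specializes_iff_mem_closure.2 hz⟩
  choose zx hzx using hzx
  have hV : ∀ a : Z, ∃ V : Set X, IsOpen V ∧ IsCompact V ∧ a.1 ∈ V ∧ V ⊆ W a := fun a => by
    obtain ⟨V, ⟨h1, h2⟩, h3, h4⟩ :=
      PrespectralSpace.isTopologicalBasis.exists_subset_of_mem_open (hW a) (W a).isOpen
    exact ⟨V, h1, h2, h3, h4⟩
  choose V hVo hVc hVmem hVW using hV
  obtain ⟨t, ht⟩ := hZ.isCompact.elim_finite_subcover V hVo fun z hzZ => Set.mem_iUnion.2 ⟨⟨z, hzZ⟩, hVmem _⟩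
  let B : Z → Z → Set X := fun a b => ((V a ∩ V b) ∩ (E a b)ᶜ) ∩ {x | ∃ e ∈ Z ∩ V b, x ⤳ e}
  have hB : ∀ a b, @IsClosed X (constructibleTopology X) (B a b) := fun a b => by
    refine @IsClosed.inter X _ _ (constructibleTopology X) ?_
      (H28Top.isClosed_constr_generalization ((hVc b).inter_left hZ))
    refine @IsClosed.inter X _ _ (constructibleTopology X) ?_
      (H28Top.isClosed_constr_of_isClosed (hEo a b).isClosed_compl)
    exact H28Top.isClosed_constr_of_compactOpen ((hVo a).inter (hVo b))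
      (QuasiSeparatedSpace.inter_isCompact (V a) (V b) (hVo a) (hVc a) (hVo b) (hVc b))
  let O : Z → Opens X := fun a => ⟨V a ∩ ⋂ b : t, (closure (B a b.1))ᶜ,
    (hVo a).inter (isOpen_iInter_of_finite fun b => isClosed_closure.isOpen_compl)⟩
  refine ⟨t, O, fun a x hx => hVW a hx.1, fun x => ?_, fun a _ c _ x hxa hxc => ?_⟩
  · obtain ⟨a, ha, hza⟩ := Set.mem_iUnion₂.1 (ht (zx x).2)
    refine ⟨a, ha, (hzx x).mem_open (hVo a) hza, Set.mem_iInter.2 fun b hb => ?_⟩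
    obtain ⟨e, ⟨⟨⟨-, -⟩, hne⟩, ⟨w, ⟨hwZ, hwb⟩, hew⟩⟩, hex⟩ :=
      H28Top.exists_specializes_of_mem_closure (hB a b.1) hb
    have hez := hex.trans (hzx x)
    have h1 : e ∈ E a (zx x) := hez.mem_open (hEo _ _) (hEZ _ _ _ (zx x).2 (hVW a hza) (hW _))
    have h2 : e ∈ E ⟨w, hwZ⟩ b.1 := hew.mem_open (hEo _ _) (hEZ _ _ _ hwZ (hW ⟨w, hwZ⟩) (hVW _ hwb))
    exact hne (htrans _ _ _ _ h1 (htrans _ _ _ _ (key e _ _ hez hew) h2))
  · obtain ⟨b, hb, hzb⟩ := Set.mem_iUnion₂.1 (ht (zx x).2)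
    have hxb : x ∈ V b := (hzx x).mem_open (hVo b) hzb
    have hmem : ∀ {d : Z}, x ∈ O d → x ∈ E d b := fun {d} hd => by
      by_contra hne
      exact Set.mem_iInter.1 hd.2 ⟨b, hb⟩ (subset_closure ⟨⟨⟨hd.1, hxb⟩, hne⟩, (zx x).1, ⟨(zx x).2, hzb⟩, hzx x⟩)
    exact htrans _ _ _ _ (hmem hxa) (hsymm _ _ _ (hmem hxc))

end Groth.Agent.H18PBC
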