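import Groth.Agent.H18PBC.AbCompare
import Groth.Agent.H15Site.SetDescent.Apps

/-!
# Bijectivity of composite inverse images of sections
-/

set_option autoImplicit false
set_option linter.style.haveILetI false
set_option linter.unusedSectionVars false
set_option backward.isDefEq.respectTransparency false
set_option backward.isDefEq.respectTransparency.types false

universe u

open CategoryTheory CategoryTheory.Limits AlgebraicGeometry Opposite
open scoped Groth.Agent.H18Et

namespace Groth.Agent.H18PBC

open H15Site.SetDescent H18Et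

variable {T S X : Scheme.{u}}

/-- Bijectivity at the top object gives bijectivity at isomorphic objects. -/
theorem bijective_pullSect_of_iso (p : T ⟶ S) (G : EtDesc.Sh S) {U V : S.Etale} (e : U ≅ V)
    (h : Function.Bijective (pullSect p G (U := V))) : Function.Bijective (pullSect p G (U := U)) := by
  have h1 := bijective_map_iso G.obj e
  have h2 := bijective_map_iso ((EtDesc.pullSh p).obj G).obj ((EtCoh.bc p).mapIso e)
  have h3 : Function.Bijective (pullSect p G (U := U) ∘ G.obj.map e.hom.op) := by
    have e' : pullSect p G (U := U) ∘ G.obj.map e.hom.op =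
        ((EtDesc.pullSh p).obj G).obj.map ((EtCoh.bc p).map e.hom).op ∘ pullSect p G (U := V) :=
      funext fun s => pullSect_map p G e.hom s
    rw [e']
    exact h2.comp h
  exact (Function.Bijective.of_comp_iff _ h1).1 h3

/-- Transfer at the top object is bijective. -/
theorem bijective_transfer (p : T ⟶ S) (a : S ⟶ X) (b : T ⟶ X) (w : p ≫ a = b) (G : EtDesc.Sh X)
    (h : Function.Bijective (pullSect p ((EtDesc.pullSh a).obj G) (U := EtCoh.top S))) :
    Function.Bijective (transfer p a b w G (EtCoh.top X)) := by
  have hA := bijective_pullSect_of_iso p ((EtDesc.pullSh a).obj G) (EtCore.bcTopIso a) h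
  have hB : Function.Bijective ((EtDesc.pullVia p a b w G).hom.hom.app
      (op ((EtCoh.bc p).obj ((EtCoh.bc a).obj (EtCoh.top X))))) :=
    (isIso_iff_bijective _).1 (inferInstance :
      IsIso (((sheafToPresheaf _ _).map (EtDesc.pullVia p a b w G).hom).app
        (op ((EtCoh.bc p).obj ((EtCoh.bc a).obj (EtCoh.top X))))))
  let e : (EtCoh.bc b).obj (EtCoh.top X) ≅ (EtCoh.bc p).obj ((EtCoh.bc a).obj (EtCoh.top X)) :=
    (EtCore.bcTopIsTerminal b).uniqueUpToIso (IsTerminal.isTerminalObj (EtCoh.bc p) _ (EtCore.bcTopIsTerminal a))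
  have he : tm p a b w (EtCoh.top X) = e.hom :=
    (IsTerminal.isTerminalObj (EtCoh.bc p) _ (EtCore.bcTopIsTerminal a)).hom_ext _ _
  have hC : Function.Bijective (((EtDesc.pullSh b).obj G).obj.map (tm p a b w (EtCoh.top X)).op) :=
    he ▸ bijective_map_iso ((EtDesc.pullSh b).obj G).obj e
  exact hC.comp (hB.comp hA)

/-- Inverse image of sections along a composite. -/
theorem bijective_pullSect_comp (p : T ⟶ S) (a : S ⟶ X) (b : T ⟶ X) (w : p ≫ a = b) (G : EtDesc.Sh X)
    (ha : Function.Bijective (pullSect a G (U := EtCoh.top X)))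
    (hp : Function.Bijective (pullSect p ((EtDesc.pullSh a).obj G) (U := EtCoh.top S))) :
    Function.Bijective (pullSect b G (U := EtCoh.top X)) := by
  have e : pullSect b G (U := EtCoh.top X) = transfer p a b w G (EtCoh.top X) ∘ pullSect a G (U := EtCoh.top X) :=
    funext fun s => (transfer_pullSect p a b w G s).symm
  rw [e]
  exact (bijective_transfer p a b w G hp).comp ha

/-- Transfer commutes with restriction along compatible maps. -/
theorem transfer_map_compat (p : T ⟶ S) (a : S ⟶ X) (b : T ⟶ X) (w : p ≫ a = b) (G : EtDesc.Sh X) {W W' : X.Etale}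
    (m : (EtCoh.bc a).obj W' ⟶ (EtCoh.bc a).obj W) (m' : (EtCoh.bc b).obj W' ⟶ (EtCoh.bc b).obj W)
    (h : m' ≫ tm p a b w W = tm p a b w W' ≫ (EtCoh.bc p).map m)
    (x : ((EtDesc.pullSh a).obj G).obj.obj (op ((EtCoh.bc a).obj W))) :
    transfer p a b w G W' (((EtDesc.pullSh a).obj G).obj.map m.op x) =
      ((EtDesc.pullSh b).obj G).obj.map m'.op (transfer p a b w G W x) := by
  unfold transfer
  rw [pullSect_map, NatTrans.naturality_apply (EtDesc.pullVia p a b w G).hom.hom, ← Functor.map_comp_apply,
    ← Functor.map_comp_apply, ← op_comp, ← op_comp, h]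

end Groth.Agent.H18PBC
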